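import Groth.Agent.SGA4h.K557.RDerDelta

/-!
# The abstract base change maps for `Functor.rightDerived`

Setting: `Φ : A' ⥤ A` preserving injectives, `Ψ : A ⥤ B`, `Φ₂ : A' ⥤ B'`, `Ψ₂ : B' ⥤ B` left exact, all additive, and
`e : Φ ⋙ Ψ ≅ Φ₂ ⋙ Ψ₂` (`Φ = g'_*`, `Ψ = f_*`, `Φ₂ = f'_*`, `Ψ₂ = g_*`).  For `θ : F ⟶ Φ M`,
`adjMap e θ q : R^qΨ(F) ⟶ Ψ₂ (R^qΦ₂(M))`.
* `adjMap_eq`: computed with arbitrary injective resolutions of `F`, `M` and any lift of `θ`;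
* `adjMap_naturality`, `adjMap_δ` (connecting maps), `toRightDerivedZero_adjMap` (degree zero);
* `adjMap_congr` (change of the functors), `adjMap_comp` (composition of base changes).
-/

set_option autoImplicit false
set_option backward.isDefEq.respectTransparency false
universe v₁ v₂ v₃ v₄ v₅ v₆ u₁ u₂ u₃ u₄ u₅ u₆

open CategoryTheory CategoryTheory.Limits HomologicalComplex

noncomputable section

namespace K557.BcAbs

open RDer K557.RDerRes K557.RDerDelta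

variable {A : Type u₁} [Category.{v₁} A] [Abelian A] [HasInjectiveResolutions A]
  {A' : Type u₂} [Category.{v₂} A'] [Abelian A'] [HasInjectiveResolutions A']
  {B : Type u₃} [Category.{v₃} B] [Abelian B]
  {B' : Type u₄} [Category.{v₄} B'] [Abelian B']
  {Φ : A' ⥤ A} [Φ.Additive] [Φ.PreservesInjectiveObjects] {Ψ : A ⥤ B} [Ψ.Additive]
  {Φ₂ : A' ⥤ B'} [Φ₂.Additive] {Ψ₂ : B' ⥤ B} [Ψ₂.Additive] [PreservesFiniteLimits Ψ₂]
  (e : Φ ⋙ Ψ ≅ Φ₂ ⋙ Ψ₂)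

/-- `R^qΨ(F) ⟶ Ψ₂ (R^qΦ₂(M))` for `θ : F ⟶ Φ M`. -/
def adjMap {F : A} {M : A'} (θ : F ⟶ Φ.obj M) (q : ℕ) :
    (Ψ.rightDerived q).obj F ⟶ Ψ₂.obj ((Φ₂.rightDerived q).obj M) :=
  (Ψ.rightDerived q).map θ ≫ edgeIn Φ Ψ q M ≫ (rightDerivedIso e q).hom.app M ≫ edgeOut Φ₂ Ψ₂ q M

/-- The isomorphism of complexes `Ψ (Φ J) ⟶ Ψ₂ (Φ₂ J)`. -/
abbrev ecx (J : CochainComplex A' ℕ) :
    (Ψ.mapHomologicalComplex (ComplexShape.up ℕ)).obj ((Φ.mapHomologicalComplex (ComplexShape.up ℕ)).obj J) ⟶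
      (Ψ₂.mapHomologicalComplex (ComplexShape.up ℕ)).obj
        ((Φ₂.mapHomologicalComplex (ComplexShape.up ℕ)).obj J) :=
  (NatTrans.mapHomologicalComplex e.hom (ComplexShape.up ℕ)).app J

/-- The second half of `adjMap`, computed with a resolution of `M`. -/
def tail {M : A'} (J : InjectiveResolution M) (q : ℕ) :
    ((Ψ.mapHomologicalComplex (ComplexShape.up ℕ)).obj
      ((Φ.mapHomologicalComplex (ComplexShape.up ℕ)).obj J.cocomplex)).homology q ⟶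
      Ψ₂.obj ((Φ₂.rightDerived q).obj M) :=
  homologyMap (ecx e J.cocomplex) q ≫
    homologyComparison Ψ₂ ((Φ₂.mapHomologicalComplex (ComplexShape.up ℕ)).obj J.cocomplex) q ≫
    Ψ₂.map (iso Φ₂ J q).inv

omit [HasInjectiveResolutions A] [Φ.PreservesInjectiveObjects] in
theorem tail_eq {M : A'} (J : InjectiveResolution M) (q : ℕ) :
    (iso (Φ ⋙ Ψ) J q).inv ≫ (rightDerivedIso e q).hom.app M ≫ edgeOut Φ₂ Ψ₂ q M = tail e J q := by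
  rw [rightDerivedIso_hom_app e q J, edgeOut_eq Φ₂ Ψ₂ q J]
  simp only [Category.assoc, Iso.inv_hom_id_assoc]
  rfl

theorem adjMap_eq {F : A} {M : A'} (θ : F ⟶ Φ.obj M) (q : ℕ) (I : InjectiveResolution F)
    (J : InjectiveResolution M) (u : I.cocomplex ⟶ (Φ.mapHomologicalComplex _).obj J.cocomplex)
    (hu : I.ι.f 0 ≫ u.f 0 = θ ≫ Φ.map (J.ι.f 0)) :
    adjMap e θ q = (iso Ψ I q).hom ≫ hmap Ψ u q ≫ tail e J q := by
  rw [adjMap, map_edgeIn_assoc Φ Ψ q θ I J u hu, ← tail_eq e J q]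

theorem adjMap_eq' {F : A} {M : A'} (θ : F ⟶ Φ.obj M) (q : ℕ) (J : InjectiveResolution M) :
    adjMap e θ q = (Ψ.rightDerived q).map θ ≫ toInj Ψ (mapAug Φ J.ι) q ≫ tail e J q := by
  rw [adjMap, edgeIn_eq Φ Ψ q J, ← tail_eq e J q]
  simp only [Category.assoc]

omit [HasInjectiveResolutions A] [HasInjectiveResolutions A'] in
theorem exists_u {F : A} {M : A'} (θ : F ⟶ Φ.obj M) (I : InjectiveResolution F) (J : InjectiveResolution M) :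
    ∃ u : I.cocomplex ⟶ (Φ.mapHomologicalComplex _).obj J.cocomplex,
      I.ι.f 0 ≫ u.f 0 = θ ≫ Φ.map (J.ι.f 0) := by
  obtain ⟨u, hu⟩ := exists_lift θ I.ι (mapAug Φ J.ι)
  exact ⟨u, by rw [hu, mapAug_f_zero]⟩

@[reassoc]
theorem adjMap_naturality {F₁ F₂ : A} {M₁ M₂ : A'} (θ₁ : F₁ ⟶ Φ.obj M₁) (θ₂ : F₂ ⟶ Φ.obj M₂) (a : F₁ ⟶ F₂)
    (b : M₁ ⟶ M₂) (h : θ₁ ≫ Φ.map b = a ≫ θ₂) (q : ℕ) :
    (Ψ.rightDerived q).map a ≫ adjMap e θ₂ q = adjMap e θ₁ q ≫ Ψ₂.map ((Φ₂.rightDerived q).map b) := by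
  have h1 := (rightDerivedIso e q).hom.naturality b
  rw [adjMap, adjMap, ← Functor.map_comp_assoc, ← h, Functor.map_comp_assoc, edgeIn_naturality_assoc,
    reassoc_of% h1, edgeOut_naturality]
  simp only [Category.assoc]

@[reassoc]
theorem adjMap_map {F : A} {M₁ M₂ : A'} (θ : F ⟶ Φ.obj M₁) (b : M₁ ⟶ M₂) (q : ℕ) :
    adjMap e (θ ≫ Φ.map b) q = adjMap e θ q ≫ Ψ₂.map ((Φ₂.rightDerived q).map b) := by
  rw [← adjMap_naturality e θ (θ ≫ Φ.map b) (𝟙 F) b (Category.id_comp _).symm, CategoryTheory.Functor.map_id,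
    Category.id_comp]

theorem map_adjMap {F₁ F₂ : A} {M : A'} (a : F₁ ⟶ F₂) (θ : F₂ ⟶ Φ.obj M) (q : ℕ) :
    adjMap e (a ≫ θ) q = (Ψ.rightDerived q).map a ≫ adjMap e θ q := by
  rw [adjMap_naturality e (a ≫ θ) θ a (𝟙 M) (by rw [CategoryTheory.Functor.map_id, Category.comp_id]),
    CategoryTheory.Functor.map_id, CategoryTheory.Functor.map_id, Category.comp_id]

/-- Degree zero. -/
@[reassoc]
theorem toRightDerivedZero_adjMap {F : A} {M : A'} (θ : F ⟶ Φ.obj M) :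
    Ψ.toRightDerivedZero.app F ≫ adjMap e θ 0 =
      Ψ.map θ ≫ e.hom.app M ≫ Ψ₂.map (Φ₂.toRightDerivedZero.app M) := by
  rw [adjMap, ← Ψ.toRightDerivedZero.naturality_assoc, toRightDerivedZero_edgeIn_assoc,
    toRightDerivedZero_rightDerivedIso_assoc, toRightDerivedZero_edgeOut]

section Delta

variable {S : ShortComplex A} {S' : ShortComplex A'} (T : RDer.SESRes S) (T' : RDer.SESRes S')

omit [HasInjectiveResolutions A] [Φ.PreservesInjectiveObjects] in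
/-- The second half of `adjMap` and connecting maps. -/
theorem tail_δ (hL : ((T'.cx.map (Φ.mapHomologicalComplex _)).map
    (Ψ.mapHomologicalComplex (ComplexShape.up ℕ))).ShortExact) (n₀ n₁ : ℕ) (h : n₀ + 1 = n₁) :
    hL.δ n₀ n₁ h ≫ tail e T'.I₁ n₁ = tail e T'.I₃ n₀ ≫ Ψ₂.map (T'.delta Φ₂ n₀ n₁ h) := by
  have hM : ((T'.cx.map (Φ₂.mapHomologicalComplex _)).map
    (Ψ₂.mapHomologicalComplex (ComplexShape.up ℕ))).ShortExact := T'.map_shortExact (Φ₂ ⋙ Ψ₂)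
  let α : (T'.cx.map (Φ.mapHomologicalComplex _)).map (Ψ.mapHomologicalComplex (ComplexShape.up ℕ)) ⟶
      (T'.cx.map (Φ₂.mapHomologicalComplex _)).map (Ψ₂.mapHomologicalComplex (ComplexShape.up ℕ)) :=
    T'.cx.mapNatTrans (NatTrans.mapHomologicalComplex e.hom (ComplexShape.up ℕ))
  have h1 := HomologicalComplex.HomologySequence.δ_naturality α hL hM n₀ n₁ h
  have h2 := homologyComparison_δ Ψ₂ (T'.map_shortExact Φ₂) hM (fun n => (T'.splitting n).map Φ₂) n₀ n₁ h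
  have h3 : (T'.map_shortExact Φ₂).δ n₀ n₁ h ≫ (iso Φ₂ T'.I₁ n₁).inv =
      (iso Φ₂ T'.I₃ n₀).inv ≫ T'.delta Φ₂ n₀ n₁ h := by
    rw [Iso.eq_inv_comp]
    rfl
  have h4 : Ψ₂.map ((T'.map_shortExact Φ₂).δ n₀ n₁ h) ≫ Ψ₂.map (iso Φ₂ T'.I₁ n₁).inv =
      Ψ₂.map (iso Φ₂ T'.I₃ n₀).inv ≫ Ψ₂.map (T'.delta Φ₂ n₀ n₁ h) := by
    rw [← Ψ₂.map_comp, ← Ψ₂.map_comp, h3]
  calc hL.δ n₀ n₁ h ≫ tail e T'.I₁ n₁
      = (hL.δ n₀ n₁ h ≫ homologyMap α.τ₁ n₁) ≫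
        homologyComparison Ψ₂ ((Φ₂.mapHomologicalComplex (ComplexShape.up ℕ)).obj T'.I₁.cocomplex) n₁ ≫
        Ψ₂.map (iso Φ₂ T'.I₁ n₁).inv := (Category.assoc _ _ _).symm
    _ = (homologyMap α.τ₃ n₀ ≫ hM.δ n₀ n₁ h) ≫
        homologyComparison Ψ₂ ((Φ₂.mapHomologicalComplex (ComplexShape.up ℕ)).obj T'.I₁.cocomplex) n₁ ≫
        Ψ₂.map (iso Φ₂ T'.I₁ n₁).inv := congrArg (· ≫ _) h1
    _ = homologyMap α.τ₃ n₀ ≫ (hM.δ n₀ n₁ h ≫
        homologyComparison Ψ₂ ((Φ₂.mapHomologicalComplex (ComplexShape.up ℕ)).obj T'.I₁.cocomplex) n₁) ≫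
        Ψ₂.map (iso Φ₂ T'.I₁ n₁).inv := by simp only [Category.assoc]
    _ = homologyMap α.τ₃ n₀ ≫ (homologyComparison Ψ₂
        ((Φ₂.mapHomologicalComplex (ComplexShape.up ℕ)).obj T'.I₃.cocomplex) n₀ ≫
          Ψ₂.map ((T'.map_shortExact Φ₂).δ n₀ n₁ h)) ≫
        Ψ₂.map (iso Φ₂ T'.I₁ n₁).inv := congrArg (fun z => homologyMap α.τ₃ n₀ ≫ z ≫ _) h2
    _ = homologyMap α.τ₃ n₀ ≫ homologyComparison Ψ₂
        ((Φ₂.mapHomologicalComplex (ComplexShape.up ℕ)).obj T'.I₃.cocomplex) n₀ ≫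
          Ψ₂.map ((T'.map_shortExact Φ₂).δ n₀ n₁ h) ≫
        Ψ₂.map (iso Φ₂ T'.I₁ n₁).inv := congrArg (fun z => homologyMap α.τ₃ n₀ ≫ z) (Category.assoc _ _ _)
    _ = homologyMap α.τ₃ n₀ ≫ homologyComparison Ψ₂
        ((Φ₂.mapHomologicalComplex (ComplexShape.up ℕ)).obj T'.I₃.cocomplex) n₀ ≫
          Ψ₂.map (iso Φ₂ T'.I₃ n₀).inv ≫ Ψ₂.map (T'.delta Φ₂ n₀ n₁ h) :=
        congrArg (fun z => homologyMap α.τ₃ n₀ ≫ homologyComparison Ψ₂ _ n₀ ≫ z) h4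
    _ = tail e T'.I₃ n₀ ≫ Ψ₂.map (T'.delta Φ₂ n₀ n₁ h) := by
        rw [tail]
        simp only [Category.assoc]
        rfl

/-- `adjMap` commutes with the connecting maps. -/
theorem adjMap_δ (θ : S ⟶ S'.map Φ) (n₀ n₁ : ℕ) (h : n₀ + 1 = n₁) :
    T.delta Ψ n₀ n₁ h ≫ adjMap e (M := S'.X₁) θ.τ₁ n₁ =
      adjMap e (M := S'.X₃) θ.τ₃ n₀ ≫ Ψ₂.map (T'.delta Φ₂ n₀ n₁ h) := by
  have hL : ((T'.cx.map (Φ.mapHomologicalComplex _)).map
    (Ψ.mapHomologicalComplex (ComplexShape.up ℕ))).ShortExact := T'.map_shortExact (Φ ⋙ Ψ)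
  have hinj : ∀ {Z : A'} (J : InjectiveResolution Z) (n : ℕ),
      Injective (((Φ.mapHomologicalComplex (ComplexShape.up ℕ)).obj J.cocomplex).X n) :=
    fun J n => inferInstance
  have haug : ∀ {Z W : A'} (φ : Z ⟶ W) (J : InjectiveResolution Z) (J' : InjectiveResolution W)
      (f : J.cocomplex ⟶ J'.cocomplex) (_ : J.ι ≫ f = (CochainComplex.single₀ A').map φ ≫ J'.ι),
      mapAug Φ J.ι ≫ (Φ.mapHomologicalComplex (ComplexShape.up ℕ)).map f =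
        (CochainComplex.single₀ A).map (Φ.map φ) ≫ mapAug Φ J'.ι := by
    intro Z W φ J J' f hf
    refine HomologicalComplex.from_single_hom_ext ?_
    have h1 := HomologicalComplex.congr_hom hf 0
    rw [HomologicalComplex.comp_f, HomologicalComplex.comp_f, CochainComplex.single₀_map_f_zero] at h1
    have h2 : ((CochainComplex.single₀ A).map (Φ.map φ)).f 0 ≫ (mapAug Φ J'.ι).f 0 =
        Φ.map φ ≫ Φ.map (J'.ι.f 0) := by
      rw [CochainComplex.single₀_map_f_zero, mapAug_f_zero]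
    refine (congrArg (fun z => z ≫ ((Φ.mapHomologicalComplex (ComplexShape.up ℕ)).map f).f 0)
      (mapAug_f_zero Φ J.ι)).trans (Eq.trans ?_ h2.symm)
    exact ((Φ.map_comp _ _).symm.trans (congrArg Φ.map h1)).trans (Φ.map_comp _ _)
  have key := @toInj_δ A _ _ S (S'.map Φ) θ T (T'.cx.map (Φ.mapHomologicalComplex _))
    (hinj T'.I₁) (hinj T'.I₂) (mapAug Φ T'.I₁.ι) (mapAug Φ T'.I₂.ι) (mapAug Φ T'.I₃.ι)
    (haug S'.f T'.I₁ T'.I₂ T'.f T'.ι_f) (haug S'.g T'.I₂ T'.I₃ T'.g T'.ι_g) _ B _ _ Ψ _ (hinj T'.I₃) hL n₀ n₁ h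
  have e1 := adjMap_eq' e (M := S'.X₁) θ.τ₁ n₁ T'.I₁
  have e3 := adjMap_eq' e (M := S'.X₃) θ.τ₃ n₀ T'.I₃
  have ht := tail_δ e T' hL n₀ n₁ h
  rw [e1, e3]
  have s1 := congrArg (fun z => z ≫ tail e T'.I₁ n₁) key
  simp only [Category.assoc] at s1 ⊢
  refine s1.trans ?_
  exact congrArg (fun z => (Ψ.rightDerived n₀).map θ.τ₃ ≫ toInj Ψ (mapAug Φ T'.I₃.ι) n₀ ≫ z) ht

end Delta

end K557.BcAbs
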