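import Groth.Prelude.Def_RDer
import Groth.Agent.RDer.K887.LES
import Groth.Agent.Sga4h.LerayAcyc

/-!
# Calculus of `RDer.edgeIn`, `RDer.edgeOut`, `RDer.precompExact` with arbitrary injective resolutions

* `homotopy ι f g h`: two cochain maps from a resolution `ι : Y ⟶ K` to a complex of injectives which agree on
  `Y` are homotopic; `hmap_eq`: they induce the same map on `H^q(Ψ -)`.
* `toInj Ψ η q : R^qΨ(Y) ⟶ H^q(Ψ L)` for `η : Y ⟶ L`, `L` a complex of injectives; `toInj_eq` (computed with any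
  injective resolution of `Y` and any lift), `toInj_naturality`, `toInj_res`.
* `ofRes Ψ ι q : H^q(Ψ K) ⟶ R^qΨ(Y)` for a resolution `ι : Y ⟶ K` by arbitrary objects; `ofRes_eq`, `ofRes_naturality`.
* `edgeIn_eq`, `edgeOut_eq`, `precompExact_eq`: computed with arbitrary injective resolutions; naturality in the object;
  `edgeIn_isIso` for `Φ`-acyclic objects, `Φ` left exact.
* `toInj_δ`, `homologyComparison_δ`: compatibility with the connecting maps.
-/

set_option autoImplicit false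
set_option backward.isDefEq.respectTransparency false
universe v₁ v₂ v₃ v₄ u₁ u₂ u₃ u₄

open CategoryTheory CategoryTheory.Limits HomologicalComplex

noncomputable section

namespace K557.RDerRes

open RDer

section Homotopy

variable {A : Type u₁} [Category.{v₁} A] [Abelian A]
  {Y : A} {K L : CochainComplex A ℕ} (ι : (CochainComplex.single₀ A).obj Y ⟶ K) [QuasiIso ι]
  [hL : ∀ n, Injective (L.X n)]

/-- Auxiliary for `homotopyZero`. -/
def hz0 (f : K ⟶ L) (h : ι.f 0 ≫ f.f 0 = 0) : K.X 1 ⟶ L.X 0 :=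
  (res_exact₀ K ι).descToInjective (f.f 0) h

@[reassoc (attr := simp)]
lemma comp_hz0 (f : K ⟶ L) (h : ι.f 0 ≫ f.f 0 = 0) : K.d 0 1 ≫ hz0 ι f h = f.f 0 :=
  (res_exact₀ K ι).comp_descToInjective _ _

/-- Auxiliary for `homotopyZero`. -/
def hz1 (f : K ⟶ L) (h : ι.f 0 ≫ f.f 0 = 0) : K.X 2 ⟶ L.X 1 :=
  (res_exact_succ K ι 0).descToInjective (f.f 1 - hz0 ι f h ≫ L.d 0 1)
    (by rw [Preadditive.comp_sub, comp_hz0_assoc ι f h, HomologicalComplex.Hom.comm, sub_self])

@[reassoc (attr := simp)]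
lemma comp_hz1 (f : K ⟶ L) (h : ι.f 0 ≫ f.f 0 = 0) :
    K.d 1 2 ≫ hz1 ι f h = f.f 1 - hz0 ι f h ≫ L.d 0 1 :=
  (res_exact_succ K ι 0).comp_descToInjective _ _

/-- Auxiliary for `homotopyZero`. -/
def hzs (f : K ⟶ L) (n : ℕ) (g : K.X (n + 1) ⟶ L.X n) (g' : K.X (n + 2) ⟶ L.X (n + 1))
    (w : f.f (n + 1) = K.d (n + 1) (n + 2) ≫ g' + g ≫ L.d n (n + 1)) :
    K.X (n + 3) ⟶ L.X (n + 2) :=
  (res_exact_succ K ι (n + 1)).descToInjective (f.f (n + 2) - g' ≫ L.d _ _) (by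
      dsimp
      rw [Preadditive.comp_sub, ← HomologicalComplex.Hom.comm, w, Preadditive.add_comp,
        Category.assoc, Category.assoc, HomologicalComplex.d_comp_d, comp_zero,
        add_zero, sub_self])

@[reassoc (attr := simp)]
lemma comp_hzs (f : K ⟶ L) (n : ℕ) (g : K.X (n + 1) ⟶ L.X n) (g' : K.X (n + 2) ⟶ L.X (n + 1))
    (w : f.f (n + 1) = K.d (n + 1) (n + 2) ≫ g' + g ≫ L.d n (n + 1)) :
    K.d (n + 2) (n + 3) ≫ hzs ι f n g g' w = f.f (n + 2) - g' ≫ L.d _ _ :=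
  (res_exact_succ K ι (n + 1)).comp_descToInjective _ _

/-- A map from a resolution to a complex of injectives which vanishes on the resolved object is homotopic to `0`. -/
def homotopyZero (f : K ⟶ L) (h : ι.f 0 ≫ f.f 0 = 0) : Homotopy f 0 :=
  Homotopy.mkCoinductive _ (hz0 ι f h) (by simp) (hz1 ι f h) (by simp) (fun n ⟨g, g', w⟩ =>
    ⟨hzs ι f n g g' (by simp only [w, add_comm]), by simp⟩)

/-- Two maps from a resolution to a complex of injectives which agree on the resolved object are homotopic. -/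
def homotopy (f g : K ⟶ L) (h : ι.f 0 ≫ f.f 0 = ι.f 0 ≫ g.f 0) : Homotopy f g :=
  Homotopy.equivSubZero.invFun (homotopyZero ι (f - g) (by
    rw [HomologicalComplex.sub_f_apply, Preadditive.comp_sub, h, sub_self]))

variable {B : Type u₂} [Category.{v₂} B] [Abelian B] (Ψ : A ⥤ B) [Ψ.Additive]

/-- The map induced on the cohomology of `Ψ` of complexes. -/
abbrev hmap {K L : CochainComplex A ℕ} (u : K ⟶ L) (q : ℕ) :
    ((Ψ.mapHomologicalComplex (ComplexShape.up ℕ)).obj K).homology q ⟶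
      ((Ψ.mapHomologicalComplex (ComplexShape.up ℕ)).obj L).homology q :=
  homologyMap ((Ψ.mapHomologicalComplex (ComplexShape.up ℕ)).map u) q

lemma hmap_id (K : CochainComplex A ℕ) (q : ℕ) : hmap Ψ (𝟙 K) q = 𝟙 _ := by
  rw [hmap, CategoryTheory.Functor.map_id, homologyMap_id]

lemma hmap_comp {K L M : CochainComplex A ℕ} (u : K ⟶ L) (v : L ⟶ M) (q : ℕ) :
    hmap Ψ (u ≫ v) q = hmap Ψ u q ≫ hmap Ψ v q := by
  rw [hmap, CategoryTheory.Functor.map_comp, homologyMap_comp]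

include ι hL in
theorem hmap_eq (f g : K ⟶ L) (h : ι.f 0 ≫ f.f 0 = ι.f 0 ≫ g.f 0) (q : ℕ) : hmap Ψ f q = hmap Ψ g q :=
  (Ψ.mapHomotopy (homotopy ι f g h)).homologyMap_eq q

end Homotopy

section Calculus

variable {A : Type u₁} [Category.{v₁} A] [Abelian A] [HasInjectiveResolutions A]
  {B : Type u₂} [Category.{v₂} B] [Abelian B] (Ψ : A ⥤ B) [Ψ.Additive]

/-- Mathlib's comparison, with the target in the form used here. -/
abbrev iso {Y : A} (P : InjectiveResolution Y) (q : ℕ) :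
    (Ψ.rightDerived q).obj Y ≅ ((Ψ.mapHomologicalComplex (ComplexShape.up ℕ)).obj P.cocomplex).homology q :=
  P.isoRightDerivedObj Ψ q

@[reassoc]
lemma iso_naturality {X Y : A} (f : X ⟶ Y) (I : InjectiveResolution X) (J : InjectiveResolution Y)
    (φ : I.cocomplex ⟶ J.cocomplex) (comm : I.ι.f 0 ≫ φ.f 0 = f ≫ J.ι.f 0) (q : ℕ) :
    (Ψ.rightDerived q).map f ≫ (iso Ψ J q).hom = (iso Ψ I q).hom ≫ hmap Ψ φ q :=
  InjectiveResolution.isoRightDerivedObj_hom_naturality f I J φ comm Ψ q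

@[reassoc]
lemma iso_inv_naturality {X Y : A} (f : X ⟶ Y) (I : InjectiveResolution X) (J : InjectiveResolution Y)
    (φ : I.cocomplex ⟶ J.cocomplex) (comm : I.ι.f 0 ≫ φ.f 0 = f ≫ J.ι.f 0) (q : ℕ) :
    (iso Ψ I q).inv ≫ (Ψ.rightDerived q).map f = hmap Ψ φ q ≫ (iso Ψ J q).inv := by
  rw [Iso.inv_comp_eq, ← Category.assoc, Iso.eq_comp_inv, iso_naturality Ψ f I J φ comm]

omit [HasInjectiveResolutions A] in
/-- Existence of lifts of the identity between injective resolutions. -/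
lemma exists_desc {X Y : A} (f : X ⟶ Y) (I : InjectiveResolution X) (J : InjectiveResolution Y) :
    ∃ φ : I.cocomplex ⟶ J.cocomplex, I.ι.f 0 ≫ φ.f 0 = f ≫ J.ι.f 0 :=
  ⟨InjectiveResolution.desc f J I, by simp⟩

omit [HasInjectiveResolutions A] in
lemma exists_lift {Y Z : A} (θ : Y ⟶ Z) {K L : CochainComplex A ℕ} (ι : (CochainComplex.single₀ A).obj Y ⟶ K)
    [QuasiIso ι] (η : (CochainComplex.single₀ A).obj Z ⟶ L) [∀ n, Injective (L.X n)] :
    ∃ u : K ⟶ L, ι.f 0 ≫ u.f 0 = θ ≫ η.f 0 :=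
  ⟨descToInjectives θ K ι L η, ι_descToInjectives_f_zero θ K ι L η⟩

/-- `R^qΨ(Y) ⟶ H^q(Ψ L)` for a complex of injectives `L` under `Y`. -/
def toInj {Y : A} {L : CochainComplex A ℕ} [∀ n, Injective (L.X n)]
    (η : (CochainComplex.single₀ A).obj Y ⟶ L) (q : ℕ) :
    (Ψ.rightDerived q).obj Y ⟶ ((Ψ.mapHomologicalComplex (ComplexShape.up ℕ)).obj L).homology q :=
  (iso Ψ (injectiveResolution Y) q).hom ≫
    hmap Ψ (descToInjectives (𝟙 Y) (injectiveResolution Y).cocomplex (injectiveResolution Y).ι L η) q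

theorem toInj_eq {Y : A} {L : CochainComplex A ℕ} [∀ n, Injective (L.X n)]
    (η : (CochainComplex.single₀ A).obj Y ⟶ L) (P : InjectiveResolution Y) (u : P.cocomplex ⟶ L)
    (hu : P.ι.f 0 ≫ u.f 0 = η.f 0) (q : ℕ) : toInj Ψ η q = (iso Ψ P q).hom ≫ hmap Ψ u q := by
  obtain ⟨φ, hφ⟩ := exists_desc (𝟙 Y) (injectiveResolution Y) P
  have h1 := iso_naturality Ψ (𝟙 Y) (injectiveResolution Y) P φ hφ q
  rw [CategoryTheory.Functor.map_id, Category.id_comp] at h1
  rw [toInj, h1, Category.assoc, ← hmap_comp]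
  congr 1
  refine hmap_eq (injectiveResolution Y).ι Ψ _ _ ?_ q
  rw [ι_descToInjectives_f_zero, HomologicalComplex.comp_f, reassoc_of% hφ, hu]
  exact Category.id_comp _

/-- Naturality, in the form of a lift of a map of objects. -/
@[reassoc]
theorem map_toInj {Y Z : A} (θ : Y ⟶ Z) {L : CochainComplex A ℕ} [∀ n, Injective (L.X n)]
    (η : (CochainComplex.single₀ A).obj Z ⟶ L) (P : InjectiveResolution Y) (u : P.cocomplex ⟶ L)
    (hu : P.ι.f 0 ≫ u.f 0 = θ ≫ η.f 0) (q : ℕ) :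
    (Ψ.rightDerived q).map θ ≫ toInj Ψ η q = (iso Ψ P q).hom ≫ hmap Ψ u q := by
  obtain ⟨φ, hφ⟩ := exists_desc θ P (injectiveResolution Z)
  rw [toInj, iso_naturality_assoc Ψ θ P _ φ hφ, ← hmap_comp]
  congr 1
  refine hmap_eq P.ι Ψ _ _ ?_ q
  rw [hu, HomologicalComplex.comp_f, reassoc_of% hφ, ι_descToInjectives_f_zero, Category.id_comp]

@[reassoc]
theorem toInj_naturality {Y Z : A} (θ : Y ⟶ Z) {L M : CochainComplex A ℕ} [∀ n, Injective (L.X n)]
    [∀ n, Injective (M.X n)] (η : (CochainComplex.single₀ A).obj Y ⟶ L)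
    (η' : (CochainComplex.single₀ A).obj Z ⟶ M) (v : L ⟶ M) (hv : η.f 0 ≫ v.f 0 = θ ≫ η'.f 0) (q : ℕ) :
    (Ψ.rightDerived q).map θ ≫ toInj Ψ η' q = toInj Ψ η q ≫ hmap Ψ v q := by
  obtain ⟨u, hu⟩ := exists_lift (𝟙 Y) (injectiveResolution Y).ι η
  rw [Category.id_comp] at hu
  rw [toInj_eq Ψ η (injectiveResolution Y) u hu, Category.assoc, ← hmap_comp]
  refine map_toInj Ψ θ η' (injectiveResolution Y) (u ≫ v) ?_ q
  rw [HomologicalComplex.comp_f, reassoc_of% hu, hv]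

theorem toInj_res {Y : A} (P : InjectiveResolution Y) (q : ℕ) : toInj Ψ P.ι q = (iso Ψ P q).hom := by
  rw [toInj_eq Ψ P.ι P (𝟙 _) (Category.comp_id _), hmap_id, Category.comp_id]

/-- `H^q(Ψ K) ⟶ R^qΨ(Y)` for a resolution `K` of `Y` by arbitrary objects. -/
def ofRes {Y : A} {K : CochainComplex A ℕ} (ι : (CochainComplex.single₀ A).obj Y ⟶ K) [QuasiIso ι] (q : ℕ) :
    ((Ψ.mapHomologicalComplex (ComplexShape.up ℕ)).obj K).homology q ⟶ (Ψ.rightDerived q).obj Y :=
  hmap Ψ (descToInjectives (𝟙 Y) K ι (injectiveResolution Y).cocomplex (injectiveResolution Y).ι) q ≫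
    (iso Ψ (injectiveResolution Y) q).inv

theorem ofRes_eq {Y : A} {K : CochainComplex A ℕ} (ι : (CochainComplex.single₀ A).obj Y ⟶ K) [QuasiIso ι]
    (P : InjectiveResolution Y) (u : K ⟶ P.cocomplex) (hu : ι.f 0 ≫ u.f 0 = P.ι.f 0) (q : ℕ) :
    ofRes Ψ ι q = hmap Ψ u q ≫ (iso Ψ P q).inv := by
  obtain ⟨φ, hφ⟩ := exists_desc (𝟙 Y) P (injectiveResolution Y)
  have h1 := iso_inv_naturality Ψ (𝟙 Y) P (injectiveResolution Y) φ hφ q
  rw [CategoryTheory.Functor.map_id, Category.comp_id] at h1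
  rw [ofRes, h1, ← Category.assoc, ← hmap_comp]
  congr 1
  refine hmap_eq ι Ψ _ _ ?_ q
  rw [ι_descToInjectives_f_zero, HomologicalComplex.comp_f, reassoc_of% hu, hφ]

@[reassoc]
theorem ofRes_naturality {Y Z : A} (θ : Y ⟶ Z) {K K' : CochainComplex A ℕ}
    (ι : (CochainComplex.single₀ A).obj Y ⟶ K) [QuasiIso ι] (ι' : (CochainComplex.single₀ A).obj Z ⟶ K')
    [QuasiIso ι'] (v : K ⟶ K') (hv : ι.f 0 ≫ v.f 0 = θ ≫ ι'.f 0) (q : ℕ) :
    ofRes Ψ ι q ≫ (Ψ.rightDerived q).map θ = hmap Ψ v q ≫ ofRes Ψ ι' q := by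
  obtain ⟨φ, hφ⟩ := exists_desc θ (injectiveResolution Y) (injectiveResolution Z)
  rw [ofRes, ofRes, Category.assoc, iso_inv_naturality Ψ θ _ _ φ hφ, ← Category.assoc, ← Category.assoc,
    ← hmap_comp, ← hmap_comp]
  congr 1
  refine hmap_eq ι Ψ _ _ ?_ q
  rw [HomologicalComplex.comp_f, HomologicalComplex.comp_f, ι_descToInjectives_f_zero_assoc, hφ,
    reassoc_of% hv, ι_descToInjectives_f_zero]
  simp

/-- From a resolution to a complex of injectives, through the derived functor. -/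
@[reassoc]
theorem ofRes_toInj {Y Z : A} (θ : Y ⟶ Z) {K L : CochainComplex A ℕ}
    (ι : (CochainComplex.single₀ A).obj Y ⟶ K) [QuasiIso ι] [∀ n, Injective (L.X n)]
    (η : (CochainComplex.single₀ A).obj Z ⟶ L) (u : K ⟶ L) (hu : ι.f 0 ≫ u.f 0 = θ ≫ η.f 0) (q : ℕ) :
    ofRes Ψ ι q ≫ (Ψ.rightDerived q).map θ ≫ toInj Ψ η q = hmap Ψ u q := by
  obtain ⟨v, hv⟩ := exists_lift θ (injectiveResolution Y).ι η
  rw [map_toInj Ψ θ η (injectiveResolution Y) v hv, ofRes, Category.assoc, Iso.inv_hom_id_assoc, ← hmap_comp]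
  refine hmap_eq ι Ψ _ _ ?_ q
  rw [HomologicalComplex.comp_f, ι_descToInjectives_f_zero_assoc, hu]
  exact (Category.id_comp _).trans hv

theorem ofRes_res {Y : A} (P : InjectiveResolution Y) (q : ℕ) : ofRes Ψ P.ι q = (iso Ψ P q).inv := by
  rw [ofRes_eq Ψ P.ι P (𝟙 _) (Category.comp_id _), hmap_id, Category.id_comp]

end Calculus

section Comparison

variable {B : Type u₂} [Category.{v₂} B] [Abelian B] {C : Type u₃} [Category.{v₃} C] [Abelian C]
  (Ψ : B ⥤ C) [Ψ.Additive] [PreservesFiniteLimits Ψ] {ι' : Type*} {c : ComplexShape ι'}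

@[reassoc]
lemma cyclesComparison_naturality {K L : HomologicalComplex B c} (v : K ⟶ L) (i : ι') :
    cyclesMap ((Ψ.mapHomologicalComplex c).map v) i ≫ cyclesComparison Ψ L i =
      cyclesComparison Ψ K i ≫ Ψ.map (cyclesMap v i) := by
  rw [← cancel_mono (Ψ.map (L.iCycles i))]
  rw [Category.assoc, Category.assoc, cyclesComparison_i, cyclesMap_i, ← Ψ.map_comp, cyclesMap_i,
    Ψ.map_comp, cyclesComparison_i_assoc]
  rfl

@[reassoc]
lemma homologyComparison_naturality {K L : HomologicalComplex B c} (v : K ⟶ L) (i : ι') :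
    homologyMap ((Ψ.mapHomologicalComplex c).map v) i ≫ homologyComparison Ψ L i =
      homologyComparison Ψ K i ≫ Ψ.map (homologyMap v i) := by
  rw [← cancel_epi (((Ψ.mapHomologicalComplex c).obj K).homologyπ i), homologyπ_naturality_assoc,
    homologyπ_homologyComparison, homologyπ_homologyComparison_assoc, ← Ψ.map_comp, homologyπ_naturality,
    Ψ.map_comp, cyclesComparison_naturality_assoc]

end Comparison

section Edge

variable {A : Type u₁} [Category.{v₁} A] [Abelian A] [HasInjectiveResolutions A]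
  {B : Type u₂} [Category.{v₂} B] [Abelian B]
  {C : Type u₃} [Category.{v₃} C] [Abelian C]

omit [HasInjectiveResolutions A] in
lemma mapAug_f_zero (Φ : A ⥤ B) [Φ.Additive] {Y : A} {I : CochainComplex A ℕ}
    (ι : (CochainComplex.single₀ A).obj Y ⟶ I) : (mapAug Φ ι).f 0 = Φ.map (ι.f 0) := by
  simp [mapAug, HomologicalComplex.singleMapHomologicalComplex_inv_app_self]

section

variable [HasInjectiveResolutions B]

theorem edgeIn_eq (Φ : A ⥤ B) [Φ.Additive] [Φ.PreservesInjectiveObjects] (Ψ : B ⥤ C) [Ψ.Additive] (q : ℕ) {X : A}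
    (J : InjectiveResolution X) :
    edgeIn Φ Ψ q X = toInj Ψ (mapAug Φ J.ι) q ≫ (iso (Φ ⋙ Ψ) J q).inv := by
  obtain ⟨φ, hφ⟩ := exists_desc (𝟙 X) J (injectiveResolution X)
  have h1 := iso_inv_naturality (Φ ⋙ Ψ) (𝟙 X) J (injectiveResolution X) φ hφ q
  rw [CategoryTheory.Functor.map_id, Category.comp_id] at h1
  have h2 := toInj_naturality Ψ (𝟙 (Φ.obj X)) (mapAug Φ J.ι) (mapAug Φ (injectiveResolution X).ι)
    ((Φ.mapHomologicalComplex _).map φ) (by
      rw [mapAug_f_zero, mapAug_f_zero, Functor.mapHomologicalComplex_map_f, ← Φ.map_comp, hφ]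
      erw [Category.id_comp, Category.id_comp]) q
  rw [CategoryTheory.Functor.map_id, Category.id_comp] at h2
  rw [h1]
  have h3 : edgeIn Φ Ψ q X = toInj Ψ (mapAug Φ (injectiveResolution X).ι) q ≫
    (iso (Φ ⋙ Ψ) (injectiveResolution X) q).inv := (Category.assoc _ _ _).symm
  rw [h3, h2]
  exact Category.assoc _ _ _

/-- `edgeIn` after a map `θ : F ⟶ Φ X`, computed with arbitrary resolutions. -/
@[reassoc]
theorem map_edgeIn (Φ : A ⥤ B) [Φ.Additive] [Φ.PreservesInjectiveObjects] (Ψ : B ⥤ C) [Ψ.Additive] (q : ℕ)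
    {F : B} {X : A} (θ : F ⟶ Φ.obj X) (I : InjectiveResolution F) (J : InjectiveResolution X)
    (u : I.cocomplex ⟶ (Φ.mapHomologicalComplex _).obj J.cocomplex)
    (hu : I.ι.f 0 ≫ u.f 0 = θ ≫ Φ.map (J.ι.f 0)) :
    (Ψ.rightDerived q).map θ ≫ edgeIn Φ Ψ q X = (iso Ψ I q).hom ≫ hmap Ψ u q ≫ (iso (Φ ⋙ Ψ) J q).inv := by
  rw [edgeIn_eq Φ Ψ q J, map_toInj_assoc Ψ θ (mapAug Φ J.ι) I u (by rw [hu, mapAug_f_zero])]

@[reassoc]
theorem edgeIn_naturality (Φ : A ⥤ B) [Φ.Additive] [Φ.PreservesInjectiveObjects] (Ψ : B ⥤ C) [Ψ.Additive] (q : ℕ)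
    {X Y : A} (f : X ⟶ Y) :
    (Ψ.rightDerived q).map (Φ.map f) ≫ edgeIn Φ Ψ q Y = edgeIn Φ Ψ q X ≫ ((Φ ⋙ Ψ).rightDerived q).map f := by
  obtain ⟨φ, hφ⟩ := exists_desc f (injectiveResolution X) (injectiveResolution Y)
  rw [edgeIn_eq Φ Ψ q (injectiveResolution X), edgeIn_eq Φ Ψ q (injectiveResolution Y), Category.assoc,
    iso_inv_naturality (Φ ⋙ Ψ) f _ _ φ hφ,
    toInj_naturality_assoc Ψ (Φ.map f) (mapAug Φ (injectiveResolution X).ι) (mapAug Φ (injectiveResolution Y).ι)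
      ((Φ.mapHomologicalComplex _).map φ) (by
        rw [mapAug_f_zero, mapAug_f_zero, Functor.mapHomologicalComplex_map_f, ← Φ.map_comp, hφ]
        exact (Φ.map_comp _ _))]
  rfl

end

theorem edgeOut_eq (Φ : A ⥤ B) [Φ.Additive] (Ψ : B ⥤ C) [Ψ.Additive] [PreservesFiniteLimits Ψ] (q : ℕ) {X : A}
    (J : InjectiveResolution X) :
    edgeOut Φ Ψ q X = (iso (Φ ⋙ Ψ) J q).hom ≫
      homologyComparison Ψ ((Φ.mapHomologicalComplex _).obj J.cocomplex) q ≫ Ψ.map (iso Φ J q).inv := by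
  obtain ⟨φ, hφ⟩ := exists_desc (𝟙 X) (injectiveResolution X) J
  have h1 := iso_naturality (Φ ⋙ Ψ) (𝟙 X) (injectiveResolution X) J φ hφ q
  rw [CategoryTheory.Functor.map_id, Category.id_comp] at h1
  have h2 := iso_naturality Φ (𝟙 X) (injectiveResolution X) J φ hφ q
  rw [CategoryTheory.Functor.map_id, Category.id_comp] at h2
  have h3 := homologyComparison_naturality Ψ ((Φ.mapHomologicalComplex _).map φ) q
  have h4 : hmap Φ φ q ≫ (iso Φ J q).inv = (iso Φ (injectiveResolution X) q).inv := by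
    rw [Iso.comp_inv_eq, h2, Iso.inv_hom_id_assoc]
  rw [h1]
  have h5 : hmap (Φ ⋙ Ψ) φ q ≫ homologyComparison Ψ ((Φ.mapHomologicalComplex _).obj J.cocomplex) q ≫
      Ψ.map (iso Φ J q).inv =
      homologyComparison Ψ ((Φ.mapHomologicalComplex _).obj (injectiveResolution X).cocomplex) q ≫
        Ψ.map (iso Φ (injectiveResolution X) q).inv := by
    rw [← h4, Ψ.map_comp, ← Category.assoc, ← Category.assoc]
    exact congrArg (· ≫ Ψ.map (iso Φ J q).inv) h3
  refine Eq.trans ?_ (Category.assoc _ _ _).symm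
  exact congrArg ((iso (Φ ⋙ Ψ) (injectiveResolution X) q).hom ≫ ·) h5.symm

@[reassoc]
theorem edgeOut_naturality (Φ : A ⥤ B) [Φ.Additive] (Ψ : B ⥤ C) [Ψ.Additive] [PreservesFiniteLimits Ψ] (q : ℕ)
    {X Y : A} (f : X ⟶ Y) :
    ((Φ ⋙ Ψ).rightDerived q).map f ≫ edgeOut Φ Ψ q Y = edgeOut Φ Ψ q X ≫ Ψ.map ((Φ.rightDerived q).map f) := by
  obtain ⟨φ, hφ⟩ := exists_desc f (injectiveResolution X) (injectiveResolution Y)
  rw [edgeOut_eq Φ Ψ q (injectiveResolution X), edgeOut_eq Φ Ψ q (injectiveResolution Y), Category.assoc,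
    Category.assoc, ← Ψ.map_comp, iso_inv_naturality Φ f _ _ φ hφ, Ψ.map_comp,
    iso_naturality_assoc (Φ ⋙ Ψ) f _ _ φ hφ]
  congr 1
  have h3 := homologyComparison_naturality Ψ ((Φ.mapHomologicalComplex _).map φ) q
  exact (reassoc_of% h3) _

theorem rightDerivedIso_hom_app {Φ Φ' : A ⥤ B} [Φ.Additive] [Φ'.Additive] (e : Φ ≅ Φ') (q : ℕ) {X : A}
    (P : InjectiveResolution X) :
    (rightDerivedIso e q).hom.app X = (iso Φ P q).hom ≫
      homologyMap ((NatTrans.mapHomologicalComplex e.hom _).app P.cocomplex) q ≫ (iso Φ' P q).inv :=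
  InjectiveResolution.rightDerived_app_eq e.hom P q

section

variable [HasInjectiveResolutions B]

/-- If `Φ` is left exact, `Φ I` is an injective resolution of `Φ X` when `X` is `Φ`-acyclic; hence `edgeIn` is an
isomorphism. -/
theorem edgeIn_isIso (Φ : A ⥤ B) [Φ.Additive] [Φ.PreservesInjectiveObjects] [PreservesFiniteLimits Φ]
    (Ψ : B ⥤ C) [Ψ.Additive] (q : ℕ) (X : A) (hX : ∀ n : ℕ, IsZero ((Φ.rightDerived (n + 1)).obj X)) :
    IsIso (edgeIn Φ Ψ q X) := by
  let J := injectiveResolution X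
  let P : InjectiveResolution (Φ.obj X) :=
    Groth.Agent.Sga4h.LerayAcyc.mapResolution Φ (fun I _ => Φ.injective_obj I) X
      (fun p hp => by obtain ⟨m, rfl⟩ := Nat.exists_eq_succ_of_ne_zero hp.ne'; exact hX m) J
  rw [edgeIn_eq Φ Ψ q J]
  have h1 : toInj Ψ (mapAug Φ J.ι) q = (iso Ψ P q).hom := by
    have h2 := toInj_eq Ψ (mapAug Φ J.ι) P (𝟙 ((Φ.mapHomologicalComplex (ComplexShape.up ℕ)).obj J.cocomplex))
      (by
        refine (Category.comp_id _).trans ?_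
        rw [mapAug_f_zero]
        exact CochainComplex.fromSingle₀Equiv_symm_apply_f_zero
            (C := (Φ.mapHomologicalComplex _).obj J.cocomplex) (X := Φ.obj X) _ _) q
    have h3 := hmap_id Ψ ((Φ.mapHomologicalComplex (ComplexShape.up ℕ)).obj J.cocomplex) q
    exact h2.trans ((congrArg ((iso Ψ P q).hom ≫ ·) h3).trans (Category.comp_id _))
  rw [h1]
  infer_instance

theorem precompExact_eq (E : A ⥤ B) [E.Additive] [PreservesFiniteLimits E] [PreservesFiniteColimits E] (Ψ : B ⥤ C)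
    [Ψ.Additive] (q : ℕ) {X : A} (I : InjectiveResolution X) :
    precompExact E Ψ q X = (iso (E ⋙ Ψ) I q).hom ≫ ofRes Ψ (mapAug E I.ι) q := by
  obtain ⟨φ, hφ⟩ := exists_desc (𝟙 X) (injectiveResolution X) I
  have h1 := iso_naturality (E ⋙ Ψ) (𝟙 X) (injectiveResolution X) I φ hφ q
  rw [CategoryTheory.Functor.map_id, Category.id_comp] at h1
  have h2 := ofRes_naturality Ψ (𝟙 (E.obj X)) (mapAug E (injectiveResolution X).ι) (mapAug E I.ι)
    ((E.mapHomologicalComplex _).map φ) (by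
      rw [mapAug_f_zero, mapAug_f_zero, Functor.mapHomologicalComplex_map_f, ← E.map_comp, hφ]
      erw [Category.id_comp, Category.id_comp]) q
  rw [CategoryTheory.Functor.map_id, Category.comp_id] at h2
  rw [h1]
  have h3 : precompExact E Ψ q X = (iso (E ⋙ Ψ) (injectiveResolution X) q).hom ≫
    ofRes Ψ (mapAug E (injectiveResolution X).ι) q := rfl
  rw [h3, h2]
  exact (Category.assoc _ _ _).symm

@[reassoc]
theorem precompExact_naturality (E : A ⥤ B) [E.Additive] [PreservesFiniteLimits E] [PreservesFiniteColimits E]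
    (Ψ : B ⥤ C) [Ψ.Additive] (q : ℕ) {X Y : A} (f : X ⟶ Y) :
    ((E ⋙ Ψ).rightDerived q).map f ≫ precompExact E Ψ q Y =
      precompExact E Ψ q X ≫ (Ψ.rightDerived q).map (E.map f) := by
  obtain ⟨φ, hφ⟩ := exists_desc f (injectiveResolution X) (injectiveResolution Y)
  rw [precompExact_eq E Ψ q (injectiveResolution X), precompExact_eq E Ψ q (injectiveResolution Y), Category.assoc,
    ofRes_naturality Ψ (E.map f) (mapAug E (injectiveResolution X).ι) (mapAug E (injectiveResolution Y).ι)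
    ((E.mapHomologicalComplex _).map φ) (by
      rw [mapAug_f_zero, mapAug_f_zero, Functor.mapHomologicalComplex_map_f, ← E.map_comp, hφ]
      exact (E.map_comp _ _)) q, iso_naturality_assoc (E ⋙ Ψ) f _ _ φ hφ]
  rfl

end

end Edge

end K557.RDerRes
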