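import Groth.Agent.SGA4h.K557.ChainCmp
import Groth.Prelude.Def_EtBC2
import Groth.Agent.Sga4B.BCDelta0

/-!
# The base change morphisms `EtBC.bcQ`

* `sqIso w`, `bcQ_eq`: `EtBC.bcQ` is the abstract map `K557.BcAbs.bc` (morphism of delta functors: `BcAbs.bcHom`);
* `bcQ_naturality`;
* `exists_conj`: the canonical base change map `Sga4B.BCDelta.BCq w q` is `bcQ` up to natural automorphisms of
  `R^q f_*` and `R^q f'_*`; `isIso_bcQ_iff`, `mono_bcQ_iff`, `epi_bcQ_iff`.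

KERNEL SPEED NOTE: every statement mentioning `EtBC.bcQ` costs the kernel about ten seconds.
-/

set_option autoImplicit false
universe u

open CategoryTheory CategoryTheory.Limits AlgebraicGeometry HomologicalComplex

noncomputable section

namespace K557.BcQ

open K557.BcAbs Groth.Agent.Localalg.DeltaFun Groth.Agent.Sga4B
open scoped Groth.Agent.Sga4B.EtAbInst

variable {X S X' S' : Scheme.{u}} {f : X ⟶ S} {g : S' ⟶ S} {f' : X' ⟶ S'} {g' : X' ⟶ X}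

/-- `f_* g'_* ≅ g_* f'_*`. -/
abbrev sqIso (w : g' ≫ f = f' ≫ g) :
    EtCoh.push g' ⋙ EtCoh.push f ≅ EtCoh.push f' ⋙ EtCoh.push g :=
  EtCoh.pushComp f g' ≪≫ EtCoh.pushCongr w ≪≫ (EtCoh.pushComp g f').symm

/-- `bcQ` in abstract form. -/
def bq (w : g' ≫ f = f' ≫ g) (q : ℕ) (F : EtCoh.Ab X) :
    (EtCoh.pull g).obj ((EtCoh.Rpush f q).obj F) ⟶ (EtCoh.Rpush f' q).obj ((EtCoh.pull g').obj F) :=
  bc (sqIso w) (EtCoh.pullPushAdj g') (EtCoh.pullPushAdj g) q F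

theorem bcQ_eq (w : g' ≫ f = f' ≫ g) [PreservesFiniteLimits (EtCoh.pull g')] (q : ℕ) (F : EtCoh.Ab X) :
    EtBC.bcQ f g f' g' w q F = bq w q F := rfl

@[reassoc]
theorem bq_naturality (w : g' ≫ f = f' ≫ g) (q : ℕ) {F G : EtCoh.Ab X} (φ : F ⟶ G) :
    (EtCoh.pull g).map ((EtCoh.Rpush f q).map φ) ≫ bq w q G =
      bq w q F ≫ (EtCoh.Rpush f' q).map ((EtCoh.pull g').map φ) :=
  bc_naturality (sqIso w) (EtCoh.pullPushAdj g') (EtCoh.pullPushAdj g) q φ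

/-- Degree zero, with the comparison maps `f_* ⟶ R^0 f_*`. -/
@[reassoc]
theorem toRightDerivedZero_bq (w : g' ≫ f = f' ≫ g) (F : EtCoh.Ab X) :
    (EtCoh.pull g).map ((EtCoh.push f).toRightDerivedZero.app F) ≫ bq w 0 F =
      EtCoh.baseChange0 f g f' g' w F ≫ (EtCoh.push f').toRightDerivedZero.app ((EtCoh.pull g').obj F) :=
  EtBC.bcQ_zero_compat f g f' g' w F

theorem bq_zero (w : g' ≫ f = f' ≫ g) (F : EtCoh.Ab X) :
    bq w 0 F = (BCDelta.bc0 w).app F := by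
  have h1 : (EtCoh.push f).toRightDerivedZero.app F ≫ (BCDelta.zeroIso f).hom.app F = 𝟙 _ :=
    (EtCoh.push f).rightDerivedZeroIsoSelf_inv_hom_id_app F
  have h2 : IsIso ((EtCoh.pull g).map ((EtCoh.push f).toRightDerivedZero.app F)) := inferInstance
  have h3 : (EtCoh.pull g).map ((EtCoh.push f).toRightDerivedZero.app F) ≫
      (EtCoh.pull g).map ((BCDelta.zeroIso f).hom.app F) = 𝟙 _ := by
    rw [← Functor.map_comp, h1, CategoryTheory.Functor.map_id]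
  rw [← cancel_epi ((EtCoh.pull g).map ((EtCoh.push f).toRightDerivedZero.app F)), toRightDerivedZero_bq,
    BCDelta.bc0_app, reassoc_of% h3]
  rfl

theorem exists_conj (w : g' ≫ f = f' ≫ g) (q : ℕ) :
    ∃ (α : EtCoh.Rpush f q ≅ EtCoh.Rpush f q) (β : EtCoh.Rpush f' q ≅ EtCoh.Rpush f' q), ∀ F : EtCoh.Ab X,
      (BCDelta.BCq w q).app F =
        (EtCoh.pull g).map (α.hom.app F) ≫ bq w q F ≫ β.hom.app ((EtCoh.pull g').obj F) := by
  refine bc_eq_conj (sqIso w) (EtCoh.pullPushAdj g') (EtCoh.pullPushAdj g) (BCDelta.BC w) (fun F => ?_) q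
  rw [BCDelta.BC_app_zero]
  exact (bq_zero w F).symm

theorem isIso_bq_iff (w : g' ≫ f = f' ≫ g) (q : ℕ) (F : EtCoh.Ab X) :
    IsIso (bq w q F) ↔ IsIso ((BCDelta.BCq w q).app F) := by
  obtain ⟨α, β, h⟩ := exists_conj w q
  rw [h F, isIso_comp_left_iff, isIso_comp_right_iff]

theorem mono_bq_iff (w : g' ≫ f = f' ≫ g) (q : ℕ) (F : EtCoh.Ab X) :
    Mono (bq w q F) ↔ Mono ((BCDelta.BCq w q).app F) := by
  obtain ⟨α, β, h⟩ := exists_conj w q
  rw [h F, mono_comp_iff_of_isIso, mono_comp_iff_of_mono]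

theorem epi_bq_iff (w : g' ≫ f = f' ≫ g) (q : ℕ) (F : EtCoh.Ab X) :
    Epi (bq w q F) ↔ Epi ((BCDelta.BCq w q).app F) := by
  obtain ⟨α, β, h⟩ := exists_conj w q
  rw [h F, epi_comp_iff_of_epi, epi_comp_iff_of_isIso]

theorem isIso_bcQ_iff (w : g' ≫ f = f' ≫ g) (q : ℕ) (F : EtCoh.Ab X) :
    IsIso (EtBC.bcQ f g f' g' w q F) ↔ IsIso ((BCDelta.BCq w q).app F) := isIso_bq_iff w q F

end K557.BcQ
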