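import Groth.Agent.SGA4h.K557.StrictBc
import Groth.Agent.Etbc.H233.PtBC

/-!
# Base change maps at points, in all degrees

Let `w : g' ≫ f = f' ≫ g`, `bq w q F = EtBC.bcQ f g f' g' w q F : g⁻¹ R^q f_* F ⟶ R^q f'_* g'⁻¹ F` and `f` qcqs.
* `bijAt_bq_of_isStrictLoc`: base change along a strict localization `σ` is bijective on global sections;
* `isIso_bq_of_weaklyEtale`: base change along a weakly étale morphism (étale, strict localization, limit of étale
  morphisms with affine transition maps ...) is an isomorphism, in all degrees;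
* `isIso_pull_bq_iff`: `bq` is an isomorphism at a point iff `H^q(P, F) → H^q(P', F)` is bijective, for strict
  localizations `σ`, `τ`, compatible;
* `isIso_bq_iff_forall`: the resulting criterion.
-/

set_option autoImplicit false
universe u

open CategoryTheory CategoryTheory.Limits AlgebraicGeometry Opposite IsLocalRing

noncomputable section

namespace K557.WeakEt

open K557.BcAbs K557.BcQ K557.HpBc K557.StrictBc Groth.Agent.Localalg.DeltaFun Groth.Agent.Sga4B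
  Groth.Agent.EtpbcB.BCCalc Groth.Agent.EtpbcB.BCIso Groth.Agent.Etcore.HpullCalc
  Groth.Agent.Etrest.StrictLoc Groth.Agent.Etbc.H233.PtBC
open scoped Groth.Agent.Sga4B.EtAbInst Groth.Agent.Etcore.EtInst

section SLoc

variable {X Y : Scheme.{u}} {f : X ⟶ Y} [QuasiCompact f] [QuasiSeparated f] {A : Type u} [CommRing A]
  [IsLocalRing A] {σ : Spec (CommRingCat.of A) ⟶ Y} {P : Scheme.{u}} {a : P ⟶ X}
  {b : P ⟶ Spec (CommRingCat.of A)}

/-- Base change along a strict localization is bijective on global sections. -/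
theorem bijAt_bq_of_isStrictLoc (hσ : IsStrictLoc σ) (h : IsPullback a b f σ) (q : ℕ) (F : EtCoh.Ab X) :
    BijAt (bq h.w q F) (EtCoh.top _) := by
  obtain ⟨_, _, _, h2⟩ := Groth.Agent.Sga1.UlaSL.exists_specOf hσ _ rfl
  have := hσ.sepClosed
  revert h
  rw [← h2]
  exact fun h => bijAt_bq_specOf f _ A h q F

end SLoc

section paste

variable {X Y X' Y' X'' Y'' : Scheme.{u}} {f : X ⟶ Y} {g : Y' ⟶ Y} {f' : X' ⟶ Y'} {g' : X' ⟶ X}
  {f'' : X'' ⟶ Y''} {h : Y'' ⟶ Y'} {h' : X'' ⟶ X'}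

theorem bijAt_bq_paste_iff (w₁ : g' ≫ f = f' ≫ g) (w₂ : h' ≫ f' = f'' ≫ h)
    (w : (h' ≫ g') ≫ f = f'' ≫ (h ≫ g)) (q : ℕ) (F : EtCoh.Ab X) (U : Y''.Etale)
    (i₂ : BijAt (bq w₂ q ((EtCoh.pull g').obj F)) U) :
    BijAt (bq w q F) U ↔ BijAt ((EtCoh.pull h).map (bq w₁ q F)) U := by
  rw [← bijAt_comp_iff_left ((pullComp g h).hom.app ((EtCoh.Rpush f q).obj F)) _ _ (bijAt_of_isIso _ _),
    bq_paste w₁ w₂ w q F]
  exact bijAt_comp_iff_right _ _ _ (bijAt_comp _ _ _ i₂ (bijAt_of_isIso _ _))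

theorem bijAt_bq_paste_iff' (w₁ : g' ≫ f = f' ≫ g) (w₂ : h' ≫ f' = f'' ≫ h)
    (w : (h' ≫ g') ≫ f = f'' ≫ (h ≫ g)) (q : ℕ) (F : EtCoh.Ab X) (U : Y''.Etale)
    (i₁ : BijAt ((EtCoh.pull h).map (bq w₁ q F)) U) :
    BijAt (bq w q F) U ↔ BijAt (bq w₂ q ((EtCoh.pull g').obj F)) U := by
  rw [← bijAt_comp_iff_left ((pullComp g h).hom.app ((EtCoh.Rpush f q).obj F)) _ _ (bijAt_of_isIso _ _),
    bq_paste w₁ w₂ w q F, bijAt_comp_iff_left _ _ _ i₁]
  exact bijAt_comp_iff_right _ _ _ (bijAt_of_isIso _ _)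

theorem bq_congr {Z P : Scheme.{u}} {t₁ t₂ : Z ⟶ Y} {r : P ⟶ Z}
    {b₁ b₂ : P ⟶ X} (ht : t₁ = t₂) (hb : b₁ = b₂) (w₁ : b₁ ≫ f = r ≫ t₁) (w₂ : b₂ ≫ f = r ≫ t₂)
    (q : ℕ) (F : EtCoh.Ab X) (U : Z.Etale) :
    BijAt (bq w₁ q F) U ↔ BijAt (bq w₂ q F) U := by
  subst ht; subst hb; rfl

end paste

section weaklyEtale

variable {X Y X' Y' : Scheme.{u}} {f : X ⟶ Y} {g : Y' ⟶ Y} {f' : X' ⟶ Y'} {g' : X' ⟶ X}

/-- A map of sheaves which is bijective on global sections over all strict localizations is an isomorphism. -/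
theorem isIso_of_forall_strictLoc {X : Scheme.{u}} {F G : EtCoh.Ab X} (φ : F ⟶ G)
    (h : ∀ x : X, ∃ (C : Type u) (_ : CommRing C) (_ : IsLocalRing C) (τ : Spec (CommRingCat.of C) ⟶ X),
      IsStrictLoc τ ∧ τ (closedPoint C) = x ∧ BijAt ((EtCoh.pull τ).map φ) (EtCoh.top _)) : IsIso φ := by
  refine Groth.Agent.Etcore.Stalks.isIso_of_stalks _ (fun x => ?_)
  obtain ⟨C, _, _, τ, hτ, hx, hb⟩ := h x
  have := hτ.sepClosed
  refine ⟨ResidueField C, inferInstance, inferInstance, resPt C ≫ τ, ?_, ?_⟩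
  · rw [Scheme.Hom.comp_apply, resPt_closedPoint C, hx]
  · rw [Groth.Agent.EtpbcA.LA.isIso_stalk_iff_pull]
    have h4 : IsIso ((EtCoh.pull τ ⋙ EtCoh.pull (resPt C)).map φ) :=
      (bijAt_top_iff_isIso_pull hτ.henselian hτ.sepClosed _).1 hb
    exact (NatIso.isIso_map_iff (EtCore.pullComp (resPt C) τ) _).2 h4

/-- **Base change along a weakly étale morphism** is an isomorphism, in all degrees. -/
theorem isIso_bq_of_weaklyEtale (H : IsPullback g' f' f g) [WeaklyEtale g] [QuasiCompact f] [QuasiSeparated f]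
    (q : ℕ) (F : EtCoh.Ab X) : IsIso (bq H.w q F) := by
  have i1 : QuasiCompact f' := MorphismProperty.of_isPullback H ‹_›
  have i2 : QuasiSeparated f' := MorphismProperty.of_isPullback H ‹_›
  refine isIso_of_forall_strictLoc _ (fun x => ?_)
  obtain ⟨C, _, _, τ, hτ, hc⟩ := Groth.Agent.Sga1.UlaSL.exists_isStrictLoc Y' x
  refine ⟨C, inferInstance, inferInstance, τ, hτ, hc, ?_⟩
  have H2 := IsPullback.of_hasPullback f' τ
  have H3 := H2.paste_horiz H
  rw [← bijAt_bq_paste_iff H.w H2.w H3.w q F _ (bijAt_bq_of_isStrictLoc hτ H2 q _)]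
  exact bijAt_bq_of_isStrictLoc (hτ.comp g) H3 q F

end weaklyEtale

section main

variable {V D V' D' P P' : Scheme.{u}} {v : V ⟶ D} {g : D' ⟶ D} {v' : V' ⟶ D'} {g' : V' ⟶ V}
  (w : g' ≫ v = v' ≫ g)
  {A C : Type u} [CommRing A] [CommRing C] [IsLocalRing A] [IsLocalRing C]
  {σ : Spec (CommRingCat.of A) ⟶ D} {τ : Spec (CommRingCat.of C) ⟶ D'}
  (hσ : IsStrictLoc σ) (hτ : IsStrictLoc τ) (β : A →+* C) [IsLocalHom β]
  (hβ : spm β ≫ σ = τ ≫ g)
  {a : P ⟶ V} {r : P ⟶ Spec (CommRingCat.of A)} (H : IsPullback a r v σ)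
  {a' : P' ⟶ V'} {r' : P' ⟶ Spec (CommRingCat.of C)} (H' : IsPullback a' r' v' τ)
  {k : P' ⟶ P} (hk : k ≫ a = a' ≫ g') (hk' : k ≫ r = r' ≫ spm β)
  [QuasiCompact v] [QuasiSeparated v] [QuasiCompact v'] [QuasiSeparated v']

include hσ hτ hβ H H' hk hk' in
/-- The base change map at a point is the pullback map on the cohomology of the fibres over strict localizations. -/
theorem bijAt_pull_bq_iff (q : ℕ) (G : EtCoh.Ab V) :
    BijAt ((EtCoh.pull τ).map (bq w q G)) (EtCoh.top _) ↔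
      Function.Bijective (hp k ((EtCoh.pull a).obj G) q) := by
  have w1 : (a' ≫ g') ≫ v = r' ≫ (τ ≫ g) := by
    rw [Category.assoc, w, ← Category.assoc, H'.w, Category.assoc]
  have w2 : (k ≫ a) ≫ v = r' ≫ (spm β ≫ σ) := by
    rw [Category.assoc, H.w, ← Category.assoc, hk', Category.assoc]
  have hUB := UB_spm hσ.henselian hτ.henselian hσ.sepClosed hτ.sepClosed β
  have i1 := hσ.henselian
  have i2 := hτ.henselian
  have i3 := hσ.sepClosed
  have i4 := hτ.sepClosed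
  have i5 := pfc_gsec A
  have i6 := pfc_gsec C
  have hpull : BijAt ((EtCoh.pull (spm β)).map (bq H.w q G)) (EtCoh.top _) := by
    rw [← bijAt_push_top (spm β)]
    refine bijAt_of_comp_left _ _ _ (hUB _) ?_
    have h1 := (EtCoh.pullPushAdj (spm β)).unit.naturality (bq H.w q G)
    refine (congrArg (fun ψ => BijAt ψ (EtCoh.top _)) h1).mp ?_
    exact bijAt_comp _ _ _ (bijAt_bq_of_isStrictLoc hσ H q G) (hUB _)
  rw [← bijAt_bq_paste_iff w H'.w w1 q G _ (bijAt_bq_of_isStrictLoc hτ H' q _),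
    bq_congr hβ.symm hk.symm w1 w2, bijAt_bq_paste_iff' H.w hk' w2 q G _ hpull]
  exact bijAt_bq_iff hk' q _ (hUB _)

include hσ hτ hβ H H' hk hk' in
/-- `bq` is an isomorphism at a point iff pullback is bijective on cohomology over the strict localizations. -/
theorem isIso_pull_bq_iff (q : ℕ) (G : EtCoh.Ab V) :
    IsIso ((EtCoh.pull (resPt C)).map ((EtCoh.pull τ).map (bq w q G))) ↔
      Function.Bijective (hp k ((EtCoh.pull a).obj G) q) := by
  rw [← bijAt_pull_bq_iff w hσ hτ β hβ H H' hk hk' q G]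
  exact (bijAt_top_iff_isIso_pull hτ.henselian hτ.sepClosed _).symm

end main

section criterion

variable {V D V' D' : Scheme.{u}} {v : V ⟶ D} {g : D' ⟶ D} {v' : V' ⟶ D'} {g' : V' ⟶ V}
  (w : g' ≫ v = v' ≫ g) [QuasiCompact v] [QuasiSeparated v] [QuasiCompact v'] [QuasiSeparated v']

/-- Criterion: one pair of strict localizations at each point is enough. -/
theorem isIso_bq_of_forall (q : ℕ) (G : EtCoh.Ab V)
    (h : ∀ x : D', ∃ (A C : Type u) (_ : CommRing A) (_ : CommRing C) (_ : IsLocalRing A)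
      (_ : IsLocalRing C) (σ : Spec (CommRingCat.of A) ⟶ D) (τ : Spec (CommRingCat.of C) ⟶ D')
      (β : A →+* C) (P P' : Scheme.{u}) (a : P ⟶ V) (r : P ⟶ Spec (CommRingCat.of A))
      (a' : P' ⟶ V') (r' : P' ⟶ Spec (CommRingCat.of C)) (k : P' ⟶ P),
      IsStrictLoc σ ∧ IsStrictLoc τ ∧ IsLocalHom β ∧ spm β ≫ σ = τ ≫ g ∧ τ (closedPoint C) = x ∧
      IsPullback a r v σ ∧ IsPullback a' r' v' τ ∧ k ≫ a = a' ≫ g' ∧ k ≫ r = r' ≫ spm β ∧
      Function.Bijective (hp k ((EtCoh.pull a).obj G) q)) : IsIso (bq w q G) := by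
  refine isIso_of_forall_strictLoc _ (fun x => ?_)
  obtain ⟨A, C, _, _, _, _, σ, τ, β, P, P', a, r, a', r', k, hσ, hτ, hβl, hβ, hx, H, H', hk, hk',
      hR⟩ := h x
  exact ⟨C, inferInstance, inferInstance, τ, hτ, hx,
    (bijAt_pull_bq_iff w hσ hτ β hβ H H' hk hk' q G).2 hR⟩

/-- Converse: if `bq` is an isomorphism, pullback is bijective for all pairs of strict localizations. -/
theorem bijective_hp_of_isIso_bq (q : ℕ) (G : EtCoh.Ab V) (hG : IsIso (bq w q G))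
    {A C : Type u} [CommRing A] [CommRing C] [IsLocalRing A] [IsLocalRing C]
    {σ : Spec (CommRingCat.of A) ⟶ D} {τ : Spec (CommRingCat.of C) ⟶ D'}
    (hσ : IsStrictLoc σ) (hτ : IsStrictLoc τ) (β : A →+* C) [IsLocalHom β]
    (hβ : spm β ≫ σ = τ ≫ g) {P P' : Scheme.{u}}
    {a : P ⟶ V} {r : P ⟶ Spec (CommRingCat.of A)} (H : IsPullback a r v σ)
    {a' : P' ⟶ V'} {r' : P' ⟶ Spec (CommRingCat.of C)} (H' : IsPullback a' r' v' τ)
    {k : P' ⟶ P} (hk : k ≫ a = a' ≫ g') (hk' : k ≫ r = r' ≫ spm β) :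
    Function.Bijective (hp k ((EtCoh.pull a).obj G) q) :=
  (bijAt_pull_bq_iff w hσ hτ β hβ H H' hk hk' q G).1 (bijAt_of_isIso _ _)

end criterion

end K557.WeakEt
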