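import Groth.Agent.Localalg.DeltaFun

/-!
# Calculus of morphisms of delta functors

Composition `comp`, whiskering with exact functors `postW`, `preW`, morphisms induced by natural transformations of
exact functors `ofPost`, `ofPre`; `ext_app`: two morphisms of delta functors out of an effaceable one which agree in
degree `0` agree.
-/

set_option autoImplicit false
universe v₁ v₂ v₃ v₄ u₁ u₂ u₃ u₄

open CategoryTheory CategoryTheory.Limits

namespace K557.DeltaCalc

open Groth.Agent.Localalg.DeltaFun

variable {C : Type u₁} [Category.{v₁} C] [Abelian C] {D : Type u₂} [Category.{v₂} D] [Abelian D]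
  {E : Type u₃} [Category.{v₃} E] [Abelian E]

/-- Composition. -/
@[simps]
def comp {T T' T'' : DeltaFunctor C D} (Φ : DeltaHom T T') (Ψ : DeltaHom T' T'') : DeltaHom T T'' where
  app n := Φ.app n ≫ Ψ.app n
  comm hS n := by
    rw [NatTrans.comp_app, NatTrans.comp_app, Category.assoc, Ψ.comm hS n, ← Category.assoc, Φ.comm hS n,
      Category.assoc]

/-- Whiskering on the target side. -/
@[simps]
def postW {T T' : DeltaFunctor C D} (Φ : DeltaHom T T') (G : D ⥤ E) [G.Additive] [PreservesFiniteLimits G]
    [PreservesFiniteColimits G] : DeltaHom (T.postcomp G) (T'.postcomp G) where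
  app n := Functor.whiskerRight (Φ.app n) G
  comm {S} hS n := by
    change G.map ((Φ.app n).app S.X₃) ≫ G.map (T'.δ hS n) = G.map (T.δ hS n) ≫ G.map ((Φ.app (n + 1)).app S.X₁)
    rw [← G.map_comp, ← G.map_comp, Φ.comm hS n]

/-- Whiskering on the source side. -/
@[simps]
def preW {T T' : DeltaFunctor D E} (Φ : DeltaHom T T') (G : C ⥤ D) [G.Additive] [PreservesFiniteLimits G]
    [PreservesFiniteColimits G] : DeltaHom (T.precomp G) (T'.precomp G) where
  app n := Functor.whiskerLeft G (Φ.app n)
  comm hS n := Φ.comm (hS.map_of_exact G) n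

/-- A natural transformation of exact functors, on the target side. -/
@[simps]
def ofPost (T : DeltaFunctor C D) {G G' : D ⥤ E} [G.Additive] [PreservesFiniteLimits G]
    [PreservesFiniteColimits G] [G'.Additive] [PreservesFiniteLimits G'] [PreservesFiniteColimits G']
    (α : G ⟶ G') : DeltaHom (T.postcomp G) (T.postcomp G') where
  app n := Functor.whiskerLeft (T.T n) α
  comm hS n := (α.naturality (T.δ hS n)).symm

/-- A natural transformation of exact functors, on the source side. -/
@[simps]
def ofPre (T : DeltaFunctor D E) {G G' : C ⥤ D} [G.Additive] [PreservesFiniteLimits G]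
    [PreservesFiniteColimits G] [G'.Additive] [PreservesFiniteLimits G'] [PreservesFiniteColimits G']
    (α : G ⟶ G') : DeltaHom (T.precomp G) (T.precomp G') where
  app n := Functor.whiskerRight α (T.T n)
  comm {S} hS n := T.naturality (hS.map_of_exact G) (hS.map_of_exact G') (S.mapNatTrans α) n

/-- Two morphisms of delta functors out of an effaceable one agreeing in degree `0` agree. -/
theorem ext_app [EnoughInjectives C] {T T' : DeltaFunctor C D} (hT : T.Effaceable) (Φ Ψ : DeltaHom T T')
    (h : ∀ F, (Φ.app 0).app F = (Ψ.app 0).app F) (n : ℕ) (F : C) : (Φ.app n).app F = (Ψ.app n).app F := by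
  rw [DeltaHom.ext_zero hT Φ Ψ (by ext F; exact h F) n]

end K557.DeltaCalc
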