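import Groth.Agent.SGA4h.K557.BcPaste
import Groth.Agent.SGA4h.K557.BcQ

/-!
# Composition of base changes for `EtBC.bcQ`

* `bq_paste`: in all degrees, for squares `w₁ : g' ≫ f = f' ≫ g`, `w₂ : h' ≫ f' = f'' ≫ h` and the composite square;
* `isIso_bq_paste`, `isIso_bq_of_paste`.
-/

set_option autoImplicit false
universe u

open CategoryTheory CategoryTheory.Limits AlgebraicGeometry

noncomputable section

namespace K557.BcQ

open K557.BcAbs Groth.Agent.Localalg.DeltaFun Groth.Agent.Sga4B Groth.Agent.EtpbcB.BCCalc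
open scoped Groth.Agent.Sga4B.EtAbInst

variable {X S X' S' X'' S'' : Scheme.{u}} {f : X ⟶ S} {g : S' ⟶ S} {f' : X' ⟶ S'} {g' : X' ⟶ X}
  {h : S'' ⟶ S'} {f'' : X'' ⟶ S''} {h' : X'' ⟶ X'}

theorem bq_paste (w₁ : g' ≫ f = f' ≫ g) (w₂ : h' ≫ f' = f'' ≫ h) (w : (h' ≫ g') ≫ f = f'' ≫ (h ≫ g))
    (q : ℕ) (F : EtCoh.Ab X) :
    (pullComp g h).hom.app ((EtCoh.Rpush f q).obj F) ≫ bq w q F =
      (EtCoh.pull h).map (bq w₁ q F) ≫ bq w₂ q ((EtCoh.pull g').obj F) ≫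
        (EtCoh.Rpush f'' q).map ((pullComp g' h').hom.app F) :=
  bc_paste_of_zero (sqIso w₁) (EtCoh.pullPushAdj g') (EtCoh.pullPushAdj g)
    (sqIso w₂) (EtCoh.pullPushAdj h') (EtCoh.pullPushAdj h)
    (sqIso w) (EtCoh.pullPushAdj (h' ≫ g')) (EtCoh.pullPushAdj (h ≫ g))
    (pullComp g h).hom (pullComp g' h').hom (fun F => baseChange0_hpaste w₁ w₂ w F) q F

theorem isIso_bq_paste (w₁ : g' ≫ f = f' ≫ g) (w₂ : h' ≫ f' = f'' ≫ h) (w : (h' ≫ g') ≫ f = f'' ≫ (h ≫ g))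
    (q : ℕ) (F : EtCoh.Ab X) (h₁ : IsIso ((EtCoh.pull h).map (bq w₁ q F))) :
    IsIso (bq w q F) ↔ IsIso (bq w₂ q ((EtCoh.pull g').obj F)) := by
  have key := bq_paste w₁ w₂ w q F
  have i1 : IsIso ((pullComp g h).hom.app ((EtCoh.Rpush f q).obj F)) := inferInstance
  have i2 : IsIso ((EtCoh.Rpush f'' q).map ((pullComp g' h').hom.app F)) := inferInstance
  constructor
  · intro hw
    have h3 : IsIso ((EtCoh.pull h).map (bq w₁ q F) ≫ bq w₂ q ((EtCoh.pull g').obj F) ≫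
        (EtCoh.Rpush f'' q).map ((pullComp g' h').hom.app F)) := by
      rw [← key]
      exact IsIso.comp_isIso' i1 hw
    have h4 := IsIso.of_isIso_comp_left ((EtCoh.pull h).map (bq w₁ q F)) (bq w₂ q ((EtCoh.pull g').obj F) ≫
        (EtCoh.Rpush f'' q).map ((pullComp g' h').hom.app F))
    exact IsIso.of_isIso_comp_right (bq w₂ q ((EtCoh.pull g').obj F))
      ((EtCoh.Rpush f'' q).map ((pullComp g' h').hom.app F))
  · intro hw
    have h3 : IsIso ((pullComp g h).hom.app ((EtCoh.Rpush f q).obj F) ≫ bq w q F) := by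
      rw [key]
      exact IsIso.comp_isIso' h₁ (IsIso.comp_isIso' hw i2)
    exact IsIso.of_isIso_comp_left ((pullComp g h).hom.app ((EtCoh.Rpush f q).obj F)) (bq w q F)

end K557.BcQ
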