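import Groth.Agent.SymTen.K937.FreeInv
import Groth.Agent.Sga4h.H569.DetRev
import Mathlib.LinearAlgebra.Trace
import Mathlib.LinearAlgebra.Matrix.MvPolynomial
import Mathlib.LinearAlgebra.Matrix.Block
import Mathlib.LinearAlgebra.Eigenspace.Triangularizable
import Mathlib.LinearAlgebra.Basis.Fin
import Mathlib.FieldTheory.IsAlgClosed.AlgebraicClosure
import Mathlib.RingTheory.PowerSeries.Basic
import Mathlib.RingTheory.PowerSeries.WellKnown

/-!
# The trace on symmetric tensors and `det(1 - ut)⁻¹` (MacMahon's master theorem)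

For `M` free with basis `b : Basis ι A M` and an endomorphism `u` with matrix `U`:
* `trace_symT`: the trace of `u^{⊗n}` on the symmetric tensors `symT A n M` is `cc n U`, an explicit polynomial in the
  entries;
* `macMahon`: `det(1 - t U) * Σ_n cc n U t^n = 1`.
-/

set_option autoImplicit false
universe u

open scoped TensorProduct

noncomputable section

namespace K557.MacMahon

open K937.FreeInv Groth.Agent.Sga4h.H569.DetRev

open scoped Classical in
/-- The trace on symmetric tensors in terms of the matrix. -/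
def cc {A : Type u} [CommRing A] {ι : Type u} [Fintype ι] (n : ℕ) (U : Matrix ι ι A) : A :=
  ∑ q : Quotient (orb n ι), ∑ p' : Fin n → ι,
    if Quotient.mk (orb n ι) p' = q then ∏ j, U (q.out j) (p' j) else 0

theorem map_cc {A B : Type u} [CommRing A] [CommRing B] (f : A →+* B) {ι : Type u} [Fintype ι] (n : ℕ)
    (U : Matrix ι ι A) : f (cc n U) = cc n (U.map f) := by
  classical
  rw [cc, cc, map_sum]
  refine Finset.sum_congr rfl fun q _ => ?_
  rw [map_sum]
  refine Finset.sum_congr rfl fun p _ => ?_
  rw [apply_ite f, map_zero, map_prod]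
  rfl

section trace

variable {A : Type u} [CommRing A] {M : Type u} [AddCommGroup M] [Module A M] {ι : Type u} [Fintype ι]
  [DecidableEq ι] (b : Module.Basis ι A M) (u : M →ₗ[A] M) (n : ℕ)

/-- The basis of the symmetric tensors. -/
def sb : Module.Basis (Quotient (orb n ι)) A (symT A n M) :=
  Module.Basis.ofRepr (LinearEquiv.ofBijective _ (toOrb_bijective (R := A) (n := n) b))

open scoped Classical in
omit [Fintype ι] [DecidableEq ι] in
theorem tb_repr_sb (q : Quotient (orb n ι)) (p : Fin n → ι) :
    (tb b).repr (sb b n q).1 p = if Quotient.mk (orb n ι) p = q then 1 else 0 := by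
  rw [← toOrb_mk]
  have h : toOrb b (sb b n q) = Finsupp.single q 1 := (sb b n).repr_self q
  rw [h, Finsupp.single_apply]
  simp only [eq_comm]

theorem tb_repr_map (p p' : Fin n → ι) :
    (tb b).repr (PiTensorProduct.map (fun _ : Fin n => u) (tb b p')) p =
      ∏ j, LinearMap.toMatrix b b u (p j) (p' j) := by
  rw [tb_apply, PiTensorProduct.map_tprod, tb, Basis.piTensorProduct_repr_tprod_apply]
  refine Finset.prod_congr rfl fun j _ => ?_
  rw [LinearMap.toMatrix_apply]

theorem trace_symT (γ : symT A n M →ₗ[A] symT A n M)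
    (hγ : ∀ x : symT A n M, (γ x).1 = PiTensorProduct.map (fun _ : Fin n => u) x.1) :
    LinearMap.trace A _ γ = cc n (LinearMap.toMatrix b b u) := by
  classical
  rw [LinearMap.trace_eq_matrix_trace A (sb b n), Matrix.trace, cc]
  refine Finset.sum_congr rfl fun q _ => ?_
  rw [Matrix.diag_apply, LinearMap.toMatrix_apply]
  have h1 : (sb b n).repr (γ (sb b n q)) q = (tb b).repr (γ (sb b n q)).1 q.out := rfl
  have h2 : (sb b n q).1 = ∑ p' : Fin n → ι, (if Quotient.mk (orb n ι) p' = q then (1 : A) else 0) • tb b p' := by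
    conv_lhs => rw [← (tb (n := n) b).sum_repr (sb b n q).1]
    refine Finset.sum_congr rfl fun p' _ => ?_
    rw [tb_repr_sb]
  rw [h1, hγ, h2, map_sum, map_sum, Finsupp.finsetSum_apply]
  refine Finset.sum_congr rfl fun p' _ => ?_
  rw [map_smul, map_smul, Finsupp.smul_apply, tb_repr_map, smul_eq_mul]
  split_ifs <;> simp

/-- The endomorphism of the symmetric tensors. -/
def gam : symT A n M →ₗ[A] symT A n M :=
  (PiTensorProduct.map (fun _ : Fin n => u)).restrict (fun _ ht => map_mem_symT u ht)

theorem cc_basis {κ : Type u} [Fintype κ] [DecidableEq κ] (c : Module.Basis κ A M) :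
    cc n (LinearMap.toMatrix b b u) = cc n (LinearMap.toMatrix c c u) := by
  rw [← trace_symT b u n (gam u n) (fun _ => rfl), ← trace_symT c u n (gam u n) (fun _ => rfl)]

end trace

section triangular

/-- Existence of a triangular basis. -/
theorem exists_lower {K : Type u} [Field K] [IsAlgClosed K] (r : ℕ) :
    ∀ (V : Type u) [AddCommGroup V] [Module K V] [FiniteDimensional K V] (_ : Module.finrank K V = r)
      (u : V →ₗ[K] V), ∃ b : Module.Basis (Fin r) K V, ∀ i j, i < j → LinearMap.toMatrix b b u i j = 0 := by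
  induction r with
  | zero =>
    intro V _ _ _ hV u
    exact ⟨Module.finBasisOfFinrankEq K V hV, fun i => i.elim0⟩
  | succ r ih =>
    intro V _ _ _ hV u
    have hnt : Nontrivial V := Module.nontrivial_of_finrank_pos (R := K) (by omega)
    obtain ⟨μ, hμ⟩ := Module.End.exists_eigenvalue u
    -- a hyperplane containing the image of `u - μ`
    have hlt : LinearMap.range (u - algebraMap K (Module.End K V) μ) < ⊤ := by
      rw [lt_top_iff_ne_top]
      intro h
      have h1 : LinearMap.ker (u - algebraMap K (Module.End K V) μ) = ⊥ :=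
        LinearMap.ker_eq_bot_iff_range_eq_top.2 h
      obtain ⟨v, hv⟩ := hμ.exists_hasEigenvector
      have h2 : v ∈ LinearMap.ker (u - algebraMap K (Module.End K V) μ) := by
        rw [LinearMap.mem_ker, LinearMap.sub_apply, hv.apply_eq_smul]
        simp
      rw [h1, Submodule.mem_bot] at h2
      exact hv.2 h2
    obtain ⟨f, hf0, hf⟩ := Submodule.exists_le_ker_of_lt_top _ hlt
    let N := LinearMap.ker f
    have hN : ∀ x ∈ N, u x ∈ N := by
      intro x hx
      have h1 : u x = μ • x + (u - algebraMap K (Module.End K V) μ) x := by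
        rw [LinearMap.sub_apply]; simp
      rw [h1]
      exact N.add_mem (N.smul_mem _ hx) (hf ⟨x, rfl⟩)
    have hsurj : Function.Surjective f := LinearMap.surjective hf0
    have hfin : Module.finrank K N = r := by
      have h1 := LinearMap.finrank_range_add_finrank_ker f
      rw [LinearMap.range_eq_top.2 hsurj, finrank_top, Module.finrank_self, hV] at h1
      change Module.finrank K (LinearMap.ker f) = r
      omega
    obtain ⟨b, hb⟩ := ih N hfin (u.restrict hN)
    obtain ⟨y, hy⟩ := hsurj 1
    have hli : ∀ (c : K), ∀ x ∈ N, c • y + x = 0 → c = 0 := by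
      intro c x hx h
      have h2 := congrArg f h
      rw [map_add, map_smul, hy, map_zero, LinearMap.mem_ker.1 hx] at h2
      simpa using h2
    have hsp : ∀ z : V, ∃ c : K, z + c • y ∈ N := by
      intro z
      refine ⟨- f z, ?_⟩
      rw [LinearMap.mem_ker, map_add, map_smul, hy]
      simp
    let B := Module.Basis.mkFinCons y b hli hsp
    have hB0 : B 0 = y := by simp [B]
    have hBs : ∀ i : Fin r, B i.succ = (b i : V) := fun i => by simp [B]
    refine ⟨B, fun i j hij => ?_⟩
    obtain ⟨j', rfl⟩ : ∃ j' : Fin r, j = j'.succ := ⟨j.pred (by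
      rintro rfl; exact absurd hij (by simp)), by simp⟩
    rw [LinearMap.toMatrix_apply, hBs]
    have h1 : u (b j' : V) = ∑ k, (LinearMap.toMatrix b b (u.restrict hN) k j') • B k.succ := by
      have h2 : (u.restrict hN) (b j') = ∑ k, (LinearMap.toMatrix b b (u.restrict hN) k j') • b k := by
        conv_lhs => rw [← b.sum_repr ((u.restrict hN) (b j'))]
        refine Finset.sum_congr rfl fun k _ => ?_
        rw [LinearMap.toMatrix_apply]
      have h3 := congrArg Subtype.val h2
      rw [LinearMap.coe_restrict_apply, AddSubmonoidClass.coe_finsetSum] at h3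
      rw [h3]
      refine Finset.sum_congr rfl fun k _ => ?_
      rw [hBs, Submodule.coe_smul]
    rw [h1, map_sum, Finsupp.finsetSum_apply]
    refine Finset.sum_eq_zero fun k _ => ?_
    rw [map_smul, Finsupp.smul_apply, B.repr_self, smul_eq_mul]
    by_cases hk : k.succ = i
    · subst hk
      rw [hb k j' (Fin.succ_lt_succ_iff.1 hij), zero_mul]
    · rw [Finsupp.single_eq_of_ne' hk, mul_zero]

variable {A : Type u} [CommRing A] {ι : Type u} [Fintype ι] [DecidableEq ι]

open scoped Classical in
/-- For a triangular matrix only the diagonal terms contribute. -/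
theorem cc_of_lower (rk : ι → ℕ) (hrk : Function.Injective rk) (n : ℕ) (U : Matrix ι ι A)
    (hU : ∀ i j, rk i < rk j → U i j = 0) :
    cc n U = ∑ q : Quotient (orb n ι), ∏ j, U (q.out j) (q.out j) := by
  rw [cc]
  refine Finset.sum_congr rfl fun q _ => ?_
  rw [Finset.sum_eq_single (q.out)]
  · rw [if_pos (Quotient.out_eq q)]
  · intro p' _ hp'
    split_ifs with h
    · by_contra hne
      have h1 : ∀ j, rk (p' j) ≤ rk (q.out j) := by
        intro j
        by_contra hlt
        exact hne (Finset.prod_eq_zero (Finset.mem_univ j) (hU _ _ (not_le.1 hlt)))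
      have h2 : (orb n ι).r p' q.out := by
        apply Quotient.exact (s := orb n ι)
        rw [h, Quotient.out_eq]
      obtain ⟨σ, hσ⟩ := h2
      have h3 : ∑ j, rk (p' j) = ∑ j, rk (q.out j) := by
        rw [← hσ]
        exact (Equiv.sum_comp σ (fun j => rk (p' j))).symm
      have h4 := (Finset.sum_eq_sum_iff_of_le (fun j _ => h1 j)).1 h3
      exact hp' (funext fun j => hrk (h4 j (Finset.mem_univ j)))
    · rfl
  · intro h
    exact absurd (Finset.mem_univ _) h

theorem charpolyRev_of_lower (rk : ι → ℕ) (hrk : Function.Injective rk) (U : Matrix ι ι A)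
    (hU : ∀ i j, rk i < rk j → U i j = 0) :
    U.charpolyRev = ∏ i, (1 - Polynomial.X * Polynomial.C (U i i)) := by
  let _ : LinearOrder ι := LinearOrder.lift' rk hrk
  rw [Matrix.charpolyRev, Matrix.det_of_isLowerTriangular]
  · refine Finset.prod_congr rfl fun i _ => ?_
    simp
  · intro i j hij
    have h1 : U i j = 0 := hU i j hij
    have h2 : i ≠ j := by
      rintro rfl
      exact lt_irrefl _ hij
    simp [h1, h2]

end triangular

section generating

variable {A : Type u} [CommRing A] {ι : Type u} [Fintype ι] [DecidableEq ι]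

/-- Counting. -/
def cnt {n : ℕ} (p : Fin n → ι) : ι →₀ ℕ :=
  Finsupp.equivFunOnFinite.symm fun i => (Finset.univ.filter fun k => p k = i).card

theorem cnt_apply {n : ℕ} (p : Fin n → ι) (i : ι) : cnt p i = (Finset.univ.filter fun k => p k = i).card := rfl

theorem sum_cnt {n : ℕ} (p : Fin n → ι) : ∑ i, cnt p i = n := by
  have h := Finset.card_eq_sum_card_fiberwise (s := (Finset.univ : Finset (Fin n))) (f := p)
    (t := Finset.univ) (fun _ _ => Finset.mem_coe.2 (Finset.mem_univ _))
  rw [Finset.card_univ, Fintype.card_fin] at h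
  exact h.symm

theorem prod_eq_cnt {n : ℕ} (p : Fin n → ι) (lam : ι → A) : ∏ j, lam (p j) = ∏ i, lam i ^ cnt p i := by
  rw [← Finset.prod_fiberwise_of_maps_to (s := (Finset.univ : Finset (Fin n))) (t := Finset.univ) (g := p)
    (fun _ _ => Finset.mem_univ _)]
  refine Finset.prod_congr rfl fun i _ => ?_
  rw [Finset.prod_congr rfl (g := fun _ => lam i) (fun k hk => by rw [(Finset.mem_filter.1 hk).2]),
    Finset.prod_const, cnt_apply]

theorem cnt_eq_of_rel {n : ℕ} {p q : Fin n → ι} (h : (orb n ι).r p q) : cnt p = cnt q := by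
  obtain ⟨σ, rfl⟩ := h
  ext i
  rw [cnt_apply, cnt_apply]
  symm
  refine Finset.card_bij (fun k _ => σ k) (fun k hk => by simpa using hk) (fun a _ b _ h => σ.injective h)
    (fun b hb => ⟨σ.symm b, by simpa using hb, by simp⟩)

theorem rel_of_cnt_eq {n : ℕ} {p q : Fin n → ι} (h : cnt p = cnt q) : (orb n ι).r p q := by
  have e : ∀ i, {k // q k = i} ≃ {k // p k = i} := fun i =>
    Fintype.equivOfCardEq (by
      rw [Fintype.card_subtype, Fintype.card_subtype, ← cnt_apply, ← cnt_apply, h])
  let σ : Equiv.Perm (Fin n) :=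
    (Equiv.sigmaFiberEquiv q).symm.trans ((Equiv.sigmaCongrRight e).trans (Equiv.sigmaFiberEquiv p))
  refine ⟨σ, ?_⟩
  funext k
  exact (e (q k) ⟨k, rfl⟩).2

theorem exists_cnt {n : ℕ} (m : ι →₀ ℕ) (hm : ∑ i, m i = n) : ∃ p : Fin n → ι, cnt p = m := by
  have e : Fin n ≃ (Σ i : ι, Fin (m i)) := Fintype.equivOfCardEq (by simp [hm])
  refine ⟨fun k => (e k).1, ?_⟩
  ext i
  rw [cnt_apply, ← Fintype.card_subtype]
  have e2 : {k : Fin n // (e k).1 = i} ≃ Fin (m i) :=
    (e.subtypeEquiv (fun k => Iff.rfl)).trans (Equiv.sigmaSubtype i)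
  rw [Fintype.card_congr e2, Fintype.card_fin]

open scoped Classical in
theorem sum_orb_eq (n : ℕ) (lam : ι → A) :
    ∑ q : Quotient (orb n ι), ∏ j, lam (q.out j) =
      ∑ l ∈ Finset.finsuppAntidiag Finset.univ n, ∏ i, lam i ^ l i := by
  refine Finset.sum_bij (fun q _ => cnt q.out) ?_ ?_ ?_ ?_
  · intro q _
    rw [Finset.mem_finsuppAntidiag]
    exact ⟨sum_cnt _, Finset.subset_univ _⟩
  · intro q _ q' _ h
    have := Quotient.sound (s := orb n ι) (rel_of_cnt_eq h)
    rwa [Quotient.out_eq, Quotient.out_eq] at this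
  · intro m hm
    rw [Finset.mem_finsuppAntidiag] at hm
    obtain ⟨p, hp⟩ := exists_cnt m hm.1
    refine ⟨Quotient.mk _ p, Finset.mem_univ _, ?_⟩
    rw [← hp]
    exact cnt_eq_of_rel (Quotient.exact (s := orb n ι) (Quotient.out_eq _))
  · intro q _
    exact prod_eq_cnt _ _

theorem mk_geom (a : A) : (1 - PowerSeries.X * PowerSeries.C a) * PowerSeries.mk (fun n => a ^ n) = 1 := by
  have h : PowerSeries.mk (fun n => a ^ n) = PowerSeries.rescale a (PowerSeries.mk 1) := by
    ext n
    simp
  have h2 : (1 - PowerSeries.X * PowerSeries.C a : PowerSeries A) =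
      PowerSeries.rescale a (1 - PowerSeries.X) := by
    rw [map_sub, map_one, PowerSeries.rescale_X, mul_comm]
  rw [h, h2, ← map_mul, mul_comm, PowerSeries.mk_one_mul_one_sub_eq_one, map_one]

open scoped Classical in
theorem gen (lam : ι → A) :
    (∏ i, (1 - PowerSeries.X * PowerSeries.C (lam i))) *
      PowerSeries.mk (fun n => ∑ q : Quotient (orb n ι), ∏ j, lam (q.out j)) = 1 := by
  have h : PowerSeries.mk (fun n => ∑ q : Quotient (orb n ι), ∏ j, lam (q.out j)) =
      ∏ i, PowerSeries.mk (fun n => lam i ^ n) := by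
    ext n
    rw [PowerSeries.coeff_mk, PowerSeries.coeff_prod, sum_orb_eq]
    refine Finset.sum_congr rfl fun l _ => Finset.prod_congr rfl fun i _ => ?_
    rw [PowerSeries.coeff_mk]
  rw [h, ← Finset.prod_mul_distrib]
  exact Finset.prod_eq_one fun i _ => mk_geom _

end generating

section main

/-- The identity to be proved. -/
def P {A : Type u} [CommRing A] {ι : Type u} [Fintype ι] [DecidableEq ι] (U : Matrix ι ι A) : Prop :=
  (U.charpolyRev : PowerSeries A) * PowerSeries.mk (fun n => cc n U) = 1

variable {ι : Type u} [Fintype ι] [DecidableEq ι]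

theorem map_lhs {A B : Type u} [CommRing A] [CommRing B] (f : A →+* B) (U : Matrix ι ι A) :
    PowerSeries.map f ((U.charpolyRev : PowerSeries A) * PowerSeries.mk (fun n => cc n U)) =
      ((U.map f).charpolyRev : PowerSeries B) * PowerSeries.mk (fun n => cc n (U.map f)) := by
  rw [map_mul]
  congr 1
  · rw [← Polynomial.polynomial_map_coe]
    congr 1
    rw [Matrix.charpolyRev, Matrix.charpolyRev, ← Polynomial.coe_mapRingHom, RingHom.map_det]
    congr 1
    ext i j
    simp [Matrix.one_apply, apply_ite]
  · ext n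
    rw [PowerSeries.coeff_map, PowerSeries.coeff_mk, PowerSeries.coeff_mk, map_cc]

theorem P.map {A B : Type u} [CommRing A] [CommRing B] (f : A →+* B) {U : Matrix ι ι A} (h : P U) :
    P (U.map f) := by
  rw [P, ← map_lhs, show ((U.charpolyRev : PowerSeries A) * PowerSeries.mk (fun n => cc n U)) = 1 from h, map_one]

theorem P.of_map {A B : Type u} [CommRing A] [CommRing B] (f : A →+* B) (hf : Function.Injective f)
    {U : Matrix ι ι A} (h : P (U.map f)) : P U := by
  rw [P, ← map_lhs] at h
  refine PowerSeries.map_injective f hf ?_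
  rw [h, map_one]

open scoped Classical in
theorem P_of_lower {A : Type u} [CommRing A] (rk : ι → ℕ) (hrk : Function.Injective rk) (U : Matrix ι ι A)
    (hU : ∀ i j, rk i < rk j → U i j = 0) : P U := by
  rw [P, charpolyRev_of_lower rk hrk U hU]
  have h := gen (fun i => U i i)
  have h1 : ((∏ i, (1 - Polynomial.X * Polynomial.C (U i i)) : Polynomial A) : PowerSeries A) =
      ∏ i, (1 - PowerSeries.X * PowerSeries.C (U i i)) := by
    rw [← Polynomial.coeToPowerSeries.ringHom_apply, map_prod]
    refine Finset.prod_congr rfl fun i _ => ?_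
    simp
    exact mul_comm _ _
  have h2 : (fun n => cc n U) = fun n => ∑ q : Quotient (orb n ι), ∏ j, U (q.out j) (q.out j) :=
    funext fun n => cc_of_lower rk hrk n U hU
  rw [h1, h2]
  exact h

theorem P_algClosed {K : Type u} [Field K] [IsAlgClosed K] (U : Matrix ι ι K) : P U := by
  obtain ⟨b, hb⟩ := exists_lower (K := K) (Fintype.card ι) (ι → K) (by simp) (Matrix.toLin' U)
  let e : Fin (Fintype.card ι) ≃ ULift.{u} (Fin (Fintype.card ι)) := Equiv.ulift.symm
  let c := b.reindex e
  have hU : U = LinearMap.toMatrix (Pi.basisFun K ι) (Pi.basisFun K ι) (Matrix.toLin' U) := by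
    rw [LinearMap.toMatrix_eq_toMatrix']
    exact (LinearMap.toMatrix'_toLin' U).symm
  have hP := P_of_lower (fun i : ULift.{u} (Fin (Fintype.card ι)) => (i.down : ℕ))
    (fun i j h => ULift.ext _ _ (Fin.ext h)) (LinearMap.toMatrix c c (Matrix.toLin' U)) (fun i j hij => by
      have := hb i.down j.down hij
      rw [LinearMap.toMatrix_apply] at this ⊢
      rw [Module.Basis.reindex_apply, Module.Basis.repr_reindex_apply]
      exact this)
  rw [P] at hP ⊢
  have h1 : U.charpolyRev = (LinearMap.toMatrix c c (Matrix.toLin' U)).charpolyRev := by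
    rw [← detRev_eq, hU, ← detRev_eq, ← hU]
  have h2 : (fun n => cc n U) = fun n => cc n (LinearMap.toMatrix c c (Matrix.toLin' U)) := by
    funext n
    rw [← cc_basis (Pi.basisFun K ι) (Matrix.toLin' U) n c, ← hU]
  rw [h1, h2]
  exact hP

/-- **MacMahon's master theorem**: `det(1 - t U) * Σ_n cc n U t^n = 1`. -/
theorem macMahon {A : Type u} [CommRing A] (U : Matrix ι ι A) : P U := by
  let R := MvPolynomial (ι × ι) ℤ
  have h0 : P (Matrix.mvPolynomialX ι ι ℤ) := by
    let K := AlgebraicClosure (FractionRing R)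
    exact P.of_map ((algebraMap (FractionRing R) K).comp (algebraMap R (FractionRing R)))
      ((algebraMap (FractionRing R) K).injective.comp (IsFractionRing.injective R (FractionRing R)))
      (P_algClosed _)
  have h1 : U = (Matrix.mvPolynomialX ι ι ℤ).map
      (MvPolynomial.eval₂Hom (Int.castRingHom A) (fun p : ι × ι => U p.1 p.2)) := by
    ext i j
    simp [Matrix.mvPolynomialX]
  rw [h1]
  exact h0.map _

end main

end K557.MacMahon
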