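import Groth.Prelude.Def_DeltaF
import Mathlib.Algebra.Category.Grp.Abelian
import Mathlib.Algebra.Homology.ShortComplex.Ab
import Mathlib.CategoryTheory.ObjectProperty.Basic
import Mathlib.CategoryTheory.Abelian.Exact

/-!
# Morphisms of cohomological delta-functors with values in abelian groups, elementwise
-/

set_option autoImplicit false
universe w v u
open CategoryTheory CategoryTheory.Limits

namespace K557.Delta

variable {C : Type u} [Category.{v} C] [Abelian C]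
  {T T' : DeltaF.CohDeltaFunctor C AddCommGrpCat.{w} ℕ}

section Elements

variable (T) (S : ShortComplex C) (hS : S.ShortExact)

omit hS in
lemma map_comp_zero (n : ℕ) (x : (T.F n).obj S.X₁) : (T.F n).map S.g ((T.F n).map S.f x) = 0 := by
  rw [← ConcreteCategory.comp_apply, ← Functor.map_comp, S.zero, Functor.map_zero]
  rfl

include hS in
lemma ex₂ (n : ℕ) (x : (T.F n).obj S.X₂) (hx : (T.F n).map S.g x = 0) :
    ∃ y : (T.F n).obj S.X₁, (T.F n).map S.f y = x :=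
  (ShortComplex.ab_exact_iff _).1 (T.exact₂ S hS n) x hx

lemma ex₃ (n : ℕ) (x : (T.F n).obj S.X₃) (hx : T.δ S hS n (n + 1) rfl x = 0) :
    ∃ y : (T.F n).obj S.X₂, (T.F n).map S.g y = x :=
  (ShortComplex.ab_exact_iff _).1 (T.exact₃ S hS n (n + 1) rfl) x hx

lemma ex₁ (n : ℕ) (x : (T.F (n + 1)).obj S.X₁) (hx : (T.F (n + 1)).map S.f x = 0) :
    ∃ y : (T.F n).obj S.X₃, T.δ S hS n (n + 1) rfl y = x :=
  (ShortComplex.ab_exact_iff _).1 (T.exact₁ S hS n (n + 1) rfl) x hx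

lemma δ_map_zero (n : ℕ) (x : (T.F n).obj S.X₂) :
    T.δ S hS n (n + 1) rfl ((T.F n).map S.g x) = 0 := by
  rw [← ConcreteCategory.comp_apply, T.comp_δ]
  rfl

end Elements

variable (φ : T ⟶ T')

lemma nat (q : ℕ) {A B : C} (u : A ⟶ B) (x : (T.F q).obj A) :
    (φ.app q).app B ((T.F q).map u x) = (T'.F q).map u ((φ.app q).app A x) := by
  rw [← ConcreteCategory.comp_apply, ← ConcreteCategory.comp_apply, (φ.app q).naturality]

lemma comm (S : ShortComplex C) (hS : S.ShortExact) (q : ℕ) (x : (T.F q).obj S.X₃) :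
    (φ.app (q + 1)).app S.X₁ (T.δ S hS q (q + 1) rfl x) =
      T'.δ S hS q (q + 1) rfl ((φ.app q).app S.X₃ x) := by
  rw [← ConcreteCategory.comp_apply, ← ConcreteCategory.comp_apply]
  exact congrArg (fun t => t x) (φ.comm S hS q (q + 1) rfl)

/-- bijectivity in a degree -/
abbrev Inj (q : ℕ) (A : C) : Prop := Function.Injective ((φ.app q).app A)
/-- bijectivity in a degree -/
abbrev Sur (q : ℕ) (A : C) : Prop := Function.Surjective ((φ.app q).app A)

lemma isIso_iff (q : ℕ) (A : C) : IsIso ((φ.app q).app A) ↔ Inj φ q A ∧ Sur φ q A := by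
  rw [ConcreteCategory.isIso_iff_bijective]
  rfl

lemma inj_iff (q : ℕ) (A : C) : Inj φ q A ↔ ∀ x, (φ.app q).app A x = 0 → x = 0 :=
  injective_iff_map_eq_zero ((φ.app q).app A).hom

/-- the short exact sequence of a mono -/
noncomputable abbrev seq {A M : C} (u : A ⟶ M) : ShortComplex C :=
  ShortComplex.mk u (cokernel.π u) (cokernel.condition u)

lemma seq_exact {A M : C} (u : A ⟶ M) [Mono u] : (seq u).ShortExact :=
  { exact := ShortComplex.exact_cokernel u
    mono_f := inferInstance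
    epi_g := inferInstanceAs (Epi (cokernel.π u)) }

/-- elementwise effaceability -/
def Eff (T : DeltaF.CohDeltaFunctor C AddCommGrpCat.{w} ℕ) : Prop :=
  ∀ (q : ℕ) (A : C) (α : (T.F (q + 1)).obj A), ∃ (M : C) (u : A ⟶ M), Mono u ∧ (T.F (q + 1)).map u α = 0

lemma inj_succ (hT : Eff T) (q : ℕ) (h : ∀ A, Inj φ q A ∧ Sur φ q A) (A : C) : Inj φ (q + 1) A := by
  rw [inj_iff]
  intro α hα
  obtain ⟨M, u, hu, hM⟩ := hT q A α
  obtain ⟨β, hβ⟩ := ex₁ T (seq u) (seq_exact u) q α hM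
  have h1 : T'.δ (seq u) (seq_exact u) q (q + 1) rfl ((φ.app q).app _ β) = 0 := by
    rw [← comm, hβ, hα]
  obtain ⟨γ', hγ'⟩ := ex₃ T' (seq u) (seq_exact u) q _ h1
  obtain ⟨γ, rfl⟩ := (h M).2 γ'
  have h2 : (T.F q).map (seq u).g γ = β := by
    apply (h (seq u).X₃).1
    rw [nat φ q]
    exact hγ'
  rw [← hβ, ← h2, δ_map_zero]

lemma sur_succ_of_eff (hT' : Eff T') (q : ℕ) (h : ∀ A, Sur φ q A) (A : C) : Sur φ (q + 1) A := by
  intro α'
  obtain ⟨M, u, hu, hM⟩ := hT' q A α'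
  obtain ⟨β', hβ'⟩ := ex₁ T' (seq u) (seq_exact u) q α' hM
  obtain ⟨β, rfl⟩ := h _ β'
  refine ⟨T.δ (seq u) (seq_exact u) q (q + 1) rfl β, ?_⟩
  rw [← hβ']
  exact comm φ (seq u) (seq_exact u) q β

lemma sur_succ_of_class (q : ℕ) (h : ∀ A, Sur φ q A)
    (hi : ∀ A, Inj φ (q + 1) A) (A M : C) (u : A ⟶ M) [Mono u] (hM : Sur φ (q + 1) M) :
    Sur φ (q + 1) A := by
  intro α'
  obtain ⟨m, hm⟩ := hM ((T'.F (q + 1)).map u α')
  have h0 : (T.F (q + 1)).map (seq u).g m = 0 := by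
    apply (inj_iff φ _ _).1 (hi _)
    rw [nat φ]
    exact (congrArg _ hm).trans (map_comp_zero T' (seq u) (q + 1) α')
  obtain ⟨a, ha⟩ := ex₂ T (seq u) (seq_exact u) (q + 1) m h0
  have h1 : (T'.F (q + 1)).map (seq u).f (α' - (φ.app (q + 1)).app A a) = 0 := by
    rw [map_sub, sub_eq_zero]
    refine hm.symm.trans ?_
    rw [← ha]
    exact nat φ _ _ _
  obtain ⟨β', hβ'⟩ := ex₁ T' (seq u) (seq_exact u) q _ h1
  obtain ⟨β, rfl⟩ := h _ β'
  refine ⟨a + T.δ (seq u) (seq_exact u) q (q + 1) rfl β, ?_⟩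
  rw [map_add]
  have h2 := comm φ (seq u) (seq_exact u) q β
  rw [hβ'] at h2
  refine (congrArg (fun t => (φ.app (q + 1)).app A a + t) h2).trans ?_
  abel

lemma inj_zero (hT0 : T.ZeroMono) (A M : C) (u : A ⟶ M) [Mono u] (hM : Inj φ 0 M) : Inj φ 0 A := by
  have hm := hT0 (seq u) (seq_exact u)
  have hi : Function.Injective ((T.F 0).map u) := (AddCommGrpCat.mono_iff_injective _).1 hm
  rw [inj_iff]
  intro x hx
  apply hi
  apply hM
  rw [map_zero, map_zero, nat φ, hx, map_zero]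

lemma sur_zero (hT'0 : T'.ZeroMono) (hi : ∀ A, Inj φ 0 A) (A M : C) (u : A ⟶ M) [Mono u]
    (hM : Sur φ 0 M) : Sur φ 0 A := by
  have hm := hT'0 (seq u) (seq_exact u)
  have hi' : Function.Injective ((T'.F 0).map u) := (AddCommGrpCat.mono_iff_injective _).1 hm
  intro α'
  obtain ⟨m, hm⟩ := hM ((T'.F 0).map u α')
  have h0 : (T.F 0).map (seq u).g m = 0 := by
    apply (inj_iff φ _ _).1 (hi _)
    rw [nat φ]
    exact (congrArg _ hm).trans (map_comp_zero T' (seq u) 0 α')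
  obtain ⟨a, ha⟩ := ex₂ T (seq u) (seq_exact u) 0 m h0
  refine ⟨a, hi' ?_⟩
  rw [← nat φ, ← hm]
  exact congrArg _ ha

theorem iff_class (hT0 : T.ZeroMono) (hT'0 : T'.ZeroMono) (hT : Eff T)
    (E : ObjectProperty C) (hE : ∀ A : C, ∃ (M : C) (i : A ⟶ M), Mono i ∧ E M) :
    ((∀ (q : ℕ) (A : C), IsIso ((φ.app q).app A)) ↔
      ((∀ M : C, E M → IsIso ((φ.app 0).app M)) ∧
        ∀ (q : ℕ) (M : C), E M → Epi ((φ.app (q + 1)).app M))) := by
  constructor
  · intro h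
    exact ⟨fun M _ => h 0 M, fun q M _ => by have := h (q + 1) M; infer_instance⟩
  · rintro ⟨h0, h1⟩ q
    suffices h : ∀ A, Inj φ q A ∧ Sur φ q A from fun A => (isIso_iff φ q A).2 (h A)
    induction q with
    | zero =>
      have hi : ∀ A, Inj φ 0 A := fun A => by
        obtain ⟨M, i, hi, hM⟩ := hE A
        exact inj_zero φ hT0 A M i ((isIso_iff φ 0 M).1 (h0 M hM)).1
      refine fun A => ⟨hi A, ?_⟩
      obtain ⟨M, i, _, hM⟩ := hE A
      exact sur_zero φ hT'0 hi A M i ((isIso_iff φ 0 M).1 (h0 M hM)).2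
    | succ q ih =>
      have hi : ∀ A, Inj φ (q + 1) A := inj_succ φ hT q ih
      refine fun A => ⟨hi A, ?_⟩
      obtain ⟨M, i, _, hM⟩ := hE A
      exact sur_succ_of_class φ q (fun A => (ih A).2) hi A M i
        ((AddCommGrpCat.epi_iff_surjective _).1 (h1 q M hM))

theorem iff_eff (hT : Eff T) :
    ((∀ (q : ℕ) (A : C), IsIso ((φ.app q).app A)) ↔
      ((∀ A : C, IsIso ((φ.app 0).app A)) ∧ Eff T')) := by
  constructor
  · intro h
    refine ⟨h 0, fun q A α => ?_⟩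
    obtain ⟨β, hβ⟩ := ((isIso_iff φ (q + 1) A).1 (h (q + 1) A)).2 α
    obtain ⟨M, u, hu, hM⟩ := hT q A β
    refine ⟨M, u, hu, ?_⟩
    rw [← hβ, ← nat φ, hM, map_zero]
  · rintro ⟨h0, h1⟩ q
    suffices h : ∀ A, Inj φ q A ∧ Sur φ q A from fun A => (isIso_iff φ q A).2 (h A)
    induction q with
    | zero => exact fun A => (isIso_iff φ 0 A).1 (h0 A)
    | succ q ih =>
      exact fun A => ⟨inj_succ φ hT q ih A, sur_succ_of_eff φ h1 q (fun A => (ih A).2) A⟩

end K557.Delta
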