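import Groth.Agent.SGA4h.K557.Delta
import Mathlib.Algebra.Category.Grp.Ulift
import Mathlib.Algebra.Category.Grp.FilteredColimits
import Mathlib.CategoryTheory.Limits.ConcreteCategory.Basic
import Mathlib.CategoryTheory.Limits.Preserves.Filtered

/-!
# Morphisms of delta-functors commuting with filtered colimits
-/

set_option autoImplicit false
universe w v u
open CategoryTheory CategoryTheory.Limits

namespace K557.DeltaColim

open K557.Delta

section Ab

variable {J : Type v} [SmallCategory J] [IsFiltered J] {F : J ⥤ AddCommGrpCat.{w}} {c : Cocone F}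

lemma exists_rep (hc : IsColimit c) (x : c.pt) : ∃ (j : J) (y : F.obj j), c.ι.app j y = x := by
  have h : PreservesFilteredColimitsOfSize.{v, v} (forget AddCommGrpCat.{max v w}) :=
    preservesFilteredColimitsOfSize_of_univLE.{max v w, max v w} (forget AddCommGrpCat.{max v w})
  have h' : PreservesColimitsOfShape J (forget AddCommGrpCat.{max v w}) :=
    h.preserves_filtered_colimits J
  obtain ⟨j, y, hy⟩ := Concrete.isColimit_exists_rep (F ⋙ AddCommGrpCat.uliftFunctor.{v, w})
    (isColimitOfPreserves AddCommGrpCat.uliftFunctor.{v, w} hc) (ULift.up x)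
  exact ⟨j, y.down, congrArg ULift.down hy⟩

lemma exists_of_map_eq_zero (hc : IsColimit c) (i : J) (x : F.obj i) (hx : c.ι.app i x = 0) :
    ∃ (j : J) (f : i ⟶ j), F.map f x = 0 := by
  have h : PreservesFilteredColimitsOfSize.{v, v} (forget AddCommGrpCat.{max v w}) :=
    preservesFilteredColimitsOfSize_of_univLE.{max v w, max v w} (forget AddCommGrpCat.{max v w})
  have h' : PreservesColimitsOfShape J (forget AddCommGrpCat.{max v w}) :=
    h.preserves_filtered_colimits J
  obtain ⟨k, f, g, hfg⟩ := Concrete.isColimit_exists_of_rep_eq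
    (F ⋙ AddCommGrpCat.uliftFunctor.{v, w})
    (isColimitOfPreserves AddCommGrpCat.uliftFunctor.{v, w} hc)
    (ULift.up x : (F ⋙ AddCommGrpCat.uliftFunctor.{v, w}).obj i)
    (ULift.up 0 : (F ⋙ AddCommGrpCat.uliftFunctor.{v, w}).obj i)
    (ULift.down_injective (by
      refine hx.trans ?_
      exact (map_zero (c.ι.app i).hom).symm))
  exact ⟨k, f, (congrArg ULift.down hfg).trans (map_zero (F.map g).hom)⟩

end Ab

variable {C : Type u} [Category.{v} C] [Abelian C]
  {T T' : DeltaF.CohDeltaFunctor C AddCommGrpCat.{w} ℕ} (φ : T ⟶ T')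

section Colim

variable {J : Type v} [SmallCategory J] [IsFiltered J] {K : J ⥤ C} {c : Cocone K}

include φ

lemma inj_colim (q : ℕ) [PreservesFilteredColimitsOfSize.{v, v} (T.F q)]
    [PreservesFilteredColimitsOfSize.{v, v} (T'.F q)]
    (hc : IsColimit c) (h : ∀ j, Inj φ q (K.obj j)) : Inj φ q c.pt := by
  have h1 : PreservesColimitsOfShape J (T.F q) :=
    PreservesFilteredColimitsOfSize.preserves_filtered_colimits J
  have h2 : PreservesColimitsOfShape J (T'.F q) :=
    PreservesFilteredColimitsOfSize.preserves_filtered_colimits J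
  rw [inj_iff]
  intro x hx
  obtain ⟨j, y, rfl⟩ := exists_rep (isColimitOfPreserves (T.F q) hc) x
  have h3 : ((T'.F q).mapCocone c).ι.app j ((φ.app q).app (K.obj j) y) = 0 :=
    (nat φ q (c.ι.app j) y).symm.trans hx
  obtain ⟨k, f, hf⟩ := exists_of_map_eq_zero (isColimitOfPreserves (T'.F q) hc) j
    ((φ.app q).app (K.obj j) y) h3
  have h4 : (T.F q).map (K.map f) y = 0 := (inj_iff φ _ _).1 (h k) _ ((nat φ q (K.map f) y).trans hf)
  have h5 : (T.F q).map (c.ι.app j) y = (T.F q).map (c.ι.app k) ((T.F q).map (K.map f) y) := by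
    rw [← c.w f, Functor.map_comp]
    rfl
  refine h5.trans ?_
  rw [h4, map_zero]

lemma sur_colim (q : ℕ) [PreservesFilteredColimitsOfSize.{v, v} (T'.F q)]
    (hc : IsColimit c) (h : ∀ j, Sur φ q (K.obj j)) : Sur φ q c.pt := by
  have h2 : PreservesColimitsOfShape J (T'.F q) :=
    PreservesFilteredColimitsOfSize.preserves_filtered_colimits J
  intro x
  obtain ⟨j, y, rfl⟩ := exists_rep (isColimitOfPreserves (T'.F q) hc) x
  obtain ⟨z, rfl⟩ := h j y
  exact ⟨(T.F q).map (c.ι.app j) z, nat φ q (c.ι.app j) z⟩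

lemma inj_of_iso (q : ℕ) {A B : C} (e : A ≅ B) (h : Inj φ q A) : Inj φ q B := by
  rw [inj_iff]
  intro x hx
  have h1 : (T.F q).map e.inv x = 0 := (inj_iff φ _ _).1 h _ (by rw [nat φ, hx, map_zero])
  have h2 : (T.F q).map e.hom ((T.F q).map e.inv x) = x := by
    rw [← ConcreteCategory.comp_apply, ← Functor.map_comp, e.inv_hom_id,
      CategoryTheory.Functor.map_id]
    rfl
  rw [← h2, h1, map_zero]

lemma sur_of_iso (q : ℕ) {A B : C} (e : A ≅ B) (h : Sur φ q A) : Sur φ q B := by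
  intro x
  obtain ⟨y, hy⟩ := h ((T'.F q).map e.inv x)
  refine ⟨(T.F q).map e.hom y, ?_⟩
  rw [nat φ, hy, ← ConcreteCategory.comp_apply, ← Functor.map_comp, e.inv_hom_id,
      CategoryTheory.Functor.map_id]
  rfl

end Colim

/-- injectivity in the next degree from injectivity on an overobject -/
lemma inj_succ_of_class (q : ℕ) (h : ∀ A, Inj φ q A ∧ Sur φ q A) (A M : C) (u : A ⟶ M) [Mono u]
    (hM : Inj φ (q + 1) M) : Inj φ (q + 1) A := by
  rw [inj_iff]
  intro α hα
  have hM' : (T.F (q + 1)).map (seq u).f α = 0 := by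
    apply (inj_iff φ _ _).1 hM
    refine (nat φ (q + 1) u α).trans ?_
    rw [hα, map_zero]
  obtain ⟨β, hβ⟩ := ex₁ T (seq u) (seq_exact u) q α hM'
  have h1 : T'.δ (seq u) (seq_exact u) q (q + 1) rfl ((φ.app q).app _ β) = 0 := by
    rw [← Delta.comm, hβ, hα]
  obtain ⟨γ', hγ'⟩ := ex₃ T' (seq u) (seq_exact u) q _ h1
  obtain ⟨γ, rfl⟩ := (h M).2 γ'
  have h2 : (T.F q).map (seq u).g γ = β := by
    apply (h (seq u).X₃).1
    rw [nat φ q]
    exact hγ'
  rw [← hβ, ← h2, δ_map_zero]

theorem iff_filtered (hT0 : T.ZeroMono) (hT'0 : T'.ZeroMono)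
    [∀ n, PreservesFilteredColimitsOfSize.{v, v} (T.F n)]
    [∀ n, PreservesFilteredColimitsOfSize.{v, v} (T'.F n)]
    (D E : ObjectProperty C)
    (hD : ∀ A : C, ∃ (J : Type v) (_ : SmallCategory J) (_ : IsFiltered J) (K : J ⥤ C) (c : Cocone K)
      (_ : IsColimit c), (∀ j, D (K.obj j)) ∧ Nonempty (c.pt ≅ A))
    (hE : ∀ A : C, D A → ∃ (M : C) (i : A ⟶ M), Mono i ∧ E M) :
    (∀ (q : ℕ) (A : C), IsIso ((φ.app q).app A)) ↔
      ∀ (q : ℕ) (M : C), E M → IsIso ((φ.app q).app M) := by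
  constructor
  · exact fun h q M _ => h q M
  · intro h q
    suffices h : ∀ A, Inj φ q A ∧ Sur φ q A from fun A => (isIso_iff φ q A).2 (h A)
    have inj_all : ∀ q, (∀ A, D A → Inj φ q A) → ∀ A, Inj φ q A := by
      intro q hq A
      obtain ⟨J, _, _, K, c, hc, hK, ⟨e⟩⟩ := hD A
      exact inj_of_iso φ q e (inj_colim φ q hc (fun j => hq _ (hK j)))
    have sur_all : ∀ q, (∀ A, D A → Sur φ q A) → ∀ A, Sur φ q A := by
      intro q hq A
      obtain ⟨J, _, _, K, c, hc, hK, ⟨e⟩⟩ := hD A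
      exact sur_of_iso φ q e (sur_colim φ q hc (fun j => hq _ (hK j)))
    induction q with
    | zero =>
      have hi : ∀ A, Inj φ 0 A := inj_all 0 fun A hA => by
        obtain ⟨M, i, _, hM⟩ := hE A hA
        exact inj_zero φ hT0 A M i ((isIso_iff φ 0 M).1 (h 0 M hM)).1
      refine fun A => ⟨hi A, sur_all 0 (fun A hA => ?_) A⟩
      obtain ⟨M, i, _, hM⟩ := hE A hA
      exact sur_zero φ hT'0 hi A M i ((isIso_iff φ 0 M).1 (h 0 M hM)).2
    | succ q ih =>
      have hi : ∀ A, Inj φ (q + 1) A := inj_all (q + 1) fun A hA => by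
        obtain ⟨M, i, _, hM⟩ := hE A hA
        exact inj_succ_of_class φ q ih A M i ((isIso_iff φ (q + 1) M).1 (h (q + 1) M hM)).1
      refine fun A => ⟨hi A, sur_all (q + 1) (fun A hA => ?_) A⟩
      obtain ⟨M, i, _, hM⟩ := hE A hA
      exact sur_succ_of_class φ q (fun A => (ih A).2) hi A M i
        ((isIso_iff φ (q + 1) M).1 (h (q + 1) M hM)).2

end K557.DeltaColim
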