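import Mathlib.RingTheory.Localization.Integral
import Mathlib.RingTheory.IntegralClosure.IntegrallyClosed
import Mathlib.RingTheory.Algebraic.Integral
import Mathlib.FieldTheory.IsSepClosed

/-!
# The integral closure of a ring in a separably closed field

`D = integralClosure R Ω`, `Ω` a separably closed field: `D` is integrally closed and its fraction field is separably
closed.
-/

set_option autoImplicit false
universe u v

namespace K557.IntSep

open Polynomial

variable (R : Type u) [CommRing R] (Ω : Type v) [Field Ω] [Algebra R Ω]

noncomputable section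

/-- `Frac D ⟶ Ω`. -/
def jmap : FractionRing (integralClosure R Ω) →+* Ω :=
  IsFractionRing.lift (A := integralClosure R Ω) (K := FractionRing (integralClosure R Ω))
    (g := algebraMap (integralClosure R Ω) Ω) Subtype.val_injective

theorem jmap_algebraMap (x : integralClosure R Ω) :
    jmap R Ω (algebraMap _ (FractionRing (integralClosure R Ω)) x) = x :=
  IsFractionRing.lift_algebraMap (A := integralClosure R Ω) (K := FractionRing (integralClosure R Ω))
    (g := algebraMap (integralClosure R Ω) Ω) Subtype.val_injective x

theorem mem_of_isIntegral {x : Ω} (hx : IsIntegral (integralClosure R Ω) x) : x ∈ integralClosure R Ω :=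
  isIntegral_trans (R := R) (A := integralClosure R Ω) x hx

theorem isIntegrallyClosed : IsIntegrallyClosed (integralClosure R Ω) := by
  rw [isIntegrallyClosed_iff (FractionRing (integralClosure R Ω))]
  intro x hx
  have h1 : IsIntegral (integralClosure R Ω) (jmap R Ω x) := by
    obtain ⟨p, hp, hpx⟩ := hx
    refine ⟨p, hp, ?_⟩
    have h2 := congrArg (jmap R Ω) hpx
    rw [map_zero, hom_eval₂] at h2
    have h3 : (jmap R Ω).comp (algebraMap (integralClosure R Ω) (FractionRing (integralClosure R Ω))) =
        algebraMap (integralClosure R Ω) Ω := by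
      ext y
      exact jmap_algebraMap R Ω y
    rw [h3] at h2
    exact h2
  refine ⟨⟨_, mem_of_isIntegral R Ω h1⟩, (jmap R Ω).injective ?_⟩
  rw [jmap_algebraMap]

theorem isSepClosed [IsSepClosed Ω] : IsSepClosed (FractionRing (integralClosure R Ω)) := by
  refine IsSepClosed.of_exists_root _ (fun p hm hirr hsep => ?_)
  let _ : Algebra (FractionRing (integralClosure R Ω)) Ω := (jmap R Ω).toAlgebra
  have : IsScalarTower (integralClosure R Ω) (FractionRing (integralClosure R Ω)) Ω :=
    IsScalarTower.of_algebraMap_eq fun x => (jmap_algebraMap R Ω x).symm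
  obtain ⟨w, hw⟩ := IsSepClosed.exists_root (k := Ω) (p.map (jmap R Ω)) (by
    rw [degree_map]
    exact (degree_pos_of_irreducible hirr).ne') hsep.map
  have halg : IsAlgebraic (FractionRing (integralClosure R Ω)) w := by
    refine ⟨p, hirr.ne_zero, ?_⟩
    rw [aeval_def, ← eval_map]
    exact hw
  rw [← IsFractionRing.isAlgebraic_iff (integralClosure R Ω) (FractionRing (integralClosure R Ω)) Ω] at halg
  obtain ⟨y, hy, hyw⟩ := halg.exists_integral_multiple
  have h1 := mem_of_isIntegral R Ω hyw
  have hy' : (y : Ω) ≠ 0 := fun h => hy (Subtype.ext h)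
  refine ⟨algebraMap (integralClosure R Ω) _ ⟨_, h1⟩ / algebraMap (integralClosure R Ω) _ y, (jmap R Ω).injective ?_⟩
  have h2 : jmap R Ω (algebraMap (integralClosure R Ω) _ ⟨_, h1⟩ / algebraMap (integralClosure R Ω) _ y) = w := by
    rw [map_div₀, jmap_algebraMap, jmap_algebraMap]
    change (y : Ω) * w / y = w
    field_simp
  rw [map_zero, ← eval₂_hom, h2, ← eval_map]
  exact hw

end

end K557.IntSep
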