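import Groth.Agent.SGA4h.K557.LaInt
import Groth.Agent.SGA4h.K557.IntSep
import Groth.Prelude.Def_Hens2

/-!
# Cospecialization maps for the fibres of a locally acyclic morphism over a strictly local base

* `good_int`: `u : Y ⟶ T` locally acyclic relative to `G` and cohomology of `G` equal to that of all geometric fibres:
  then `H^q(Y, G) = H^q(Y ×_T Spec D, G)` for `D` the integral closure of a strict localization of `T` in a separably
  closed field;
* `hi_special`: the restriction to the fibre over any point of `Spec D` is bijective on cohomology.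
-/

set_option autoImplicit false
universe u

open CategoryTheory CategoryTheory.Limits AlgebraicGeometry Opposite IsLocalRing

noncomputable section

namespace K557.LaCosp

open scoped Groth.Agent.Etcore.EtInst
open Groth.Agent.Etcore.EtInst Groth.Agent.Etcore.HpullCalc
open Groth.Agent.Sga1.UlaGeo Groth.Agent.Sga1.UlaRes Groth.Agent.Etrest.StrictLoc
  Groth.Agent.Sga4h.UlaGood Groth.Agent.Sga1.UlaLoc Groth.Agent.Sga1.UlaSL K557.LaInt

variable {Y T : Scheme.{u}} {u : Y ⟶ T} {G : EtCoh.Ab Y}

theorem lAt_of_iso {F G : EtCoh.Ab Y} (e : F ≅ G) (f : Y ⟶ T) (x : Y) (h : LAt f F x) : LAt f G x := by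
  intro A C _ _ _ _ σ τ hσ hτ hx β _ hβ Ω _ _ ω P p r hP
  exact (hi_of_res G _ _ _ _).2 (HI.of_iso ((EtCoh.pull τ).mapIso e)
    ((hi_of_res F _ _ _ _).1 (h A C σ τ hσ hτ hx β hβ Ω ω P p r hP)))

theorem lAt_pull_congr {Z P P₁ : Scheme.{u}} {k : P ⟶ P₁} {p₁ : P₁ ⟶ Y} {p : P ⟶ Y} (w : k ≫ p₁ = p) (r : P ⟶ Z) (y : P)
    (h : LAt r ((EtCoh.pull k).obj ((EtCoh.pull p₁).obj G)) y) : LAt r ((EtCoh.pull p).obj G) y := by
  subst w
  exact lAt_of_iso ((EtCore.pullComp k p₁).symm.app G) r y h

/-- Local acyclicity over an integral extension of a strict localization. -/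
theorem lAt_int (hLA : ∀ y, LAt u G y) {R' D : Type u} [CommRing R'] [IsLocalRing R'] [CommRing D] [Algebra R' D]
    [Algebra.IsIntegral R' D] {σ : Spec (CommRingCat.of R') ⟶ T} (hσ : IsStrictLoc σ) {P : Scheme.{u}} {p : P ⟶ Y}
    {r : P ⟶ Spec (CommRingCat.of D)} (h : IsPullback p r u (spm (algebraMap R' D) ≫ σ)) (y : P) :
    LAt r ((EtCoh.pull p).obj G) y := by
  have i1 : WeaklyEtale σ := weaklyEtale_of_isStrictLoc hσ
  have i2 : IsIntegralHom (spm (algebraMap R' D)) := by
    rw [IsIntegralHom.SpecMap_iff]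
    exact algebraMap_isIntegral_iff.2 inferInstance
  have h1 := IsPullback.of_hasPullback u σ
  have hw : p ≫ u = (r ≫ spm (algebraMap R' D)) ≫ σ := by rw [h.w, Category.assoc]
  have h2 : IsPullback (h1.lift p (r ≫ spm (algebraMap R' D)) hw) r (pullback.snd u σ) (spm (algebraMap R' D)) :=
    IsPullback.of_right (by rw [h1.lift_fst]; exact h) (h1.lift_snd _ _ hw) h1
  refine lAt_pull_congr (h1.lift_fst _ _ hw) r y ?_
  exact lAt_baseChange h2 y (lAt_baseChange_weaklyEtale h1 _ (hLA _))

/-- all geometric fibres have the same cohomology. -/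
def GoodPts (u : Y ⟶ T) (G : EtCoh.Ab Y) : Prop :=
  ∀ (Ω : Type u) [Field Ω] [IsSepClosed Ω] (t : Spec (CommRingCat.of Ω) ⟶ T), Good u G t

theorem good_int (hLA : ∀ y, LAt u G y) (hG : GoodPts u G) {R' : Type u} [CommRing R'] [IsLocalRing R']
    {σ : Spec (CommRingCat.of R') ⟶ T} (hσ : IsStrictLoc σ) (Ω : Type u) [Field Ω] [IsSepClosed Ω] [Algebra R' Ω] :
    Good u G (spm (algebraMap R' (integralClosure R' Ω)) ≫ σ) := by
  have i1 : IsIntegrallyClosed (integralClosure R' Ω) := IntSep.isIntegrallyClosed R' Ω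
  have i2 : IsSepClosed (FractionRing (integralClosure R' Ω)) := IntSep.isSepClosed R' Ω
  have sq := IsPullback.of_hasPullback u (spm (algebraMap R' (integralClosure R' Ω)) ≫ σ)
  refine Good.of_comp sq (IsPullback.of_hasPullback _
    (spm (algebraMap (integralClosure R' Ω) (FractionRing (integralClosure R' Ω))))) (hG _ _) ?_
  exact hi_generic (integralClosure R' Ω) (FractionRing (integralClosure R' Ω)) _ _ (fun y => lAt_int hLA hσ sq y)
    (IsPullback.of_hasPullback _ _)

theorem isSepClosed_residueField (D : Type u) [CommRing D] [IsDomain D] [IsIntegrallyClosed D]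
    [IsSepClosed (FractionRing D)] (s' : ↥(Spec (CommRingCat.of D))) :
    IsSepClosed ((Spec (CommRingCat.of D)).residueField s') :=
  (exists_stalk_data D (FractionRing D) s').1.sepClosed

/-- The restriction to the fibre over any point of the integral closure is bijective on cohomology. -/
theorem hi_special (hLA : ∀ y, LAt u G y) (hG : GoodPts u G) {R' : Type u} [CommRing R'] [IsLocalRing R']
    {σ : Spec (CommRingCat.of R') ⟶ T} (hσ : IsStrictLoc σ) (Ω : Type u) [Field Ω] [IsSepClosed Ω] [Algebra R' Ω]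
    (s' : ↥(Spec (CommRingCat.of (integralClosure R' Ω)))) {P P' : Scheme.{u}} {p : P ⟶ Y}
    {r : P ⟶ Spec (CommRingCat.of (integralClosure R' Ω))}
    (h : IsPullback p r u (spm (algebraMap R' (integralClosure R' Ω)) ≫ σ)) {π : P' ⟶ P}
    {r' : P' ⟶ Spec ((Spec (CommRingCat.of (integralClosure R' Ω))).residueField s')}
    (h' : IsPullback π r' r ((Spec (CommRingCat.of (integralClosure R' Ω))).fromSpecResidueField s')) :
    HI π ((EtCoh.pull p).obj G) := by
  have i1 : IsIntegrallyClosed (integralClosure R' Ω) := IntSep.isIntegrallyClosed R' Ω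
  have i2 : IsSepClosed (FractionRing (integralClosure R' Ω)) := IntSep.isSepClosed R' Ω
  have i3 := isSepClosed_residueField (integralClosure R' Ω) s'
  exact Good.hi h h' (good_int hLA hG hσ Ω)
    (hG ((Spec (CommRingCat.of (integralClosure R' Ω))).residueField s') _)

/-- The hypothesis on cospecialization maps of `S12117` for the morphism of strict localizations. -/
theorem hb_of_isLARel {X S : Scheme.{u}} (f : X ⟶ S) (F : EtCoh.Ab X) (hLA : SGA4h.IsLARel f F) (x : X)
    (RS RX : Type u) [CommRing RS] [CommRing RX] [IsLocalRing RS] [IsLocalRing RX]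
    [Algebra (S.presheaf.stalk (f.base x)) RS] [IsLocalHom (algebraMap (S.presheaf.stalk (f.base x)) RS)]
    [Hensel.IsStrictHenselization (S.presheaf.stalk (f.base x)) RS]
    [Algebra (X.presheaf.stalk x) RX] [IsLocalHom (algebraMap (X.presheaf.stalk x) RX)]
    [Hensel.IsStrictHenselization (X.presheaf.stalk x) RX]
    [Algebra RS RX] [IsLocalHom (algebraMap RS RX)]
    (hc : (algebraMap RS RX).comp (algebraMap (S.presheaf.stalk (f.base x)) RS) =
      (algebraMap (X.presheaf.stalk x) RX).comp (f.stalkMap x).hom)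
    (s : ↥(Spec (CommRingCat.of RS))) (R : Type u) [CommRing R] [IsLocalRing R]
    [Algebra ((Spec (CommRingCat.of RS)).presheaf.stalk s) R]
    [IsLocalHom (algebraMap ((Spec (CommRingCat.of RS)).presheaf.stalk s) R)]
    [Hensel.IsStrictHenselization ((Spec (CommRingCat.of RS)).presheaf.stalk s) R]
    (Ω : Type u) [Field Ω] [IsSepClosed Ω] [Algebra R Ω]
    (s' : ↥(Spec (CommRingCat.of ↥(integralClosure R Ω)))) (q : ℕ) :
    Function.Bijective (EtCore.Hpull (pullback.fst (pullback.snd (Spec.map (CommRingCat.ofHom (algebraMap RS RX)))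
      (Spec.map (CommRingCat.ofHom (algebraMap R ↥(integralClosure R Ω))) ≫
        Hens2.specOf (Spec (CommRingCat.of RS)) s R))
        ((Spec (CommRingCat.of ↥(integralClosure R Ω))).fromSpecResidueField s'))
      ((EtCoh.pull (pullback.fst (Spec.map (CommRingCat.ofHom (algebraMap RS RX)))
        (Spec.map (CommRingCat.ofHom (algebraMap R ↥(integralClosure R Ω))) ≫
          Hens2.specOf (Spec (CommRingCat.of RS)) s R))).obj ((EtCoh.pull (Hens2.specOf X x RX)).obj F)) q) := by
  have hL : ∀ x, LAt f F x := Groth.Agent.Sga4h.UlaRed.isLARel_iff.1 hLA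
  have hσ := isStrictLoc_specOf S (f.base x) RS
  have hτ := isStrictLoc_specOf X x RX
  have i1 : WeaklyEtale (Hens2.specOf S (f.base x) RS) := weaklyEtale_of_isStrictLoc hσ
  have i2 : WeaklyEtale (Hens2.specOf X x RX) := weaklyEtale_of_isStrictLoc hτ
  have hsq := (Groth.Agent.Etrest.VCBaseChange.specOf_comm f x RS RX (algebraMap RS RX)).1 hc
  have hLA' : ∀ y, LAt (spm (algebraMap RS RX)) ((EtCoh.pull (Hens2.specOf X x RX)).obj F) y := by
    intro y
    have h1 := (lAt_comp_source (Hens2.specOf X x RX) f F y).2 (hL _)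
    rw [← hsq] at h1
    exact (lAt_comp_target (Hens2.specOf S (f.base x) RS) (spm (algebraMap RS RX)) _ y).1 h1
  have hG : GoodPts (spm (algebraMap RS RX)) ((EtCoh.pull (Hens2.specOf X x RX)).obj F) := by
    intro Ω _ _ t P p r hP
    obtain ⟨ω, rfl⟩ : ∃ ω : RS →+* Ω, spm ω = t := ⟨(Spec.preimage t).hom, Spec.map_preimage t⟩
    exact (hi_of_res F _ _ _ _).1 (hL x RS RX _ _ hσ hτ
      (Groth.Agent.Etrest.VCBaseChange.specOf_closedPoint X x RX) (algebraMap RS RX) hsq Ω ω P p r hP)
  exact (hi_iff_Hpull _ _).1 (hi_special hLA' hG (isStrictLoc_specOf _ s R) Ω s' (IsPullback.of_hasPullback _ _)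
    (IsPullback.of_hasPullback _ _)) q

end K557.LaCosp
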