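import Groth.Agent.Sga4h.H569.LangDet
import Mathlib.LinearAlgebra.Trace
import Mathlib.FieldTheory.Finite.Basic

/-!
# Traces on fixed vectors of `p`-linear maps
-/

set_option autoImplicit false
universe u v w

namespace K557.TraceFix

open Groth.Agent.Sga4h.H569.DetRev Groth.Agent.Sga4h.H569.LangDet Polynomial

theorem coeff_one_detRev {R : Type u} [CommRing R] {V : Type v} [AddCommGroup V] [Module R V] [Module.Free R V]
    [Module.Finite R V] (φ : V →ₗ[R] V) : (detRev φ).coeff 1 = - LinearMap.trace R V φ := by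
  classical
  let b := Module.Free.chooseBasis R V
  rw [detRev_eq b, Matrix.coeff_charpolyRev_eq_neg_trace, ← LinearMap.trace_eq_matrix_trace R b]

theorem coeff_one_detRev' {R : Type u} [Field R] {V : Type v} [AddCommGroup V] [Module R V]
    [Module.Finite R V] (φ : V →ₗ[R] V) : (detRev φ).coeff 1 = - LinearMap.trace R V φ := coeff_one_detRev φ

/-- Change of the field of coefficients along an isomorphism. -/
theorem detRev_congr {k : Type u} {k' : Type v} [Field k] [Field k'] (e : k ≃+* k') {V : Type w} [AddCommGroup V]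
    [Module k V] [Module k' V] (h : ∀ (c : k) (x : V), e c • x = c • x) [FiniteDimensional k' V]
    (φ : V →ₗ[k] V) (φ' : V →ₗ[k'] V) (hφ : ∀ x, φ' x = φ x) : detRev φ' = (detRev φ).map (e : k →+* k') := by
  classical
  let b := Module.finBasis k' V
  have h' : ∀ (c : k') (x : V), e.symm c • x = c • x := fun c x => by
    rw [← h, e.apply_symm_apply]
  let b' := b.mapCoeffs e.symm h'
  refine detRev_map (e : k →+* k') b' b φ φ' (fun i j => ?_)
  rw [LinearMap.toMatrix_apply, LinearMap.toMatrix_apply, hφ]
  have h1 : b' j = b j := Module.Basis.mapCoeffs_apply _ _ _ _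
  rw [h1, Module.Basis.mapCoeffs_repr]
  exact (e.apply_symm_apply ((b.repr (φ (b j))) i)).symm

/-- The prime field. -/
noncomputable def primeEquiv (p : ℕ) [Fact p.Prime] (k : Type u) [Field k] [CharP k p] :
    ZMod p ≃+* (⊥ : Subfield k) :=
  RingEquiv.ofBijective ((ZMod.castHom (dvd_refl p) k).codRestrict (⊥ : Subfield k) (fun x => by
    rw [← ZMod.fieldRange_castHom_eq_bot p]; exact ⟨x, rfl⟩)) (by
    refine ⟨fun x y h => (ZMod.castHom (dvd_refl p) k).injective (congrArg Subtype.val h), fun y => ?_⟩
    obtain ⟨x, hx⟩ : (y : k) ∈ (ZMod.castHom (dvd_refl p) k).fieldRange := by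
      rw [ZMod.fieldRange_castHom_eq_bot p]; exact y.2
    exact ⟨x, Subtype.ext hx⟩)

theorem coe_primeEquiv (p : ℕ) [Fact p.Prime] (k : Type u) [Field k] [CharP k p] (x : ZMod p) :
    (primeEquiv p k x : k) = ZMod.castHom (dvd_refl p) k x := rfl

end K557.TraceFix
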