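import Groth.Agent.Etbc.H185.ClassRes
import Groth.Agent.FormalB.BCAbs
import Mathlib.CategoryTheory.Abelian.RightDerived
import Mathlib.Algebra.Homology.Augment

/-!
# Acyclicity of the members of an adapted class
-/

set_option autoImplicit false
universe v v' u u'
open CategoryTheory CategoryTheory.Limits

noncomputable section
namespace K557.Adapted

open Groth.Agent.Etbc.H185.ClassRes Groth.Agent.FormalB.BCAbs

variable {A : Type u} [Category.{v} A] [Abelian A] [EnoughInjectives A] (𝒪 : ObjectProperty A)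

/-- One step of the simultaneous construction. -/
structure PStep (F : Arrow A) where
  I : A
  J : A
  i : F.left ⟶ I
  j : F.right ⟶ J
  mi : Mono i
  mj : Mono j
  inj : Injective I
  hJ : 𝒪 J
  ψ : I ⟶ J
  comm : i ≫ ψ = F.hom ≫ j

variable (h2 : ∀ X : A, ∃ (Y : A) (i : X ⟶ Y), 𝒪 Y ∧ Mono i)

/-- a chosen step -/
def pstep (F : Arrow A) : PStep 𝒪 F :=
  Classical.choice (by
    obtain ⟨J, k, hJ, hk⟩ := h2 (pushout (Injective.ι F.left) F.hom)
    have : Mono (pushout.inr (Injective.ι F.left) F.hom) := inferInstance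
    exact ⟨⟨Injective.under F.left, J, Injective.ι _, pushout.inr _ _ ≫ k, inferInstance,
      mono_comp _ _, inferInstance, hJ, pushout.inl _ _ ≫ k, by
        rw [← Category.assoc, pushout.condition, Category.assoc]⟩⟩)

/-- the cosyzygies -/
def psyz (F : Arrow A) : ℕ → Arrow A
  | 0 => F
  | n + 1 => Arrow.mk (cokernel.map (pstep 𝒪 h2 (psyz F n)).i (pstep 𝒪 h2 (psyz F n)).j
      (psyz F n).hom (pstep 𝒪 h2 (psyz F n)).ψ (pstep 𝒪 h2 (psyz F n)).comm)

/-- the injective resolution -/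
def S₁ (F : Arrow A) : Splice A where
  Z n := (psyz 𝒪 h2 F n).left
  J n := (pstep 𝒪 h2 (psyz 𝒪 h2 F n)).I
  i n := (pstep 𝒪 h2 (psyz 𝒪 h2 F n)).i
  p n := cokernel.π (pstep 𝒪 h2 (psyz 𝒪 h2 F n)).i
  w _ := cokernel.condition _
  exact n :=
    { exact := ShortComplex.exact_cokernel _
      mono_f := (pstep 𝒪 h2 (psyz 𝒪 h2 F n)).mi
      epi_g := inferInstanceAs (Epi (cokernel.π (pstep 𝒪 h2 (psyz 𝒪 h2 F n)).i)) }

/-- the resolution in the class -/
def S₂ (F : Arrow A) : Splice A where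
  Z n := (psyz 𝒪 h2 F n).right
  J n := (pstep 𝒪 h2 (psyz 𝒪 h2 F n)).J
  i n := (pstep 𝒪 h2 (psyz 𝒪 h2 F n)).j
  p n := cokernel.π (pstep 𝒪 h2 (psyz 𝒪 h2 F n)).j
  w _ := cokernel.condition _
  exact n :=
    { exact := ShortComplex.exact_cokernel _
      mono_f := (pstep 𝒪 h2 (psyz 𝒪 h2 F n)).mj
      epi_g := inferInstanceAs (Epi (cokernel.π (pstep 𝒪 h2 (psyz 𝒪 h2 F n)).j)) }

omit [EnoughInjectives A] in
lemma comm_aux {Z Z' I J I' J' : A} (i : Z ⟶ I) (j : Z' ⟶ J) (z : Z ⟶ Z') (ψ : I ⟶ J)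
    (comm : i ≫ ψ = z ≫ j) (i' : cokernel i ⟶ I') (j' : cokernel j ⟶ J') (ψ' : I' ⟶ J')
    (comm' : i' ≫ ψ' = cokernel.map i j z ψ comm ≫ j') :
    ψ ≫ (cokernel.π j ≫ j') = (cokernel.π i ≫ i') ≫ ψ' := by
  rw [Category.assoc, comm', cokernel.π_desc_assoc, Category.assoc]

lemma comm_d (F : Arrow A) (n : ℕ) :
    (pstep 𝒪 h2 (psyz 𝒪 h2 F n)).ψ ≫ (S₂ 𝒪 h2 F).d n =
      (S₁ 𝒪 h2 F).d n ≫ (pstep 𝒪 h2 (psyz 𝒪 h2 F (n + 1))).ψ :=
  comm_aux _ _ _ _ (pstep 𝒪 h2 (psyz 𝒪 h2 F n)).comm _ _ _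
    (pstep 𝒪 h2 (psyz 𝒪 h2 F (n + 1))).comm

/-- the comparison map -/
def cmp (F : Arrow A) : (S₁ 𝒪 h2 F).cx ⟶ (S₂ 𝒪 h2 F).cx :=
  CochainComplex.ofHom (fun n => (pstep 𝒪 h2 (psyz 𝒪 h2 F n)).ψ) (fun n => by
    have h := comm_d 𝒪 h2 F n
    rw [← Splice.cx_d, ← Splice.cx_d] at h
    exact h)

/-- the augmentation data of a splice -/
def augOf (S : Splice A) : Aug (S.Z 0) S.cx where
  a := S.i 0
  w := by
    rw [S.cx_d 0]
    exact S.i_d 0
  mono := inferInstanceAs (Mono (S.i 0))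
  exact₀ := by
    refine (ShortComplex.exact_iff_of_iso ?_).2 (S.exact_i_d 0)
    refine ShortComplex.isoMk (Iso.refl _) (Iso.refl _) (Iso.refl _) ?_ ?_
    · exact (Category.id_comp _).trans (Category.comp_id _).symm
    · refine (Category.id_comp _).trans (Eq.trans ?_ (Category.comp_id _).symm)
      exact (S.cx_d 0).symm
  exact_succ n := by
    refine (ShortComplex.exact_iff_of_iso ?_).2 (S.exact_d_d n)
    refine ShortComplex.isoMk (Iso.refl _) (Iso.refl _) (Iso.refl _) ?_ ?_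
    · refine (Category.id_comp _).trans (Eq.trans ?_ (Category.comp_id _).symm)
      exact (S.cx_d n).symm
    · refine (Category.id_comp _).trans (Eq.trans ?_ (Category.comp_id _).symm)
      exact (S.cx_d (n + 1)).symm

omit [EnoughInjectives A] in
/-- An augmented exact complex is acyclic after inserting the augmented object. -/
lemma acyclic_augment {M : A} {K : CochainComplex A ℕ} (e : Aug M K) :
    (CochainComplex.augment K e.a e.w).Acyclic := by
  intro n
  have := e.mono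
  cases n with
  | zero =>
    rw [HomologicalComplex.exactAt_iff' _ 0 0 1 (by simp) (by simp)]
    have h : Mono ((CochainComplex.augment K e.a e.w).d 0 1) := by
      rw [CochainComplex.augment_d_zero_one]
      exact e.mono
    refine (ShortComplex.exact_iff_mono _ ?_).2 h
    exact (CochainComplex.augment K e.a e.w).shape 0 0 (by simp)
  | succ n =>
    cases n with
    | zero =>
      rw [HomologicalComplex.exactAt_iff' _ 0 1 2 (by simp) (by simp)]
      exact e.exact₀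
    | succ n =>
      rw [HomologicalComplex.exactAt_iff' _ (n + 1) (n + 2) (n + 3) (by simp) (by simp)]
      exact e.exact_succ n

variable {B : Type u'} [Category.{v'} B] [Abelian B] (f : A ⥤ B) [f.Additive]

include h2 in
theorem isZero (h1 : ∀ K : CochainComplex A ℕ, (∀ i, 𝒪 (K.X i)) → K.Acyclic →
      ((f.mapHomologicalComplex (ComplexShape.up ℕ)).obj K).Acyclic)
    (X : A) (hX : 𝒪 X) (n : ℕ) : IsZero ((f.rightDerived (n + 1)).obj X) := by
  let F : Arrow A := Arrow.mk (𝟙 X)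
  let e₁ := augOf (S₁ 𝒪 h2 F)
  let e₂ := augOf (S₂ 𝒪 h2 F)
  let I : InjectiveResolution X :=
    { cocomplex := (S₁ 𝒪 h2 F).cx
      injective := fun n => (pstep 𝒪 h2 (psyz 𝒪 h2 F n)).inj
      ι := (S₁ 𝒪 h2 F).aug
      quasiIso := (S₁ 𝒪 h2 F).quasiIso_aug }
  let ψ : I.cocomplex ⟶ (S₂ 𝒪 h2 F).cx := cmp 𝒪 h2 F
  obtain ⟨φ, hφ⟩ := Aug.exists_desc e₂ I (𝟙 X)
  have hι : I.ι.f 0 = e₁.a := (S₁ 𝒪 h2 F).aug_f_zero
  have hψ : e₁.a ≫ ψ.f 0 = e₂.a :=
    (pstep 𝒪 h2 (psyz 𝒪 h2 F 0)).comm.trans (Category.id_comp _)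
  have hcomp : I.ι ≫ (ψ ≫ φ) = (CochainComplex.single₀ A).map (𝟙 X) ≫ I.ι := by
    rw [CategoryTheory.Functor.map_id, Category.id_comp]
    apply (CochainComplex.fromSingle₀Equiv I.cocomplex X).injective
    apply Subtype.ext
    change (I.ι ≫ (ψ ≫ φ)).f 0 = I.ι.f 0
    rw [HomologicalComplex.comp_f, HomologicalComplex.comp_f, hι]
    have h3 : (e₁.a ≫ ψ.f 0) ≫ φ.f 0 = e₁.a := by
      rw [hψ]
      refine hφ.trans ?_
      rw [hι]
      exact Category.id_comp _
    rw [← Category.assoc]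
    exact h3
  have H : Homotopy (ψ ≫ φ) (𝟙 I.cocomplex) :=
    InjectiveResolution.descHomotopy (𝟙 X) (ψ ≫ φ) (𝟙 _) hcomp (by
      rw [Category.comp_id, CategoryTheory.Functor.map_id, Category.id_comp])
  let Φ := f.mapHomologicalComplex (ComplexShape.up ℕ)
  have H' : Homotopy (Φ.map (ψ ≫ φ)) (Φ.map (𝟙 I.cocomplex)) := f.mapHomotopy H
  -- the class resolution has no higher cohomology after `f`
  have hz : IsZero ((Φ.obj (S₂ 𝒪 h2 F).cx).homology (n + 1)) := by
    rw [← HomologicalComplex.exactAt_iff_isZero_homology]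
    have h := h1 (CochainComplex.augment (S₂ 𝒪 h2 F).cx e₂.a e₂.w) (fun i => by
      cases i with
      | zero => exact hX
      | succ i => exact (pstep 𝒪 h2 (psyz 𝒪 h2 F i)).hJ) (acyclic_augment e₂) (n + 2)
    rw [HomologicalComplex.exactAt_iff' _ (n + 1) (n + 2) (n + 3) (by simp) (by simp)] at h
    rw [HomologicalComplex.exactAt_iff' _ n (n + 1) (n + 2) (by simp) (by simp)]
    exact h
  refine IsZero.of_iso ?_ (I.isoRightDerivedObj f (n + 1))
  rw [IsZero.iff_id_eq_zero]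
  have h4 := H'.homologyMap_eq (n + 1)
  rw [CategoryTheory.Functor.map_id, HomologicalComplex.homologyMap_id, Functor.map_comp,
    HomologicalComplex.homologyMap_comp] at h4
  change 𝟙 ((Φ.obj I.cocomplex).homology (n + 1)) = 0
  rw [← h4, hz.eq_of_tgt (HomologicalComplex.homologyMap (Φ.map ψ) (n + 1)) 0, zero_comp]

end K557.Adapted
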