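import Groth.Agent.SGA4h.K557.WeakEt
import Groth.Agent.S6670
import Groth.Agent.Sga4h.BaseCase
import Groth.Agent.Sga4h.LAcyc
import Groth.Agent.Etbc.H234.LerayRange
import Groth.Agent.Etbc.H232.SHFactor
import Groth.Agent.EtpbcB.RedVan

/-!
# Base change for geometric points

`t : Spec Ω ⟶ S` a geometric point, qcqs, `f : X ⟶ S`.
* `isZero_Rpush_geomPt`: `R^q t_* = 0` for `q > 0`;
* `isIso_bq_geomPt`: the base change map `f⁻¹ R^q t_* G ⟶ R^q ε'_* f_t⁻¹ G` is an isomorphism if
  `H^q(Ω, G) → H^q(Q', G)` is bijective for all varieties of vanishing cycles `Q' = Spec R_X ×_{Spec R_S} Ω`.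
-/

set_option autoImplicit false
universe u

open CategoryTheory CategoryTheory.Limits AlgebraicGeometry Opposite IsLocalRing

noncomputable section

namespace K557.GeomPt

open K557.BcQ K557.WeakEt Groth.Agent.Etcore.HpullCalc Groth.Agent.Etrest.StrictLoc
  Groth.Agent.Etcore.HQ Groth.Agent.EtBC.K1.ProfinPt Groth.Agent.Etcore.EtInst
open scoped Groth.Agent.Sga4B.EtAbInst Groth.Agent.Etcore.EtInst TensorProduct

section point

variable {S : Scheme.{u}} {Ω : Type u} [Field Ω] (t : Spec (CommRingCat.of Ω) ⟶ S)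

/-- A geometric point over a generization of `s` factors through the local ring. -/
theorem exists_stalk (s : S) (h : t default ⤳ s) :
    ∃ φ : S.presheaf.stalk s →+* Ω, Spec.map (CommRingCat.ofHom φ) ≫ S.fromSpecStalk s = t := by
  have h0 : t (closedPoint Ω) = t default := by
    congr 1
    exact @Subsingleton.elim (PrimeSpectrum Ω) _ _ _
  obtain ⟨φ, -, hφ⟩ := exists_stalk_hom t (t default) h0
  refine ⟨φ.comp (S.presheaf.stalkSpecializes h).hom, ?_⟩
  rw [CommRingCat.ofHom_comp, Spec.map_comp, Category.assoc, CommRingCat.ofHom_hom,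
    Scheme.SpecMap_stalkSpecializes_fromSpecStalk, hφ]

/-- Otherwise the fibre product with the local ring is empty. -/
theorem isEmpty_of_not (s : S) (h : ¬ t default ⤳ s) (R : Type u) [CommRing R]
    [Algebra (S.presheaf.stalk s) R] {P : Scheme.{u}} {a : P ⟶ Spec (CommRingCat.of Ω)}
    {b : P ⟶ Spec (CommRingCat.of R)} (w : a ≫ t = b ≫ Hens2.specOf S s R) : IsEmpty P := by
  refine ⟨fun y => h ?_⟩
  have h1 : t default = (a ≫ t) y := by
    rw [Scheme.Hom.comp_apply]
    congr 1
    exact @Subsingleton.elim (PrimeSpectrum Ω) _ _ _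
  have h2 : (b ≫ Hens2.specOf S s R) y ∈ Set.range (S.fromSpecStalk s) := by
    rw [Hens2.specOf, Scheme.Hom.comp_apply, Scheme.Hom.comp_apply]
    exact ⟨_, rfl⟩
  rw [Scheme.range_fromSpecStalk] at h2
  rw [h1, w]
  exact h2

end point

section Zero

variable {K : Type u} [Field K] [IsSepClosed K] {B : Type u} [CommRing B] [Algebra K B]

/-- Vanishing of cohomology over ind-étale algebras over a separably closed field. -/
theorem subsingleton_HQ_indEtale (h : EtPBC.IsIndEtale K B) {X : Scheme.{u}} (F : EtCoh.Ab X)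
    (z : Spec (.of B) ⟶ X) {n : ℕ} (hn : 0 < n) : Subsingleton (HQ F z n) := by
  refine ⟨fun x y => sub_eq_zero.1 (eq_zero_of_pts h _ fun p => ?_)⟩
  let e : K ≃+* p.asIdeal.ResidueField :=
    RingEquiv.ofBijective _ (Groth.Agent.EtBC.K1.ProfinPbk.bijective_algebraMap_residueField h p)
  have : IsSepClosed p.asIdeal.ResidueField := Groth.Agent.Etrest.SHPoint.isSepClosed_of_ringEquiv e.symm
  have h1 : Subsingleton (HH (Spec (.of p.asIdeal.ResidueField)) ((EtCoh.pull (ptMap p ≫ z)).obj F) n) :=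
    (Groth.Agent.Etcore.EtInst.subsingleton_H_iff _ _).1
      (Groth.Agent.Etrest.SHPoint.subsingleton_H_of_sepClosed _ _ n hn)
  exact h1.elim _ _

end Zero

section Rpush

variable {S : Scheme.{u}} {Ω : Type u} [Field Ω] [IsSepClosed Ω] (t : Spec (CommRingCat.of Ω) ⟶ S)

omit [IsSepClosed Ω] in
/-- The fibre product of a geometric point with a strict localization. -/
theorem exists_indEtale (s : S) (R : Type u) [CommRing R] [IsLocalRing R] [Algebra (S.presheaf.stalk s) R]
    [IsLocalHom (algebraMap (S.presheaf.stalk s) R)] [Hensel.IsStrictHenselization (S.presheaf.stalk s) R]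
    (h : t default ⤳ s) : ∃ (B : Type u) (_ : CommRing B) (_ : Algebra Ω B) (r : Spec (.of B) ⟶ Spec (.of R)),
      EtPBC.IsIndEtale Ω B ∧ IsPullback (Spec.map (CommRingCat.ofHom (algebraMap Ω B))) r t (Hens2.specOf S s R) := by
  obtain ⟨φ, hφ⟩ := exists_stalk t s h
  let A : Type u := S.presheaf.stalk s
  let _ : CommRing A := inferInstanceAs (CommRing (S.presheaf.stalk s))
  let _ : Algebra A Ω := φ.toAlgebra
  have hR : EtPBC.IsIndEtale (S.presheaf.stalk s) R :=
    Groth.Agent.Etbc.H193.PbkLocal.isIndEtale_of_isStrictHenselization _ R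
  let _ : Algebra A R := inferInstanceAs (Algebra (S.presheaf.stalk s) R)
  have hB : EtPBC.IsIndEtale Ω (Ω ⊗[A] R) := Groth.Agent.Proet.IndEtale.isIndEtale_baseChange A R Ω hR
  let l : Spec (.of (Ω ⊗[A] R)) ⟶ Spec (.of Ω) := Spec.map (CommRingCat.ofHom
    (Algebra.TensorProduct.includeLeftRingHom (R := A) (A := Ω) (B := R)))
  let r : Spec (.of (Ω ⊗[A] R)) ⟶ Spec (.of R) := Spec.map (CommRingCat.ofHom
    (Algebra.TensorProduct.includeRight (R := A) (A := Ω) (B := R)).toRingHom)
  have c0 : IsPullback l r (Spec.map (CommRingCat.ofHom (algebraMap A Ω)))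
      (Spec.map (CommRingCat.ofHom (algebraMap A R))) :=
    ((CommRingCat.isPushout_tensorProduct A Ω R).op.map Scheme.Spec).flip
  refine ⟨Ω ⊗[A] R, inferInstance, inferInstance, r, hB, ?_⟩
  have c1 := Groth.Agent.Sga4h.LAcyc.isPullback_comp_mono c0 (S.fromSpecStalk s)
  rw [← hφ]
  exact c1

theorem isZero_Rpush_geomPt [QuasiCompact t] [QuasiSeparated t] (F : EtCoh.Ab (Spec (CommRingCat.of Ω))) {q : ℕ}
    (hq : 0 < q) : IsZero ((EtCoh.Rpush t q).obj F) := by
  refine Groth.Agent.EtpbcB.RedVan.isZero_Rpush_of_exists_van t F q (fun s => ?_)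
  obtain ⟨R, _, _, _, _, hR, -⟩ :=
    Groth.Agent.Hensel.Exist.exists_isStrictHenselization (R := S.presheaf.stalk s)
  refine ⟨R, inferInstance, inferInstance, inferInstance, inferInstance, hR, ?_⟩
  by_cases h : t default ⤳ s
  · obtain ⟨B, _, _, r, hB, hP⟩ := exists_indEtale t s R h
    rw [Groth.Agent.EtpbcB.PBCVan.van_iff hP]
    exact (Groth.Agent.Etcore.EtInst.subsingleton_H_iff _ _).2 (subsingleton_HQ_indEtale hB F _ hq)
  · have := isEmpty_of_not t s h R (pullback.condition (f := t) (g := Hens2.specOf S s R))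
    exact (Groth.Agent.Etcore.EtInst.subsingleton_H_iff _ _).2 (Groth.Agent.EtBC.K1.HQDisj.subsingleton_HH _ q)

end Rpush

section main

variable {X S Y : Scheme.{u}} {f : X ⟶ S} {Ω : Type u} [Field Ω] [IsSepClosed Ω]
  {t : Spec (CommRingCat.of Ω) ⟶ S} [QuasiCompact t] [QuasiSeparated t] {a : Y ⟶ X}
  {e : Y ⟶ Spec (CommRingCat.of Ω)}

attribute [local instance] Groth.Agent.Etcore.HQ.pfl

/-- Base change for a geometric point, in terms of varieties of vanishing cycles. -/
theorem isIso_bq_geomPt (c : IsPullback e a t f) (G : EtCoh.Ab (Spec (CommRingCat.of Ω))) (q : ℕ)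
    (H : ∀ (x : X) (RS : Type u) [CommRing RS] [IsLocalRing RS] [Algebra (S.presheaf.stalk (f x)) RS]
      [IsLocalHom (algebraMap (S.presheaf.stalk (f x)) RS)]
      [Hensel.IsStrictHenselization (S.presheaf.stalk (f x)) RS]
      (RX : Type u) [CommRing RX] [IsLocalRing RX] [Algebra (X.presheaf.stalk x) RX]
      [IsLocalHom (algebraMap (X.presheaf.stalk x) RX)] [Hensel.IsStrictHenselization (X.presheaf.stalk x) RX]
      (ψ : RS →+* RX) [IsLocalHom ψ],
      spm ψ ≫ Hens2.specOf S (f x) RS = Hens2.specOf X x RX ≫ f →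
      ∀ (κ : RS →+* Ω), spm κ ≫ Hens2.specOf S (f x) RS = t →
        ∀ (Q : Scheme.{u}) (aQ : Q ⟶ Spec (CommRingCat.of Ω)) (bQ : Q ⟶ Spec (CommRingCat.of RX)),
          IsPullback aQ bQ (spm κ) (spm ψ) → Function.Bijective (hp aQ G q)) : IsIso (bq c.w q G) := by
  have i1 : QuasiCompact a := MorphismProperty.of_isPullback c ‹_›
  have i2 : QuasiSeparated a := MorphismProperty.of_isPullback c ‹_›
  refine isIso_bq_of_forall c.w q G (fun x => ?_)
  obtain ⟨RS, _, _, _, _, hRS, -⟩ :=
    Groth.Agent.Hensel.Exist.exists_isStrictHenselization (R := S.presheaf.stalk (f x))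
  obtain ⟨RX, _, _, _, _, hRX, -⟩ :=
    Groth.Agent.Hensel.Exist.exists_isStrictHenselization (R := X.presheaf.stalk x)
  obtain ⟨ψ, hψ, hcomp⟩ := Groth.Agent.Etbc.H232.SHFactor.exists_above (f.stalkMap x).hom RS RX
  have hsp := (Groth.Agent.Etrest.VCBaseChange.specOf_comm f x RS RX ψ).1 hcomp
  have HS := IsPullback.of_hasPullback t (Hens2.specOf S (f x) RS)
  have HY := IsPullback.of_hasPullback a (Hens2.specOf X x RX)
  have HX := HY.paste_horiz c
  have hm : (pullback.fst a (Hens2.specOf X x RX) ≫ e) ≫ t =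
      (pullback.snd a (Hens2.specOf X x RX) ≫ spm ψ) ≫ Hens2.specOf S (f x) RS := by
    rw [HX.w, Category.assoc]
    exact congrArg (fun z => pullback.snd a (Hens2.specOf X x RX) ≫ z) hsp.symm
  let m := HS.lift _ _ hm
  have hm1 : m ≫ pullback.fst t (Hens2.specOf S (f x) RS) = _ := HS.lift_fst _ _ hm
  have hm2 : m ≫ pullback.snd t (Hens2.specOf S (f x) RS) = _ := HS.lift_snd _ _ hm
  have key : Function.Bijective (hp m ((EtCoh.pull (pullback.fst t (Hens2.specOf S (f x) RS))).obj G) q) := by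
    by_cases h : t default ⤳ f x
    · obtain ⟨φ, hφ⟩ := exists_stalk t (f x) h
      let _ : Algebra (S.presheaf.stalk (f x)) Ω := φ.toAlgebra
      have hR : EtPBC.IsIndEtale (S.presheaf.stalk (f x)) RS :=
        Groth.Agent.Etbc.H193.PbkLocal.isIndEtale_of_isStrictHenselization _ RS
      have cS : IsPullback (pullback.fst t (Hens2.specOf S (f x) RS)) (pullback.snd t (Hens2.specOf S (f x) RS))
          (Spec.map (CommRingCat.ofHom (algebraMap (S.presheaf.stalk (f x)) Ω)) ≫ S.fromSpecStalk (f x))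
          (Spec.map (CommRingCat.ofHom (algebraMap (S.presheaf.stalk (f x)) RS)) ≫ S.fromSpecStalk (f x)) := by
        have h1 : Spec.map (CommRingCat.ofHom (algebraMap (S.presheaf.stalk (f x)) Ω)) ≫
          S.fromSpecStalk (f x) = t := hφ
        rw [h1]
        exact HS
      have cm : IsPullback m (pullback.snd a (Hens2.specOf X x RX)) (pullback.snd t (Hens2.specOf S (f x) RS))
          (Spec.map (CommRingCat.ofHom ψ)) := by
        refine IsPullback.of_right (h₁₂ := pullback.fst t (Hens2.specOf S (f x) RS))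
          (h₂₂ := Hens2.specOf S (f x) RS) (v₁₃ := t) ?_ hm2 HS
        rw [hm1]
        have h2 : Spec.map (CommRingCat.ofHom ψ) ≫ Hens2.specOf S (f x) RS = Hens2.specOf X x RX ≫ f := hsp
        rw [h2]
        exact HX
      have hcr := (Groth.Agent.S6670.criterion hR ψ (pullback.fst t (Hens2.specOf S (f x) RS))
        (pullback.snd t (Hens2.specOf S (f x) RS)) (S.fromSpecStalk (f x)) cS
        (pullback.snd a (Hens2.specOf X x RX)) m cm G q hm1).2 (fun κ hκ Q aQ bQ hQ _ => by
          rw [bijective_Hpull_iff]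
          refine H x RS RX ψ hsp κ ?_ Q aQ bQ hQ
          have h3 : Spec.map (CommRingCat.ofHom (κ.comp (algebraMap (S.presheaf.stalk (f x)) RS))) ≫
            S.fromSpecStalk (f x) = t := by rw [hκ]; exact hφ
          rw [CommRingCat.ofHom_comp, Spec.map_comp, Category.assoc] at h3
          exact h3)
      have hcr' := (Groth.Agent.EtBC.K1.ResIso.bijective_HpullVia_iff_res G q m
        (pullback.fst t (Hens2.specOf S (f x) RS)) _ hm1).1 hcr
      rw [funext (fun y => Groth.Agent.Etcore.LimBC1.res_eq_hpVia G m hm1 q y)] at hcr'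
      exact (bijective_hpVia_iff m (pullback.fst t (Hens2.specOf S (f x) RS)) _ hm1 G q).1 hcr'
    · have h1 := isEmpty_of_not t (f x) h RS (pullback.condition (f := t) (g := Hens2.specOf S (f x) RS))
      have h2 : IsEmpty ↥(pullback a (Hens2.specOf X x RX)) := ⟨fun y => h1.false (m y)⟩
      have h3 := Groth.Agent.EtBC.K1.HQDisj.subsingleton_HH
        ((EtCoh.pull (pullback.fst t (Hens2.specOf S (f x) RS))).obj G) q
      have h4 := Groth.Agent.EtBC.K1.HQDisj.subsingleton_HH
        ((EtCoh.pull m).obj ((EtCoh.pull (pullback.fst t (Hens2.specOf S (f x) RS))).obj G)) q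
      exact ⟨fun _ _ _ => h3.elim _ _, fun y => ⟨0, h4.elim _ _⟩⟩
  exact ⟨RS, RX, inferInstance, inferInstance, inferInstance, inferInstance, _, _, ψ, _, _, _, _, _, _, _,
    Groth.Agent.Etrest.StrictLoc.isStrictLoc_specOf S (f x) RS,
    Groth.Agent.Etrest.StrictLoc.isStrictLoc_specOf X x RX, hψ, hsp,
    Groth.Agent.Etrest.VCBaseChange.specOf_closedPoint X x RX, HS, HY, hm1, hm2, key⟩

end main

end K557.GeomPt
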