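import Groth.Agent.SGA4h.K557.BcPaste

/-!
# Abstract comparison of base change maps with maps of cohomological functors

`square_abs`: delta functors `H` on `A`, `H'` on `A'` with maps `K : H ⟶ G ∘ R^•Ψ`, `K' : H' ⟶ G' ∘ R^•Φ₂` (`G`, `G'` exact)
and `Hp : H ⟶ H' ∘ L`; if `Hp ≫ K'` is `K` followed by `η` and the base change map in degree zero, the same holds in
all degrees.
-/

set_option autoImplicit false
set_option backward.isDefEq.respectTransparency false
universe v₁ v₂ v₃ v₄ v₅ u₁ u₂ u₃ u₄ u₅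

open CategoryTheory CategoryTheory.Limits

noncomputable section

namespace K557.BcAbs

open Groth.Agent.Localalg.DeltaFun K557.DeltaCalc

attribute [local instance] comp_preservesFiniteLimits comp_preservesFiniteColimits

variable {A : Type u₁} [Category.{v₁} A] [Abelian A] [EnoughInjectives A]
  {A' : Type u₂} [Category.{v₂} A'] [Abelian A'] [HasInjectiveResolutions A']
  {B : Type u₃} [Category.{v₃} B] [Abelian B]
  {B' : Type u₄} [Category.{v₄} B'] [Abelian B'] {C : Type u₅} [Category.{v₅} C] [Abelian C]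
  {Φ : A' ⥤ A} [Φ.Additive] [Φ.PreservesInjectiveObjects] {Ψ : A ⥤ B} [Ψ.Additive]
  {Φ₂ : A' ⥤ B'} [Φ₂.Additive] {Ψ₂ : B' ⥤ B} [Ψ₂.Additive] [PreservesFiniteLimits Ψ₂]
  (e : Φ ⋙ Ψ ≅ Φ₂ ⋙ Ψ₂) {L : A ⥤ A'} {L₂ : B ⥤ B'} (adj : L ⊣ Φ) (adj₂ : L₂ ⊣ Ψ₂)
  [L.Additive] [PreservesFiniteLimits L] [PreservesFiniteColimits L]
  [L₂.Additive] [PreservesFiniteLimits L₂] [PreservesFiniteColimits L₂]
  {H : DeltaFunctor A C} (hH : H.Effaceable) {H' : DeltaFunctor A' C}
  {G : B ⥤ C} [G.Additive] [PreservesFiniteLimits G] [PreservesFiniteColimits G]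
  {G' : B' ⥤ C} [G'.Additive] [PreservesFiniteLimits G'] [PreservesFiniteColimits G']
  (K : DeltaHom H ((chainD Ψ).postcomp G)) (K' : DeltaHom H' ((chainD Φ₂).postcomp G'))
  (η : G ⟶ L₂ ⋙ G') (Hp : DeltaHom H (H'.precomp L))

/-- One side. -/
def sqLabs : DeltaHom H (((chainD Φ₂).postcomp G').precomp L) := comp Hp (preW K' L)

/-- The other side. -/
def sqRabs : DeltaHom H (((chainD Φ₂).postcomp G').precomp L) :=
  comp K (comp (ofPost (chainD Ψ) η) (postW (bcHom e adj adj₂) G'))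

include hH in
theorem square_abs (h0 : ∀ F : A, (Hp.app 0).app F ≫ (K'.app 0).app (L.obj F) =
      (K.app 0).app F ≫ η.app ((Ψ.rightDerived 0).obj F) ≫ G'.map (bc e adj adj₂ 0 F)) (q : ℕ) (F : A) :
    (Hp.app q).app F ≫ (K'.app q).app (L.obj F) =
      (K.app q).app F ≫ η.app ((Ψ.rightDerived q).obj F) ≫ G'.map (bc e adj adj₂ q F) :=
  ext_app hH (sqLabs K' Hp) (sqRabs e adj adj₂ K η) h0 q F

include hH in
/-- The same with the comparison in degree zero written with the functors themselves. -/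
theorem square_abs' (k : ∀ F : A, (H.T 0).obj F ⟶ G.obj (Ψ.obj F))
    (hk : ∀ F, (K.app 0).app F = k F ≫ G.map (Ψ.toRightDerivedZero.app F))
    (k' : ∀ F : A', (H'.T 0).obj F ⟶ G'.obj (Φ₂.obj F))
    (hk' : ∀ F, (K'.app 0).app F = k' F ≫ G'.map (Φ₂.toRightDerivedZero.app F))
    (h0 : ∀ F : A, (Hp.app 0).app F ≫ k' (L.obj F) =
      k F ≫ η.app (Ψ.obj F) ≫ G'.map (bcz e adj adj₂ F)) (q : ℕ) (F : A) :
    (Hp.app q).app F ≫ (K'.app q).app (L.obj F) =
      (K.app q).app F ≫ η.app ((Ψ.rightDerived q).obj F) ≫ G'.map (bc e adj adj₂ q F) := by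
  refine square_abs e adj adj₂ hH K K' η Hp (fun F => ?_) q F
  rw [hk, hk']
  have h1 := h0 F
  have h2 : G.map (Ψ.toRightDerivedZero.app F) ≫ η.app ((Ψ.rightDerived 0).obj F) =
      η.app (Ψ.obj F) ≫ G'.map (L₂.map (Ψ.toRightDerivedZero.app F)) := η.naturality _
  have h3 := toRDZ_bc e adj adj₂ F
  have h4 : G'.map (L₂.map (Ψ.toRightDerivedZero.app F)) ≫ G'.map (bc e adj adj₂ 0 F) =
      G'.map (bcz e adj adj₂ F) ≫ G'.map (Φ₂.toRightDerivedZero.app (L.obj F)) := by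
    rw [← G'.map_comp, ← G'.map_comp, h3]
  calc (Hp.app 0).app F ≫ k' (L.obj F) ≫ G'.map (Φ₂.toRightDerivedZero.app (L.obj F))
      = ((Hp.app 0).app F ≫ k' (L.obj F)) ≫ G'.map (Φ₂.toRightDerivedZero.app (L.obj F)) :=
        (Category.assoc _ _ _).symm
    _ = (k F ≫ η.app (Ψ.obj F) ≫ G'.map (bcz e adj adj₂ F)) ≫
        G'.map (Φ₂.toRightDerivedZero.app (L.obj F)) := congrArg (· ≫ _) h1
    _ = k F ≫ η.app (Ψ.obj F) ≫ (G'.map (bcz e adj adj₂ F) ≫
        G'.map (Φ₂.toRightDerivedZero.app (L.obj F))) := by simp only [Category.assoc]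
    _ = k F ≫ η.app (Ψ.obj F) ≫ (G'.map (L₂.map (Ψ.toRightDerivedZero.app F)) ≫
        G'.map (bc e adj adj₂ 0 F)) := by rw [h4]
    _ = k F ≫ (η.app (Ψ.obj F) ≫ G'.map (L₂.map (Ψ.toRightDerivedZero.app F))) ≫
        G'.map (bc e adj adj₂ 0 F) := by simp only [Category.assoc]
    _ = k F ≫ (G.map (Ψ.toRightDerivedZero.app F) ≫ η.app ((Ψ.rightDerived 0).obj F)) ≫
        G'.map (bc e adj adj₂ 0 F) := by rw [h2]
    _ = _ := by simp only [Category.assoc]

section Kap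

variable (Ψ G)

include hH in
/-- The comparison `H ≅ G ∘ R^•Ψ` extending an isomorphism in degree zero. -/
theorem exists_kap_abs [PreservesFiniteLimits Ψ] (k : H.T 0 ≅ Ψ ⋙ G) :
    ∃ K : DeltaHom H ((chainD Ψ).postcomp G), (∀ q, IsIso (K.app q)) ∧
      ∀ F, (K.app 0).app F = k.hom.app F ≫ G.map (Ψ.toRightDerivedZero.app F) := by
  obtain ⟨E, h0, h1⟩ := exists_iso (T := H) (T' := (chainD Ψ).postcomp G) hH
    (fun J _ n => G.map_isZero (chainD_eff Ψ J n))
    (k ≪≫ Functor.isoWhiskerRight Ψ.rightDerivedZeroIsoSelf.symm G)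
  refine ⟨{ app := fun q => (E q).hom, comm := fun hS n => h1 hS n }, fun q => inferInstance, fun F => ?_⟩
  change (E 0).hom.app F = _
  rw [h0]
  rfl

end Kap

end K557.BcAbs
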