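import Groth.Agent.SGA4h.K557.BcQPaste
import Groth.Agent.SGA4h.K557.GammaAbs
import Groth.Agent.Etcore.HpullEq
import Groth.Agent.EtpbcA.LAUnit

/-!
# Pullback maps on cohomology and base change maps

For `p : P ⟶ T` with `Γ(T, -)` exact (e.g. `T` strictly local):
* `kap p q : H^q(P, G) ≅ Γ(T, R^q p_* G)`, natural in `G` and compatible with connecting maps;
* `hp_kap`: for a square `m ≫ p = p' ≫ ψ`, `Γ(T', -)` exact, `H^q(P, G) → H^q(P', m⁻¹ G)` corresponds to
  `Γ(T, R^q p_* G) → Γ(T', ψ⁻¹ R^q p_* G) → Γ(T', R^q p'_* m⁻¹ G)` (unit of `ψ`, then `bq`);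
* `bijAt_bq_iff`: if the unit of `ψ` is bijective on global sections, `bq` is bijective on global sections iff
  `hp m G q` is bijective.
-/

set_option autoImplicit false
universe u

open CategoryTheory CategoryTheory.Limits AlgebraicGeometry Opposite

noncomputable section

namespace K557.HpBc

open K557.BcAbs K557.BcQ K557.DeltaCalc Groth.Agent.Localalg.DeltaFun Groth.Agent.Sga4B Groth.Agent.EtpbcB.BCCalc
  Groth.Agent.EtpbcB.BCIso Groth.Agent.Etcore.HpullCalc
open scoped Groth.Agent.Sga4B.EtAbInst Groth.Agent.Etcore.EtInst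

section Zero

variable {P T P' T' : Scheme.{u}} {p : P ⟶ T} {ψ : T' ⟶ T} {p' : P' ⟶ T'} {m : P' ⟶ P}

theorem pushGsecIso_congr {f f' : P' ⟶ T} (h : f = f') (M : EtCoh.Ab P') :
    (EtCore.gsec T).map ((EtCoh.pushCongr h).hom.app M) ≫ (EtCore.pushGsecIso f').hom.app M =
      (EtCore.pushGsecIso f).hom.app M := by
  have hT : IsTerminal ((EtCoh.bc f).obj (EtCoh.top T)) := EtCore.bcTopIsTerminal f
  have h : ∃ a b : EtCoh.top P' ⟶ (EtCoh.bc f).obj (EtCoh.top T),
     (EtCore.gsec T).map ((EtCoh.pushCongr h).hom.app M) ≫ (EtCore.pushGsecIso f').hom.app M = M.obj.map a.op ∧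
     (EtCore.pushGsecIso f).hom.app M = M.obj.map b.op :=
    ⟨_, _, (M.obj.map_comp _ _).symm, rfl⟩
  obtain ⟨a, b, ha, hb⟩ := h
  rw [ha, hb, hT.hom_ext a b]

theorem sq_gsec (w : m ≫ p = p' ≫ ψ) (M : EtCoh.Ab P') :
    (EtCore.gsec T).map ((sqIso w).hom.app M) ≫ (EtCore.pushGsecIso ψ).hom.app ((EtCoh.push p').obj M) ≫
      (EtCore.pushGsecIso p').hom.app M =
    (EtCore.pushGsecIso p).hom.app ((EtCoh.push m).obj M) ≫ (EtCore.pushGsecIso m).hom.app M := by
  have h1 := pushGsecIso_comp m p M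
  have h2 := pushGsecIso_comp p' ψ M
  have h3 := pushGsecIso_congr w M
  have h4 : (EtCore.gsec T).map ((EtCoh.pushComp ψ p').inv.app M) ≫
      (EtCore.gsec T).map ((EtCoh.pushComp ψ p').hom.app M) = 𝟙 _ := by
    rw [← Functor.map_comp, Iso.inv_hom_id_app, CategoryTheory.Functor.map_id]
  rw [← h1, ← h2]
  simp only [Iso.trans_hom, Iso.symm_hom, NatTrans.comp_app, Functor.map_comp, Category.assoc]
  rw [reassoc_of% h4, h3]

/-- The degree zero base change map and unit sections. -/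
theorem unitSec_baseChange0 (w : m ≫ p = p' ≫ ψ) (G : EtCoh.Ab P) :
    (EtCore.pushGsecIso p).inv.app G ≫ unitSec ψ ((EtCoh.push p).obj G) ≫
      (EtCore.gsec T').map (EtCoh.baseChange0 p ψ p' m w G) =
    unitSec m G ≫ (EtCore.pushGsecIso p').inv.app ((EtCoh.pull m).obj G) := by
  have h1 := sq_gsec w ((EtCoh.pull m).obj G)
  have h2 := unit_baseChange0 w G
  rw [unitSec, unitSec]
  have h3 : (EtCore.pushGsecIso ψ).hom.app ((EtCoh.pull ψ).obj ((EtCoh.push p).obj G)) ≫
      (EtCore.gsec T').map (EtCoh.baseChange0 p ψ p' m w G) =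
      (EtCore.gsec T).map ((EtCoh.push ψ).map (EtCoh.baseChange0 p ψ p' m w G)) ≫
        (EtCore.pushGsecIso ψ).hom.app ((EtCoh.push p').obj ((EtCoh.pull m).obj G)) :=
    ((EtCore.pushGsecIso ψ).hom.naturality (EtCoh.baseChange0 p ψ p' m w G)).symm
  have h4 : (EtCore.pushGsecIso p).inv.app G ≫ (EtCore.gsec T).map
      ((EtCoh.push p).map ((EtCoh.pullPushAdj m).unit.app G)) =
      (EtCore.gsec P).map ((EtCoh.pullPushAdj m).unit.app G) ≫ (EtCore.pushGsecIso p).inv.app _ :=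
    ((EtCore.pushGsecIso p).inv.naturality ((EtCoh.pullPushAdj m).unit.app G)).symm
  have h5 : (EtCore.pushGsecIso p).inv.app ((EtCoh.push m).obj ((EtCoh.pull m).obj G)) ≫
      (EtCore.gsec T).map ((sqIso w).hom.app ((EtCoh.pull m).obj G)) ≫
        (EtCore.pushGsecIso ψ).hom.app ((EtCoh.push p').obj ((EtCoh.pull m).obj G)) =
      (EtCore.pushGsecIso m).hom.app ((EtCoh.pull m).obj G) ≫
        (EtCore.pushGsecIso p').inv.app ((EtCoh.pull m).obj G) := by
    rw [← cancel_mono ((EtCore.pushGsecIso p').hom.app ((EtCoh.pull m).obj G))]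
    simp only [Category.assoc]
    rw [h1, Iso.inv_hom_id_app_assoc, Iso.inv_hom_id_app, Category.comp_id]
  simp only [Category.assoc]
  rw [h3, ← Functor.map_comp_assoc, h2, Functor.map_comp_assoc, reassoc_of% h4]
  have h6 : (sq w).hom.app ((EtCoh.pull m).obj G) = (sqIso w).hom.app ((EtCoh.pull m).obj G) := rfl
  rw [h6, h5]

end Zero

section Delta

/-- `q ↦ H^q(X, -)` as a delta functor. -/
def hD (X : Scheme.{u}) : DeltaFunctor (EtCoh.Ab X) AddCommGrpCat.{u + 1} := DeltaH.ofExt (EtCoh.const X ℤ)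

theorem hD_eff (X : Scheme.{u}) : (hD X).Effaceable := DeltaH.ofExt_effaceable _

open Groth.Agent.Etcore.EtInst

/-- Pullback on cohomology as a morphism of delta functors. -/
def hpD {P' P : Scheme.{u}} (m : P' ⟶ P) : DeltaHom (hD P) ((hD P').precomp (EtCoh.pull m)) where
  app n :=
    { app := fun G => AddCommGrpCat.ofHom (hp m G n)
      naturality := fun G G' φ => by
        ext x
        exact hp_map m φ n x }
  comm {S} hS n := by
    ext x
    exact (hp_extClass m hS rfl x).symm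

/-- `H^0(X, -)` is the functor of global sections. -/
def zeroH (X : Scheme.{u}) : (hD X).T 0 ≅ EtCore.gsec X :=
  NatIso.ofComponents (fun F => AddEquiv.toAddCommGrpIso (H0 X F)) (fun {F G} φ => by
    ext x
    exact H0_map φ x)

variable {P T : Scheme.{u}} (p : P ⟶ T)

/-- The comparison in degree zero. -/
def kap0 : (hD P).T 0 ≅ EtCoh.push p ⋙ EtCore.gsec T := zeroH P ≪≫ (EtCore.pushGsecIso p).symm

variable [PreservesFiniteLimits (EtCore.gsec T)] [PreservesFiniteColimits (EtCore.gsec T)]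
  [(EtCore.gsec T).Additive]

/-- `q ↦ Γ(T, R^q p_* -)`. -/
def gD : DeltaFunctor (EtCoh.Ab P) AddCommGrpCat.{u + 1} := (chainD (EtCoh.push p)).postcomp (EtCore.gsec T)

theorem gD_eff : (gD p).Effaceable := fun J _ n => (EtCore.gsec T).map_isZero (chainD_eff (EtCoh.push p) J n)

theorem exists_kap : ∃ K : DeltaHom (hD P) (gD p), (∀ q, IsIso (K.app q)) ∧
    ∀ F, (K.app 0).app F = (kap0 p).hom.app F ≫ (EtCore.gsec T).map ((EtCoh.push p).toRightDerivedZero.app F) :=
  exists_kap_abs (EtCoh.push p) (hD_eff P) (EtCore.gsec T) (kap0 p)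

/-- `H^q(P, G) ≅ Γ(T, R^q p_* G)` as a morphism of delta functors. -/
def kapD : DeltaHom (hD P) (gD p) := (exists_kap p).choose

/-- `H^q(P, G) → Γ(T, R^q p_* G)`. -/
def kap (q : ℕ) (G : EtCoh.Ab P) :
    AddCommGrpCat.of (HH P G q) ⟶ (EtCore.gsec T).obj ((EtCoh.Rpush p q).obj G) := ((kapD p).app q).app G

instance kap_isIso (q : ℕ) (G : EtCoh.Ab P) : IsIso (kap p q G) := by
  have := (exists_kap p).choose_spec.1 q
  exact inferInstanceAs (IsIso (((exists_kap p).choose.app q).app G))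

theorem kapD_zero (F : EtCoh.Ab P) : ((kapD p).app 0).app F =
    (kap0 p).hom.app F ≫ (EtCore.gsec T).map ((EtCoh.push p).toRightDerivedZero.app F) :=
  (exists_kap p).choose_spec.2 F

end Delta

section Square

variable {P T P' T' : Scheme.{u}} {p : P ⟶ T} {ψ : T' ⟶ T} {p' : P' ⟶ T'} {m : P' ⟶ P}

attribute [local instance] comp_preservesFiniteLimits comp_preservesFiniteColimits

/-- The unit on global sections as a natural transformation. -/
def unitG (ψ : T' ⟶ T) : EtCore.gsec T ⟶ EtCoh.pull ψ ⋙ EtCore.gsec T' where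
  app G := unitSec ψ G
  naturality G G' φ := by
    have h1 := (EtCoh.pullPushAdj ψ).unit.naturality φ
    have h2 : (EtCore.pushGsecIso ψ).hom.app ((EtCoh.pull ψ).obj G) ≫
        (EtCore.gsec T').map ((EtCoh.pull ψ).map φ) =
        (EtCore.gsec T).map ((EtCoh.push ψ).map ((EtCoh.pull ψ).map φ)) ≫
          (EtCore.pushGsecIso ψ).hom.app ((EtCoh.pull ψ).obj G') :=
      ((EtCore.pushGsecIso ψ).hom.naturality ((EtCoh.pull ψ).map φ)).symm
    change (EtCore.gsec T).map φ ≫ (EtCore.gsec T).map ((EtCoh.pullPushAdj ψ).unit.app G') ≫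
        (EtCore.pushGsecIso ψ).hom.app ((EtCoh.pull ψ).obj G') =
      ((EtCore.gsec T).map ((EtCoh.pullPushAdj ψ).unit.app G) ≫
        (EtCore.pushGsecIso ψ).hom.app ((EtCoh.pull ψ).obj G)) ≫ (EtCore.gsec T').map ((EtCoh.pull ψ).map φ)
    rw [Category.assoc, h2, ← Functor.map_comp_assoc, ← Functor.map_comp_assoc]
    exact congrArg (fun z => (EtCore.gsec T).map z ≫ (EtCore.pushGsecIso ψ).hom.app ((EtCoh.pull ψ).obj G')) h1

open Groth.Agent.Etcore.EtInst

theorem sq_zero (w : m ≫ p = p' ≫ ψ) (G : EtCoh.Ab P) :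
    ((hpD m).app 0).app G ≫ (kap0 p').hom.app ((EtCoh.pull m).obj G) =
      (kap0 p).hom.app G ≫ (unitG ψ).app ((EtCoh.push p).obj G) ≫
        (EtCore.gsec T').map (bcz (sqIso w) (EtCoh.pullPushAdj m) (EtCoh.pullPushAdj ψ) G) := by
  have h1 := unitSec_baseChange0 w G
  have h2 : ((hpD m).app 0).app G ≫ (zeroH P').hom.app ((EtCoh.pull m).obj G) =
      (zeroH P).hom.app G ≫ unitSec m G := by
    ext x
    exact hp_zero m G x
  change ((hpD m).app 0).app G ≫ (zeroH P').hom.app ((EtCoh.pull m).obj G) ≫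
      (EtCore.pushGsecIso p').inv.app ((EtCoh.pull m).obj G) =
    ((zeroH P).hom.app G ≫ (EtCore.pushGsecIso p).inv.app G) ≫ unitSec ψ ((EtCoh.push p).obj G) ≫
      (EtCore.gsec T').map (EtCoh.baseChange0 p ψ p' m w G)
  rw [reassoc_of% h2, ← h1, Category.assoc]

variable [PreservesFiniteLimits (EtCore.gsec T)] [PreservesFiniteColimits (EtCore.gsec T)]
  [(EtCore.gsec T).Additive]
  [PreservesFiniteLimits (EtCore.gsec T')] [PreservesFiniteColimits (EtCore.gsec T')]
  [(EtCore.gsec T').Additive]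

/-- **Pullback on cohomology and the base change map.** -/
theorem hp_kap (w : m ≫ p = p' ≫ ψ) (q : ℕ) (G : EtCoh.Ab P) :
    AddCommGrpCat.ofHom (hp m G q) ≫ kap p' q ((EtCoh.pull m).obj G) =
      kap p q G ≫ unitSec ψ ((EtCoh.Rpush p q).obj G) ≫ (EtCore.gsec T').map (bq w q G) :=
  square_abs' (sqIso w) (EtCoh.pullPushAdj m) (EtCoh.pullPushAdj ψ) (hD_eff P) (kapD p) (kapD p')
    (unitG ψ) (hpD m) (fun F => (kap0 p).hom.app F) (kapD_zero p) (fun F => (kap0 p').hom.app F)
    (kapD_zero p') (sq_zero w) q G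

end Square

end K557.HpBc
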