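import Groth.Agent.SGA4h.K557.BcComp
import Groth.Agent.Localalg.DeltaFun

/-!
# The abstract base change map as a morphism of delta functors

* `chainD F`: the delta functor `n ↦ R^nF` with the chain level connecting maps (`RDer.SESRes.delta`).
* `bc e adj adj₂ q F : L₂ (R^qΨ F) ⟶ R^qΦ₂ (L F)`: the transpose of `adjMap e (unit F) q`; `bc_naturality`, `bc_δ`,
  `toRightDerivedZero_bc`; `bcHom`: the morphism of delta functors.
-/

set_option autoImplicit false
set_option backward.isDefEq.respectTransparency false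
universe v₁ v₂ v₃ v₄ v₅ v₆ u₁ u₂ u₃ u₄ u₅ u₆

open CategoryTheory CategoryTheory.Limits HomologicalComplex

noncomputable section

namespace K557.BcAbs

open RDer K557.RDerRes K557.RDerDelta Groth.Agent.Localalg.DeltaFun

section Chain

variable {A : Type u₁} [Category.{v₁} A] [Abelian A] [HasInjectiveResolutions A]
  {B : Type u₂} [Category.{v₂} B] [Abelian B] (F : A ⥤ B) [F.Additive]

/-- The right derived functors with the chain level connecting maps, as a delta functor. -/
def chainD : DeltaFunctor A B where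
  T n := F.rightDerived n
  additive _ := inferInstance
  δ {S} hS n := (K887.LES.derivedLES F).δ S hS n (n + 1) rfl
  naturality hS hS' φ n := (K887.LES.derivedLES F).δ_natural hS hS' φ n (n + 1) rfl
  zero₃ {S} hS n := (K887.LES.derivedLES F).comp_δ S hS n (n + 1) rfl
  zero₁ {S} hS n := (K887.LES.derivedLES F).δ_comp S hS n (n + 1) rfl
  exact₂ {S} hS n := (K887.LES.derivedLES F).exact₂ S hS n
  exact₃ {S} hS n := (K887.LES.derivedLES F).exact₃ S hS n (n + 1) rfl
  exact₁ {S} hS n := (K887.LES.derivedLES F).exact₁ S hS n (n + 1) rfl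

lemma chainD_T (n : ℕ) : (chainD F).T n = F.rightDerived n := rfl

lemma chainD_δ {S : ShortComplex A} (hS : S.ShortExact) (T : RDer.SESRes S) (n : ℕ) :
    (chainD F).δ hS n = T.delta F n (n + 1) rfl :=
  (K887.LES.derivedLES F).δ_eq S hS T n (n + 1) rfl

theorem chainD_eff : (chainD F).Effaceable :=
  fun J _ n => F.isZero_rightDerived_obj_injective_succ n J

end Chain

variable {A : Type u₁} [Category.{v₁} A] [Abelian A] [HasInjectiveResolutions A]
  {A' : Type u₂} [Category.{v₂} A'] [Abelian A'] [HasInjectiveResolutions A']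
  {B : Type u₃} [Category.{v₃} B] [Abelian B]
  {B' : Type u₄} [Category.{v₄} B'] [Abelian B']
  {Φ : A' ⥤ A} [Φ.Additive] [Φ.PreservesInjectiveObjects] {Ψ : A ⥤ B} [Ψ.Additive]
  {Φ₂ : A' ⥤ B'} [Φ₂.Additive] {Ψ₂ : B' ⥤ B} [Ψ₂.Additive] [PreservesFiniteLimits Ψ₂]
  (e : Φ ⋙ Ψ ≅ Φ₂ ⋙ Ψ₂)
  {L : A ⥤ A'} {L₂ : B ⥤ B'} (adj : L ⊣ Φ) (adj₂ : L₂ ⊣ Ψ₂)

/-- The abstract base change map in degree `q`. -/
def bc (q : ℕ) (F : A) : L₂.obj ((Ψ.rightDerived q).obj F) ⟶ (Φ₂.rightDerived q).obj (L.obj F) :=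
  (adj₂.homEquiv _ _).symm (adjMap e (adj.unit.app F) q)

lemma homEquiv_bc (q : ℕ) (F : A) :
    (adj₂.homEquiv _ _) (bc e adj adj₂ q F) = adjMap e (adj.unit.app F) q :=
  (adj₂.homEquiv _ _).apply_symm_apply _

@[reassoc]
theorem bc_naturality (q : ℕ) {F G : A} (φ : F ⟶ G) :
    L₂.map ((Ψ.rightDerived q).map φ) ≫ bc e adj adj₂ q G =
      bc e adj adj₂ q F ≫ (Φ₂.rightDerived q).map (L.map φ) := by
  apply (adj₂.homEquiv _ _).injective
  rw [Adjunction.homEquiv_naturality_left, homEquiv_bc, Adjunction.homEquiv_naturality_right, homEquiv_bc]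
  exact adjMap_naturality e (adj.unit.app F) (adj.unit.app G) φ (L.map φ) (adj.unit.naturality φ).symm q

/-- Degree zero. -/
@[reassoc]
theorem toRightDerivedZero_bc (F : A) :
    L₂.map (Ψ.toRightDerivedZero.app F) ≫ bc e adj adj₂ 0 F =
      (adj₂.homEquiv (Ψ.obj F) (Φ₂.obj (L.obj F))).symm (Ψ.map (adj.unit.app F) ≫ e.hom.app (L.obj F)) ≫
        Φ₂.toRightDerivedZero.app (L.obj F) := by
  apply (adj₂.homEquiv _ _).injective
  rw [Adjunction.homEquiv_naturality_left, homEquiv_bc, toRightDerivedZero_adjMap,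
    Adjunction.homEquiv_naturality_right]
  refine Eq.trans ?_ (congrArg (· ≫ Ψ₂.map (Φ₂.toRightDerivedZero.app (L.obj F)))
    ((adj₂.homEquiv (Ψ.obj F) (Φ₂.obj (L.obj F))).apply_symm_apply
      (Ψ.map (adj.unit.app F) ≫ e.hom.app (L.obj F))).symm)
  exact (Category.assoc _ _ _).symm

/-- `bc` for an arbitrary map `θ : F ⟶ Φ M`, in terms of the transposed map `L F ⟶ M`. -/
theorem adjMap_eq_bc {F : A} {M : A'} (θ : F ⟶ Φ.obj M) (q : ℕ) :
    adjMap e θ q = (adj₂.homEquiv _ _) (bc e adj adj₂ q F ≫ (Φ₂.rightDerived q).map ((adj.homEquiv _ _).symm θ)) := by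
  rw [Adjunction.homEquiv_naturality_right, homEquiv_bc]
  have h : θ = adj.unit.app F ≫ Φ.map ((adj.homEquiv _ _).symm θ) := by
    exact ((adj.homEquiv_unit F M _).symm.trans ((adj.homEquiv F M).apply_symm_apply θ)).symm
  conv_lhs => rw [h]
  exact adjMap_map e (adj.unit.app F) _ q

variable [L.Additive] [PreservesFiniteLimits L] [PreservesFiniteColimits L]

omit [HasInjectiveResolutions A] [HasInjectiveResolutions A'] [Φ.PreservesInjectiveObjects]
  [PreservesFiniteLimits L] [PreservesFiniteColimits L] in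
/-- The unit as a morphism of short complexes. -/
theorem exists_unit (S : ShortComplex A) : ∃ θ : S ⟶ (S.map L).map Φ,
    θ.τ₁ = adj.unit.app S.X₁ ∧ θ.τ₃ = adj.unit.app S.X₃ :=
  ⟨{ τ₁ := adj.unit.app S.X₁
     τ₂ := adj.unit.app S.X₂
     τ₃ := adj.unit.app S.X₃
     comm₁₂ := (adj.unit.naturality S.f).symm
     comm₂₃ := (adj.unit.naturality S.g).symm }, rfl, rfl⟩

theorem bc_δ {S : ShortComplex A} (hS : S.ShortExact) (n : ℕ) :
    L₂.map ((chainD Ψ).δ hS n) ≫ bc e adj adj₂ (n + 1) S.X₁ =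
      bc e adj adj₂ n S.X₃ ≫ (chainD Φ₂).δ (hS.map_of_exact L) n := by
  apply (adj₂.homEquiv _ _).injective
  rw [Adjunction.homEquiv_naturality_left, Adjunction.homEquiv_naturality_right]
  obtain ⟨θ, h₁, h₃⟩ := exists_unit adj S
  have key := adjMap_δ e (K887.LES.res hS) (K887.LES.res (hS.map_of_exact L)) θ n (n + 1) rfl
  rw [h₁, h₃] at key
  have e₁ := homEquiv_bc e adj adj₂ (n + 1) S.X₁
  have e₃ := homEquiv_bc e adj adj₂ n S.X₃
  exact (congrArg ((K887.LES.res hS).delta Ψ n (n + 1) rfl ≫ ·) e₁).trans (key.trans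
    (congrArg (· ≫ Ψ₂.map ((K887.LES.res (hS.map_of_exact L)).delta Φ₂ n (n + 1) rfl)) e₃).symm)

variable [L₂.Additive] [PreservesFiniteLimits L₂] [PreservesFiniteColimits L₂]

/-- The base change map as a morphism of delta functors. -/
def bcHom : DeltaHom ((chainD Ψ).postcomp L₂) ((chainD Φ₂).precomp L) where
  app q :=
    { app := fun F => bc e adj adj₂ q F
      naturality := fun _ _ φ => bc_naturality e adj adj₂ q φ }
  comm hS n := (bc_δ e adj adj₂ hS n).symm

lemma bcHom_app (q : ℕ) (F : A) : ((bcHom e adj adj₂).app q).app F = bc e adj adj₂ q F := rfl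

end K557.BcAbs
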