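import Groth.Agent.SGA4h.K557.BcAbs

/-!
# Composition of the abstract base change maps of `K557.BcAbs`

`adjMap_comp`: the map for a composite of base changes; `adjMap_congr`: change of `Φ` and `Ψ₂`.
-/

set_option autoImplicit false
set_option backward.isDefEq.respectTransparency false
universe v₁ v₂ v₃ v₄ v₅ v₆ u₁ u₂ u₃ u₄ u₅ u₆

open CategoryTheory CategoryTheory.Limits HomologicalComplex

noncomputable section

namespace K557.BcAbs

open RDer K557.RDerRes K557.RDerDelta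

attribute [local instance] comp_preservesFiniteLimits

section

variable {B : Type u₂} [Category.{v₂} B] [Abelian B] {C : Type u₃} [Category.{v₃} C] [Abelian C]
  {D : Type u₄} [Category.{v₄} D] [Abelian D] {ι' : Type*} {c : ComplexShape ι'}

lemma cyclesComparison_nat (Ψ Ψ' : B ⥤ C) [Ψ.Additive] [Ψ'.Additive] [PreservesFiniteLimits Ψ]
    [PreservesFiniteLimits Ψ'] (α : Ψ ⟶ Ψ') (K : HomologicalComplex B c) (i : ι') :
    cyclesMap ((NatTrans.mapHomologicalComplex α c).app K) i ≫ cyclesComparison Ψ' K i =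
      cyclesComparison Ψ K i ≫ α.app (K.cycles i) := by
  rw [← cancel_mono (Ψ'.map (K.iCycles i)), Category.assoc, cyclesComparison_i, cyclesMap_i, Category.assoc,
    ← α.naturality, cyclesComparison_i_assoc]
  rfl

@[reassoc]
lemma homologyComparison_nat (Ψ Ψ' : B ⥤ C) [Ψ.Additive] [Ψ'.Additive] [PreservesFiniteLimits Ψ]
    [PreservesFiniteLimits Ψ'] (α : Ψ ⟶ Ψ') (K : HomologicalComplex B c) (i : ι') :
    homologyMap ((NatTrans.mapHomologicalComplex α c).app K) i ≫ homologyComparison Ψ' K i =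
      homologyComparison Ψ K i ≫ α.app (K.homology i) := by
  have h := cyclesComparison_nat Ψ Ψ' α K i
  rw [← cancel_epi (((Ψ.mapHomologicalComplex c).obj K).homologyπ i), homologyπ_naturality_assoc,
    homologyπ_homologyComparison, homologyπ_homologyComparison_assoc, reassoc_of% h, α.naturality]

lemma cyclesComparison_comp (Ψ₃ : B ⥤ C) (Ψ₂ : C ⥤ D) [Ψ₃.Additive] [Ψ₂.Additive] [PreservesFiniteLimits Ψ₃]
    [PreservesFiniteLimits Ψ₂] (K : HomologicalComplex B c) (i : ι') :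
    cyclesComparison (Ψ₃ ⋙ Ψ₂) K i =
      cyclesComparison Ψ₂ ((Ψ₃.mapHomologicalComplex c).obj K) i ≫ Ψ₂.map (cyclesComparison Ψ₃ K i) := by
  have h1 := cyclesComparison_i (Ψ₃ ⋙ Ψ₂) K i
  have h2 := cyclesComparison_i Ψ₂ ((Ψ₃.mapHomologicalComplex c).obj K) i
  rw [← cancel_mono ((Ψ₃ ⋙ Ψ₂).map (K.iCycles i)), h1]
  change _ = (_ ≫ _) ≫ Ψ₂.map (Ψ₃.map (K.iCycles i))
  rw [Category.assoc, ← Ψ₂.map_comp, cyclesComparison_i, h2]
  rfl

lemma homologyComparison_comp (Ψ₃ : B ⥤ C) (Ψ₂ : C ⥤ D) [Ψ₃.Additive] [Ψ₂.Additive] [PreservesFiniteLimits Ψ₃]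
    [PreservesFiniteLimits Ψ₂] (K : HomologicalComplex B c) (i : ι') :
    homologyComparison (Ψ₃ ⋙ Ψ₂) K i =
      homologyComparison Ψ₂ ((Ψ₃.mapHomologicalComplex c).obj K) i ≫ Ψ₂.map (homologyComparison Ψ₃ K i) := by
  have h1 := homologyπ_homologyComparison (Ψ₃ ⋙ Ψ₂) K i
  have h2 := homologyπ_homologyComparison Ψ₂ ((Ψ₃.mapHomologicalComplex c).obj K) i
  have h3 := homologyπ_homologyComparison Ψ₃ K i
  rw [← cancel_epi ((((Ψ₃ ⋙ Ψ₂).mapHomologicalComplex c).obj K).homologyπ i), h1, cyclesComparison_comp]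
  refine Eq.trans ?_ ((congrArg (· ≫ Ψ₂.map (homologyComparison Ψ₃ K i)) h2).symm.trans (Category.assoc _ _ _))
  rw [Category.assoc, Category.assoc]
  congr 1
  change Ψ₂.map _ ≫ Ψ₂.map (Ψ₃.map _) = _
  rw [← Ψ₂.map_comp, ← Ψ₂.map_comp, h3]

end

variable {A : Type u₁} [Category.{v₁} A] [Abelian A] [HasInjectiveResolutions A]
  {A' : Type u₂} [Category.{v₂} A'] [Abelian A'] [HasInjectiveResolutions A']
  {A'' : Type u₅} [Category.{v₅} A''] [Abelian A''] [HasInjectiveResolutions A'']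
  {B : Type u₃} [Category.{v₃} B] [Abelian B]
  {B' : Type u₄} [Category.{v₄} B'] [Abelian B']
  {B'' : Type u₆} [Category.{v₆} B''] [Abelian B'']
  {Φ : A' ⥤ A} [Φ.Additive] [Φ.PreservesInjectiveObjects] {Ψ : A ⥤ B} [Ψ.Additive]
  {Φ₂ : A' ⥤ B'} [Φ₂.Additive] {Ψ₂ : B' ⥤ B} [Ψ₂.Additive] [PreservesFiniteLimits Ψ₂]
  (e : Φ ⋙ Ψ ≅ Φ₂ ⋙ Ψ₂)
  {Φ' : A'' ⥤ A'} [Φ'.Additive] [Φ'.PreservesInjectiveObjects]
  {Φ₃ : A'' ⥤ B''} [Φ₃.Additive] {Ψ₃ : B'' ⥤ B'} [Ψ₃.Additive] [PreservesFiniteLimits Ψ₃]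
  (e' : Φ' ⋙ Φ₂ ≅ Φ₃ ⋙ Ψ₃)
  {P : A'' ⥤ A} [P.Additive] [P.PreservesInjectiveObjects] {Q : B'' ⥤ B} [Q.Additive] [PreservesFiniteLimits Q]
  (E : P ⋙ Ψ ≅ Φ₃ ⋙ Q) (α : Φ' ⋙ Φ ⟶ P) (β : Ψ₃ ⋙ Ψ₂ ⟶ Q)

/-- **Composition of base changes.** -/
theorem adjMap_comp
    (hE : ∀ N : A'', Ψ.map (α.app N) ≫ E.hom.app N =
      e.hom.app (Φ'.obj N) ≫ Ψ₂.map (e'.hom.app N) ≫ β.app (Φ₃.obj N))
    {F : A} {M : A'} {N : A''} (θ : F ⟶ Φ.obj M) (θ' : M ⟶ Φ'.obj N) (q : ℕ) :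
    adjMap E (θ ≫ Φ.map θ' ≫ α.app N) q =
      adjMap e θ q ≫ Ψ₂.map (adjMap e' θ' q) ≫ β.app ((Φ₃.rightDerived q).obj N) := by
  let I := injectiveResolution F
  let J := injectiveResolution M
  let J' := injectiveResolution N
  obtain ⟨u, hu⟩ := exists_u θ I J
  obtain ⟨u', hu'⟩ := exists_u θ' J J'
  let up := (ComplexShape.up ℕ)
  let αJ : (Φ.mapHomologicalComplex up).obj ((Φ'.mapHomologicalComplex up).obj J'.cocomplex) ⟶
    (P.mapHomologicalComplex up).obj J'.cocomplex := (NatTrans.mapHomologicalComplex α up).app J'.cocomplex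
  let βK : (Ψ₂.mapHomologicalComplex up).obj ((Ψ₃.mapHomologicalComplex up).obj
      ((Φ₃.mapHomologicalComplex up).obj J'.cocomplex)) ⟶
    (Q.mapHomologicalComplex up).obj ((Φ₃.mapHomologicalComplex up).obj J'.cocomplex) :=
      (NatTrans.mapHomologicalComplex β up).app _
  have hu'' : I.ι.f 0 ≫ (u ≫ (Φ.mapHomologicalComplex up).map u' ≫ αJ).f 0 =
      (θ ≫ Φ.map θ' ≫ α.app N) ≫ P.map (J'.ι.f 0) := by
    have h1 := α.naturality (J'.ι.f 0)
    have h2 : Φ.map (J.ι.f 0) ≫ Φ.map (u'.f 0) = Φ.map θ' ≫ Φ.map (Φ'.map (J'.ι.f 0)) :=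
      (Φ.map_comp _ _).symm.trans ((congrArg Φ.map hu').trans (Φ.map_comp _ _))
    calc I.ι.f 0 ≫ u.f 0 ≫ Φ.map (u'.f 0) ≫ α.app (J'.cocomplex.X 0)
        = (I.ι.f 0 ≫ u.f 0) ≫ Φ.map (u'.f 0) ≫ α.app (J'.cocomplex.X 0) := (Category.assoc _ _ _).symm
      _ = (θ ≫ Φ.map (J.ι.f 0)) ≫ Φ.map (u'.f 0) ≫ α.app (J'.cocomplex.X 0) := congrArg (· ≫ _) hu
      _ = θ ≫ (Φ.map (J.ι.f 0) ≫ Φ.map (u'.f 0)) ≫ α.app (J'.cocomplex.X 0) := by
          simp only [Category.assoc]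
      _ = θ ≫ (Φ.map θ' ≫ Φ.map (Φ'.map (J'.ι.f 0))) ≫ α.app (J'.cocomplex.X 0) :=
          congrArg (fun z => θ ≫ z ≫ α.app (J'.cocomplex.X 0)) h2
      _ = θ ≫ Φ.map θ' ≫ (Φ.map (Φ'.map (J'.ι.f 0)) ≫ α.app (J'.cocomplex.X 0)) :=
          congrArg (θ ≫ ·) (Category.assoc _ _ _)
      _ = θ ≫ Φ.map θ' ≫ (α.app N ≫ P.map (J'.ι.f 0)) := congrArg (fun z => θ ≫ Φ.map θ' ≫ z) h1
      _ = (θ ≫ Φ.map θ' ≫ α.app N) ≫ P.map (J'.ι.f 0) := by simp only [Category.assoc]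
  have hcx : (Ψ.mapHomologicalComplex up).map αJ ≫ ecx E J'.cocomplex =
      ecx e ((Φ'.mapHomologicalComplex up).obj J'.cocomplex) ≫
        (Ψ₂.mapHomologicalComplex up).map (ecx e' J'.cocomplex) ≫ βK := by
    ext n
    exact hE (J'.cocomplex.X n)
  have hnat : (Ψ.mapHomologicalComplex up).map ((Φ.mapHomologicalComplex up).map u') ≫
      ecx e ((Φ'.mapHomologicalComplex up).obj J'.cocomplex) =
      ecx e J.cocomplex ≫ (Ψ₂.mapHomologicalComplex up).map ((Φ₂.mapHomologicalComplex up).map u') := by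
    ext n
    exact e.hom.naturality (u'.f n)
  have hH : hmap Ψ (u ≫ (Φ.mapHomologicalComplex up).map u' ≫ αJ) q ≫ homologyMap (ecx E J'.cocomplex) q =
      hmap Ψ u q ≫ homologyMap (ecx e J.cocomplex) q ≫
        homologyMap ((Ψ₂.mapHomologicalComplex up).map ((Φ₂.mapHomologicalComplex up).map u' ≫
          ecx e' J'.cocomplex)) q ≫ homologyMap βK q := by
    simp only [hmap, ← homologyMap_comp, Functor.map_comp, Category.assoc]
    rw [hcx, reassoc_of% hnat]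
  have hβ := homologyComparison_nat (Ψ₃ ⋙ Ψ₂) Q β ((Φ₃.mapHomologicalComplex up).obj J'.cocomplex) q
  have hcc := homologyComparison_comp Ψ₃ Ψ₂ ((Φ₃.mapHomologicalComplex up).obj J'.cocomplex) q
  have hcn := homologyComparison_naturality Ψ₂ ((Φ₂.mapHomologicalComplex up).map u' ≫ ecx e' J'.cocomplex) q
  have hβ2 := β.naturality (iso Φ₃ J' q).inv
  have hfin : homologyMap ((Ψ₂.mapHomologicalComplex up).map ((Φ₂.mapHomologicalComplex up).map u' ≫
          ecx e' J'.cocomplex)) q ≫ homologyMap βK q ≫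
          homologyComparison Q ((Φ₃.mapHomologicalComplex up).obj J'.cocomplex) q ≫ Q.map (iso Φ₃ J' q).inv =
      homologyComparison Ψ₂ ((Φ₂.mapHomologicalComplex up).obj J.cocomplex) q ≫ Ψ₂.map (iso Φ₂ J q).inv ≫
        Ψ₂.map ((iso Φ₂ J q).hom ≫ hmap Φ₂ u' q ≫ tail e' J' q) ≫ β.app ((Φ₃.rightDerived q).obj N) := by
    have h1 : homologyMap βK q ≫ homologyComparison Q ((Φ₃.mapHomologicalComplex up).obj J'.cocomplex) q =
        homologyComparison Ψ₂ ((Ψ₃.mapHomologicalComplex up).obj ((Φ₃.mapHomologicalComplex up).obj J'.cocomplex)) q ≫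
          Ψ₂.map (homologyComparison Ψ₃ ((Φ₃.mapHomologicalComplex up).obj J'.cocomplex) q) ≫
            β.app (((Φ₃.mapHomologicalComplex up).obj J'.cocomplex).homology q) := by
      refine hβ.trans ?_
      rw [hcc]
      exact Category.assoc _ _ _
    have h2 : β.app (((Φ₃.mapHomologicalComplex up).obj J'.cocomplex).homology q) ≫ Q.map (iso Φ₃ J' q).inv =
        Ψ₂.map (Ψ₃.map (iso Φ₃ J' q).inv) ≫ β.app ((Φ₃.rightDerived q).obj N) := hβ2.symm
    have h4 : ∀ {Z : B'} (x : ((Φ₂.mapHomologicalComplex up).obj J.cocomplex).homology q ⟶ Z),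
        Ψ₂.map (iso Φ₂ J q).inv ≫ Ψ₂.map ((iso Φ₂ J q).hom ≫ x) = Ψ₂.map x := fun x => by
      rw [← Ψ₂.map_comp]
      congr 1
      exact Iso.inv_hom_id_assoc _ _
    rw [reassoc_of% h1, reassoc_of% hcn, h2, homologyMap_comp]
    have h5 := h4 (hmap Φ₂ u' q ≫ tail e' J' q)
    rw [reassoc_of% h5, tail]
    simp only [Functor.map_comp, Category.assoc]
    rfl
  rw [adjMap_eq E (θ ≫ Φ.map θ' ≫ α.app N) q I J' _ hu'', adjMap_eq e θ q I J u hu,
    adjMap_eq e' θ' q J J' u' hu']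
  simp only [Category.assoc]
  congr 1
  have ht : tail E J' q = homologyMap (ecx E J'.cocomplex) q ≫
    homologyComparison Q ((Φ₃.mapHomologicalComplex up).obj J'.cocomplex) q ≫ Q.map (iso Φ₃ J' q).inv := rfl
  have ht' : tail e J q = homologyMap (ecx e J.cocomplex) q ≫
    homologyComparison Ψ₂ ((Φ₂.mapHomologicalComplex up).obj J.cocomplex) q ≫ Ψ₂.map (iso Φ₂ J q).inv := rfl
  rw [ht, ht']
  simp only [Category.assoc]
  rw [reassoc_of% hH, hfin]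

/-- Change of the functors `Φ` and `Ψ₂`. -/
theorem adjMap_congr {P : A' ⥤ A} [P.Additive] [P.PreservesInjectiveObjects] {Q : B' ⥤ B} [Q.Additive]
    [PreservesFiniteLimits Q] (E : P ⋙ Ψ ≅ Φ₂ ⋙ Q) (α : Φ ⟶ P) (β : Ψ₂ ⟶ Q)
    (hE : ∀ N : A', Ψ.map (α.app N) ≫ E.hom.app N = e.hom.app N ≫ β.app (Φ₂.obj N))
    {F : A} {M : A'} (θ : F ⟶ Φ.obj M) (q : ℕ) :
    adjMap E (θ ≫ α.app M) q = adjMap e θ q ≫ β.app ((Φ₂.rightDerived q).obj M) := by
  let I := injectiveResolution F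
  let J := injectiveResolution M
  obtain ⟨u, hu⟩ := exists_u θ I J
  let up := (ComplexShape.up ℕ)
  let αJ : (Φ.mapHomologicalComplex up).obj J.cocomplex ⟶
    (P.mapHomologicalComplex up).obj J.cocomplex := (NatTrans.mapHomologicalComplex α up).app J.cocomplex
  let βK : (Ψ₂.mapHomologicalComplex up).obj ((Φ₂.mapHomologicalComplex up).obj J.cocomplex) ⟶
    (Q.mapHomologicalComplex up).obj ((Φ₂.mapHomologicalComplex up).obj J.cocomplex) :=
      (NatTrans.mapHomologicalComplex β up).app _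
  have hu'' : I.ι.f 0 ≫ (u ≫ αJ).f 0 = (θ ≫ α.app M) ≫ P.map (J.ι.f 0) := by
    have h1 := α.naturality (J.ι.f 0)
    calc I.ι.f 0 ≫ u.f 0 ≫ α.app (J.cocomplex.X 0)
        = (I.ι.f 0 ≫ u.f 0) ≫ α.app (J.cocomplex.X 0) := (Category.assoc _ _ _).symm
      _ = (θ ≫ Φ.map (J.ι.f 0)) ≫ α.app (J.cocomplex.X 0) := congrArg (· ≫ _) hu
      _ = θ ≫ (Φ.map (J.ι.f 0) ≫ α.app (J.cocomplex.X 0)) := Category.assoc _ _ _
      _ = θ ≫ (α.app M ≫ P.map (J.ι.f 0)) := congrArg (fun z => θ ≫ z) h1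
      _ = (θ ≫ α.app M) ≫ P.map (J.ι.f 0) := by simp only [Category.assoc]
  have hcx : (Ψ.mapHomologicalComplex up).map αJ ≫ ecx E J.cocomplex = ecx e J.cocomplex ≫ βK := by
    ext n
    exact hE (J.cocomplex.X n)
  have hH : hmap Ψ (u ≫ αJ) q ≫ homologyMap (ecx E J.cocomplex) q =
      hmap Ψ u q ≫ homologyMap (ecx e J.cocomplex) q ≫ homologyMap βK q := by
    simp only [hmap, ← homologyMap_comp, Functor.map_comp, Category.assoc]
    rw [hcx]
  have hβ := homologyComparison_nat Ψ₂ Q β ((Φ₂.mapHomologicalComplex up).obj J.cocomplex) q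
  have hβ2 : β.app (((Φ₂.mapHomologicalComplex up).obj J.cocomplex).homology q) ≫ Q.map (iso Φ₂ J q).inv =
        Ψ₂.map (iso Φ₂ J q).inv ≫ β.app ((Φ₂.rightDerived q).obj M) := (β.naturality (iso Φ₂ J q).inv).symm
  rw [adjMap_eq E (θ ≫ α.app M) q I J _ hu'', adjMap_eq e θ q I J u hu]
  simp only [Category.assoc]
  congr 1
  have ht : tail E J q = homologyMap (ecx E J.cocomplex) q ≫
    homologyComparison Q ((Φ₂.mapHomologicalComplex up).obj J.cocomplex) q ≫ Q.map (iso Φ₂ J q).inv := rfl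
  have ht' : tail e J q = homologyMap (ecx e J.cocomplex) q ≫
    homologyComparison Ψ₂ ((Φ₂.mapHomologicalComplex up).obj J.cocomplex) q ≫ Ψ₂.map (iso Φ₂ J q).inv := rfl
  have hβ' := congrArg (· ≫ Q.map (iso Φ₂ J q).inv) hβ
  simp only [Category.assoc] at hβ'
  rw [ht, ht', reassoc_of% hH]
  simp only [Category.assoc]
  congr 2
  refine hβ'.trans ?_
  rw [hβ2]

end K557.BcAbs
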