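import Groth.Agent.SGA4h.K557.BcHom
import Groth.Agent.SGA4h.K557.DeltaCalc

/-!
# Composition of base changes in all degrees

`bc_paste`: the compatibility of the abstract base change maps `BcAbs.bc` with composition of base changes, in all
degrees, from the compatibility in degree zero.
-/

set_option autoImplicit false
set_option backward.isDefEq.respectTransparency false
universe v₁ v₂ v₃ v₄ v₅ v₆ u₁ u₂ u₃ u₄ u₅ u₆

open CategoryTheory CategoryTheory.Limits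

noncomputable section

namespace K557.BcAbs

open Groth.Agent.Localalg.DeltaFun K557.DeltaCalc

variable {A : Type u₁} [Category.{v₁} A] [Abelian A] [EnoughInjectives A]
  {A' : Type u₂} [Category.{v₂} A'] [Abelian A'] [HasInjectiveResolutions A']
  {A'' : Type u₅} [Category.{v₅} A''] [Abelian A''] [HasInjectiveResolutions A'']
  {B : Type u₃} [Category.{v₃} B] [Abelian B]
  {B' : Type u₄} [Category.{v₄} B'] [Abelian B']
  {B'' : Type u₆} [Category.{v₆} B''] [Abelian B'']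
  {Φ : A' ⥤ A} [Φ.Additive] [Φ.PreservesInjectiveObjects] {Ψ : A ⥤ B} [Ψ.Additive]
  {Φ₂ : A' ⥤ B'} [Φ₂.Additive] {Ψ₂ : B' ⥤ B} [Ψ₂.Additive] [PreservesFiniteLimits Ψ₂]
  (e : Φ ⋙ Ψ ≅ Φ₂ ⋙ Ψ₂) {L : A ⥤ A'} {L₂ : B ⥤ B'} (adj : L ⊣ Φ) (adj₂ : L₂ ⊣ Ψ₂)
  [L.Additive] [PreservesFiniteLimits L] [PreservesFiniteColimits L]
  [L₂.Additive] [PreservesFiniteLimits L₂] [PreservesFiniteColimits L₂]
  {Φ' : A'' ⥤ A'} [Φ'.Additive] [Φ'.PreservesInjectiveObjects]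
  {Φ₃ : A'' ⥤ B''} [Φ₃.Additive] {Ψ₃ : B'' ⥤ B'} [Ψ₃.Additive] [PreservesFiniteLimits Ψ₃]
  (e' : Φ' ⋙ Φ₂ ≅ Φ₃ ⋙ Ψ₃) {L' : A' ⥤ A''} {L₃ : B' ⥤ B''} (adj' : L' ⊣ Φ') (adj₃ : L₃ ⊣ Ψ₃)
  [L'.Additive] [PreservesFiniteLimits L'] [PreservesFiniteColimits L']
  [L₃.Additive] [PreservesFiniteLimits L₃] [PreservesFiniteColimits L₃]
  {P : A'' ⥤ A} [P.Additive] [P.PreservesInjectiveObjects] {Q : B'' ⥤ B} [Q.Additive] [PreservesFiniteLimits Q]
  (E : P ⋙ Ψ ≅ Φ₃ ⋙ Q) {LP : A ⥤ A''} {LQ : B ⥤ B''} (adjP : LP ⊣ P) (adjQ : LQ ⊣ Q)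
  [LP.Additive] [PreservesFiniteLimits LP] [PreservesFiniteColimits LP]
  [LQ.Additive] [PreservesFiniteLimits LQ] [PreservesFiniteColimits LQ]
  (c : L₂ ⋙ L₃ ⟶ LQ) (c' : L ⋙ L' ⟶ LP)

attribute [local instance] comp_preservesFiniteLimits comp_preservesFiniteColimits

/-- One side of the pasting identity. -/
def pasteL : DeltaHom ((chainD Ψ).postcomp (L₂ ⋙ L₃)) ((chainD Φ₃).precomp LP) :=
  comp (ofPost (chainD Ψ) c) (bcHom E adjP adjQ)

/-- The other side of the pasting identity. -/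
def pasteR : DeltaHom ((chainD Ψ).postcomp (L₂ ⋙ L₃)) ((chainD Φ₃).precomp LP) :=
  comp (postW (bcHom e adj adj₂) L₃) (comp (preW (bcHom e' adj' adj₃) L) (ofPre (chainD Φ₃) c'))

/-- **Composition of base changes in all degrees**, from degree zero. -/
theorem bc_paste
    (h0 : ∀ F : A, c.app ((Ψ.rightDerived 0).obj F) ≫ bc E adjP adjQ 0 F =
      L₃.map (bc e adj adj₂ 0 F) ≫ bc e' adj' adj₃ 0 (L.obj F) ≫ (Φ₃.rightDerived 0).map (c'.app F))
    (q : ℕ) (F : A) :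
    c.app ((Ψ.rightDerived q).obj F) ≫ bc E adjP adjQ q F =
      L₃.map (bc e adj adj₂ q F) ≫ bc e' adj' adj₃ q (L.obj F) ≫ (Φ₃.rightDerived q).map (c'.app F) :=
  ext_app (T := (chainD Ψ).postcomp (L₂ ⋙ L₃)) (T' := (chainD Φ₃).precomp LP)
    (fun J _ n => (L₂ ⋙ L₃).map_isZero (chainD_eff Ψ J n))
    (pasteL E adjP adjQ c) (pasteR e adj adj₂ e' adj' adj₃ c') h0 q F

/-- The abstract base change map in degree zero (for the functors themselves). -/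
def bcz (F : A) : L₂.obj (Ψ.obj F) ⟶ Φ₂.obj (L.obj F) :=
  (adj₂.homEquiv (Ψ.obj F) (Φ₂.obj (L.obj F))).symm (Ψ.map (adj.unit.app F) ≫ e.hom.app (L.obj F))

omit [EnoughInjectives A] [L.Additive] [PreservesFiniteLimits L] [PreservesFiniteColimits L]
  [L₂.Additive] [PreservesFiniteLimits L₂] [PreservesFiniteColimits L₂] in
@[reassoc]
theorem toRDZ_bc [HasInjectiveResolutions A] (F : A) :
    L₂.map (Ψ.toRightDerivedZero.app F) ≫ bc e adj adj₂ 0 F =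
      bcz e adj adj₂ F ≫ Φ₂.toRightDerivedZero.app (L.obj F) := toRightDerivedZero_bc e adj adj₂ F

variable [PreservesFiniteLimits Ψ]

/-- **Composition of base changes in all degrees**, from the identity for the functors themselves. -/
theorem bc_paste_of_zero
    (h0 : ∀ F : A, c.app (Ψ.obj F) ≫ bcz E adjP adjQ F =
      L₃.map (bcz e adj adj₂ F) ≫ bcz e' adj' adj₃ (L.obj F) ≫ Φ₃.map (c'.app F))
    (q : ℕ) (F : A) :
    c.app ((Ψ.rightDerived q).obj F) ≫ bc E adjP adjQ q F =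
      L₃.map (bc e adj adj₂ q F) ≫ bc e' adj' adj₃ q (L.obj F) ≫ (Φ₃.rightDerived q).map (c'.app F) := by
  refine bc_paste e adj adj₂ e' adj' adj₃ E adjP adjQ c c' (fun F => ?_) q F
  have hz : IsIso (Ψ.toRightDerivedZero.app F) := inferInstance
  rw [← cancel_epi (L₃.map (L₂.map (Ψ.toRightDerivedZero.app F)))]
  have h1 : L₃.map (L₂.map (Ψ.toRightDerivedZero.app F)) ≫ c.app ((Ψ.rightDerived 0).obj F) =
      c.app (Ψ.obj F) ≫ LQ.map (Ψ.toRightDerivedZero.app F) := c.naturality _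
  have h2 : L₃.map (L₂.map (Ψ.toRightDerivedZero.app F)) ≫ L₃.map (bc e adj adj₂ 0 F) =
      L₃.map (bcz e adj adj₂ F) ≫ L₃.map (Φ₂.toRightDerivedZero.app (L.obj F)) := by
    rw [← L₃.map_comp, ← L₃.map_comp, toRDZ_bc]
  have h3 := Φ₃.toRightDerivedZero.naturality (c'.app F)
  have h4 : Φ₃.toRightDerivedZero.app ((L ⋙ L').obj F) ≫ (Φ₃.rightDerived 0).map (c'.app F) =
      Φ₃.map (c'.app F) ≫ Φ₃.toRightDerivedZero.app (LP.obj F) := h3.symm
  rw [reassoc_of% h1, toRDZ_bc, reassoc_of% h2, toRDZ_bc_assoc]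
  have h5 := h0 F
  calc c.app (Ψ.obj F) ≫ bcz E adjP adjQ F ≫ Φ₃.toRightDerivedZero.app (LP.obj F)
      = (c.app (Ψ.obj F) ≫ bcz E adjP adjQ F) ≫ Φ₃.toRightDerivedZero.app (LP.obj F) :=
        (Category.assoc _ _ _).symm
    _ = (L₃.map (bcz e adj adj₂ F) ≫ bcz e' adj' adj₃ (L.obj F) ≫ Φ₃.map (c'.app F)) ≫
        Φ₃.toRightDerivedZero.app (LP.obj F) := congrArg (· ≫ _) h5
    _ = L₃.map (bcz e adj adj₂ F) ≫ bcz e' adj' adj₃ (L.obj F) ≫
        (Φ₃.map (c'.app F) ≫ Φ₃.toRightDerivedZero.app (LP.obj F)) := by simp only [Category.assoc]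
    _ = L₃.map (bcz e adj adj₂ F) ≫ bcz e' adj' adj₃ (L.obj F) ≫
        (Φ₃.toRightDerivedZero.app ((L ⋙ L').obj F) ≫ (Φ₃.rightDerived 0).map (c'.app F)) := by rw [h4]
    _ = _ := rfl

end K557.BcAbs
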