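import Groth.Agent.SGA4h.K557.BcHom
import Groth.Agent.Sga4B.DeltaH

/-!
# Comparison of the delta functor structures on right derived functors

`exists_cmp F`: natural automorphisms of the `R^nF`, the identity for `n = 0`, carrying the connecting maps
`Etrest.RDer1.δ` to the chain level connecting maps; `bc_eq_conj`: any morphism of delta functors
`L₂ ∘ R^qΨ ⟶ R^qΦ₂ ∘ L` for the connecting maps `RDer1.δ` which is `bc` in degree `0` is conjugate to `bc` by them.
-/

set_option autoImplicit false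
set_option backward.isDefEq.respectTransparency false
universe v₁ v₂ v₃ v₄ v₅ v₆ u₁ u₂ u₃ u₄ u₅ u₆

open CategoryTheory CategoryTheory.Limits

noncomputable section

namespace K557.BcAbs

open Groth.Agent.Localalg.DeltaFun Groth.Agent.Sga4B

section

variable {A : Type u₁} [Category.{v₁} A] [Abelian A] [EnoughInjectives A]
  {B : Type u₂} [Category.{v₂} B] [Abelian B] (F : A ⥤ B) [F.Additive]

theorem exists_cmp : ∃ E : ∀ n, (DeltaH.ofRightDerived F).T n ≅ (chainD F).T n,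
    E 0 = Iso.refl (F.rightDerived 0) ∧
      ∀ {S : ShortComplex A} (hS : S.ShortExact) (n : ℕ),
        (E n).hom.app S.X₃ ≫ (chainD F).δ hS n = (DeltaH.ofRightDerived F).δ hS n ≫ (E (n + 1)).hom.app S.X₁ :=
  exists_iso (DeltaH.ofRightDerived_effaceable F) (chainD_eff F) (Iso.refl (F.rightDerived 0))

end

variable {A : Type u₁} [Category.{v₁} A] [Abelian A] [EnoughInjectives A]
  {A' : Type u₂} [Category.{v₂} A'] [Abelian A'] [EnoughInjectives A']
  {B : Type u₃} [Category.{v₃} B] [Abelian B]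
  {B' : Type u₄} [Category.{v₄} B'] [Abelian B']
  {Φ : A' ⥤ A} [Φ.Additive] [Φ.PreservesInjectiveObjects] {Ψ : A ⥤ B} [Ψ.Additive]
  {Φ₂ : A' ⥤ B'} [Φ₂.Additive] {Ψ₂ : B' ⥤ B} [Ψ₂.Additive] [PreservesFiniteLimits Ψ₂]
  (e : Φ ⋙ Ψ ≅ Φ₂ ⋙ Ψ₂)
  {L : A ⥤ A'} {L₂ : B ⥤ B'} (adj : L ⊣ Φ) (adj₂ : L₂ ⊣ Ψ₂)
  [L.Additive] [PreservesFiniteLimits L] [PreservesFiniteColimits L]
  [L₂.Additive] [PreservesFiniteLimits L₂] [PreservesFiniteColimits L₂]

theorem bc_eq_conj (Θ : DeltaHom ((DeltaH.ofRightDerived Ψ).postcomp L₂) ((DeltaH.ofRightDerived Φ₂).precomp L))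
    (h0 : ∀ F : A, (Θ.app 0).app F = bc e adj adj₂ 0 F) (q : ℕ) :
    ∃ (α : Ψ.rightDerived q ≅ Ψ.rightDerived q) (β : Φ₂.rightDerived q ≅ Φ₂.rightDerived q),
      ∀ F : A, (Θ.app q).app F = L₂.map (α.hom.app F) ≫ bc e adj adj₂ q F ≫ β.hom.app (L.obj F) := by
  obtain ⟨E₁, h₁, h₁'⟩ := exists_cmp Ψ
  obtain ⟨E₂, h₂, h₂'⟩ := exists_cmp Φ₂
  let Θ' : DeltaHom ((DeltaH.ofRightDerived Ψ).postcomp L₂) ((DeltaH.ofRightDerived Φ₂).precomp L) :=
    { app := fun n =>
        { app := fun F => L₂.map ((E₁ n).hom.app F) ≫ bc e adj adj₂ n F ≫ (E₂ n).inv.app (L.obj F)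
          naturality := fun F G φ => by
            have a := (E₁ n).hom.naturality φ
            have b := (E₂ n).inv.naturality (L.map φ)
            have c := bc_naturality e adj adj₂ n φ
            have a' : L₂.map (((DeltaH.ofRightDerived Ψ).T n).map φ) ≫ L₂.map ((E₁ n).hom.app G) =
                L₂.map ((E₁ n).hom.app F) ≫ L₂.map ((Ψ.rightDerived n).map φ) := by
              rw [← L₂.map_comp, ← L₂.map_comp]
              exact congrArg L₂.map a
            change L₂.map (((DeltaH.ofRightDerived Ψ).T n).map φ) ≫ L₂.map ((E₁ n).hom.app G) ≫ _ =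
              (L₂.map ((E₁ n).hom.app F) ≫ bc e adj adj₂ n F ≫ (E₂ n).inv.app (L.obj F)) ≫
                ((DeltaH.ofRightDerived Φ₂).T n).map (L.map φ)
            rw [reassoc_of% a', reassoc_of% c]
            simp only [Category.assoc]
            congr 2 }
      comm := fun {S} hS n => by
        have hb := bc_δ e adj adj₂ hS n
        have k₁ := h₁' hS n
        have k₂ := h₂' (hS.map_of_exact L) n
        have k₂' : (E₂ n).inv.app (L.obj S.X₃) ≫ (DeltaH.ofRightDerived Φ₂).δ (hS.map_of_exact L) n =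
            (chainD Φ₂).δ (hS.map_of_exact L) n ≫ (E₂ (n + 1)).inv.app (L.obj S.X₁) := by
          rw [← cancel_epi ((E₂ n).hom.app (L.obj S.X₃)), Iso.hom_inv_id_app_assoc]
          have k₃ := congrArg (· ≫ (E₂ (n + 1)).inv.app (L.obj S.X₁)) k₂
          simp only [Category.assoc] at k₃
          refine Eq.trans ?_ k₃.symm
          exact (((congrArg ((DeltaH.ofRightDerived Φ₂).δ (hS.map_of_exact L) n ≫ ·)
            ((E₂ (n + 1)).hom_inv_id_app (L.obj S.X₁)))).trans (Category.comp_id _)).symm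
        have k₁' : L₂.map ((DeltaH.ofRightDerived Ψ).δ hS n) ≫ L₂.map ((E₁ (n + 1)).hom.app S.X₁) =
            L₂.map ((E₁ n).hom.app S.X₃) ≫ L₂.map ((chainD Ψ).δ hS n) := by
          rw [← L₂.map_comp, ← L₂.map_comp]
          exact congrArg L₂.map k₁.symm
        change (L₂.map ((E₁ n).hom.app S.X₃) ≫ bc e adj adj₂ n S.X₃ ≫ (E₂ n).inv.app (L.obj S.X₃)) ≫
            (DeltaH.ofRightDerived Φ₂).δ (hS.map_of_exact L) n =
          L₂.map ((DeltaH.ofRightDerived Ψ).δ hS n) ≫ L₂.map ((E₁ (n + 1)).hom.app S.X₁) ≫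
            bc e adj adj₂ (n + 1) S.X₁ ≫ (E₂ (n + 1)).inv.app (L.obj S.X₁)
        rw [reassoc_of% k₁', reassoc_of% hb]
        simp only [Category.assoc]
        congr 2 }
  have hT : ((DeltaH.ofRightDerived Ψ).postcomp L₂).Effaceable :=
    fun J _ n => L₂.map_isZero (DeltaH.ofRightDerived_effaceable Ψ J n)
  have key := DeltaHom.ext_zero hT Θ Θ' (by
    ext F
    rw [h0 F]
    change _ = L₂.map ((E₁ 0).hom.app F) ≫ bc e adj adj₂ 0 F ≫ (E₂ 0).inv.app (L.obj F)
    rw [h₁, h₂]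
    change _ = L₂.map (𝟙 _) ≫ bc e adj adj₂ 0 F ≫ 𝟙 _
    rw [L₂.map_id]
    exact (Category.id_comp _ |>.trans (Category.comp_id _)).symm) q
  refine ⟨E₁ q, (E₂ q).symm, fun F => ?_⟩
  rw [key]
  rfl

end K557.BcAbs
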