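import Groth.Agent.Sga4h.UlaGoodB867
import Groth.Agent.Sga4h.UlaRed
import Groth.Agent.Sga1.UlaLoc
import Groth.Agent.Etrest.VCBaseChange
import Groth.Agent.Etbc.H233.PtBC

/-!
# Relative local acyclicity and integral base change

* `hi_spm`: a local homomorphism of strictly henselian rings is a cohomological isomorphism;
* `lAt_baseChange`: local acyclicity relative to a sheaf is stable under integral base change;
* `lAt_baseChange_weaklyEtale`.
-/

set_option autoImplicit false
universe u

open CategoryTheory CategoryTheory.Limits AlgebraicGeometry Opposite IsLocalRing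

noncomputable section

namespace K557.LaInt

open scoped Groth.Agent.Etcore.EtInst
open scoped TensorProduct
open Groth.Agent.Etcore.EtInst Groth.Agent.Etcore.HpullCalc
open Groth.Agent.Sga1.UlaGeo Groth.Agent.Sga1.UlaRes Groth.Agent.Etrest.StrictLoc
  Groth.Agent.Sga4h.UlaGood Groth.Agent.Sga1.UlaLoc Groth.Agent.Sga1.UlaSL Groth.Agent.Etrest.VCBaseChange
  Groth.Agent.Etbc.H233.PtBC

/-- Local homomorphisms of strictly henselian rings are cohomological isomorphisms. -/
theorem hi_spm {A C : Type u} [CommRing A] [CommRing C] [HenselianLocalRing A] [HenselianLocalRing C]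
    [IsSepClosed (ResidueField A)] [IsSepClosed (ResidueField C)]
    (β : A →+* C) [IsLocalHom β] (F : EtCoh.Ab (Spec (CommRingCat.of A))) : HI (spm β) F := by
  intro q
  rcases Nat.eq_zero_or_pos q with rfl | hq
  · rw [bijective_hp_zero_iff, bijective_unitSec_iff]
    exact UB_spm inferInstance inferInstance inferInstance inferInstance β F
  · have h1 : Subsingleton (HH (Spec (CommRingCat.of A)) F q) :=
      (subsingleton_H_iff _ _).1 (Groth.Agent.S0073.result A F q hq)
    have h2 : Subsingleton (HH (Spec (CommRingCat.of C)) ((EtCoh.pull (spm β)).obj F) q) :=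
      (subsingleton_H_iff _ _).1 (Groth.Agent.S0073.result C _ q hq)
    exact ⟨fun _ _ _ => h1.elim _ _, fun y => ⟨0, h2.elim _ _⟩⟩

/-- A ring isomorphism `A' ⊗ C ≃ C'` gives a pullback square. -/
theorem isPullback_of_equiv {A A' C C' : Type u} [CommRing A] [CommRing A'] [CommRing C] [CommRing C']
    [Algebra A A'] [Algebra A C] (γ : A' →+* C') (δ : C →+* C')
    (e : A' ⊗[A] C ≃+* C') (he : ∀ a b, e (a ⊗ₜ b) = γ a * δ b) :
    IsPullback (spm δ) (spm γ) (spm (algebraMap A C)) (spm (algebraMap A A')) := by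
  have h0 := CommRingCat.isPushout_tensorProduct A A' C
  have h1 : IsPushout (CommRingCat.ofHom (algebraMap A A')) (CommRingCat.ofHom (algebraMap A C))
      (CommRingCat.ofHom γ) (CommRingCat.ofHom δ) := by
    refine IsPushout.of_iso h0 (Iso.refl _) (Iso.refl _) (Iso.refl _) e.toCommRingCatIso ?_ ?_ ?_ ?_
    · simp
    · simp
    · ext a
      change e _ = γ a
      have := he a 1
      rw [map_one, mul_one] at this
      exact this
    · ext b
      change e _ = δ b
      have := he 1 b
      rw [map_one, one_mul] at this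
      exact this
  exact (isPullback_SpecMap_of_isPushout _ _ _ _ h1).flip

theorem hi_of_res {X T T' : Scheme.{u}} (F : EtCoh.Ab X) (f : T' ⟶ T) (a : T ⟶ X) (a' : T' ⟶ X) (w : f ≫ a = a')
    : (∀ q, Function.Bijective (res F f a a' w q)) ↔ HI f ((EtCoh.pull a).obj F) := by
  rw [hi_iff_Hpull]
  exact forall_congr' fun q => res_bijective_iff F f a a' w q

/-- **Local acyclicity relative to a sheaf is stable under integral base change.** -/
theorem lAt_baseChange {X S S' X' : Scheme.{u}} {f : X ⟶ S} {g : S' ⟶ S} [IsIntegralHom g] {f' : X' ⟶ S'}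
    {p : X' ⟶ X} (hX : IsPullback p f' f g) {F : EtCoh.Ab X} (x' : X') (hf : LAt f F (p x')) :
    LAt f' ((EtCoh.pull p).obj F) x' := by
  intro A' C' _ _ _ _ σ' τ' hσ' hτ' hx' β' _ hβ'
  have := hσ'.henselian
  have := hσ'.sepClosed
  have := hτ'.henselian
  have := hτ'.sepClosed
  obtain ⟨C, _, _, τ, hτ, hcC⟩ := exists_isStrictLoc X (p x')
  obtain ⟨A, _, _, σ, hσ, hcA⟩ := exists_isStrictLoc S (f (p x'))
  have := hτ.henselian
  have := hτ.sepClosed
  have := hσ.henselian
  have := hσ.sepClosed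
  obtain ⟨δ, hδloc, hδ⟩ := exists_map hτ (τ' ≫ p) (by
    rw [hcC, Scheme.Hom.comp_apply, hx'])
  obtain ⟨α, hαloc, hα⟩ := exists_map hσ (σ' ≫ g) (by
    rw [hcA]
    have h1 : σ' (closedPoint A') = f' x' := by
      have h2 : (spm β' ≫ σ') (closedPoint C') = (τ' ≫ f') (closedPoint C') := by rw [hβ']
      rw [Scheme.Hom.comp_apply, Scheme.Hom.comp_apply, hx', closedPoint_map β'] at h2
      exact h2
    rw [Scheme.Hom.comp_apply, h1, ← Scheme.Hom.comp_apply, ← Scheme.Hom.comp_apply, hX.w])
  obtain ⟨β, hβloc, hβ, hδβ⟩ := exists_map_over hσ (τ ≫ f) δ (β'.comp α) (by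
    rw [spm_comp, Category.assoc, hα, ← Category.assoc, hβ', Category.assoc, ← hX.w,
      ← Category.assoc, ← hδ, Category.assoc])
  let _ : Algebra A A' := α.toAlgebra
  let _ : Algebra A C := β.toAlgebra
  have : IsLocalHom (algebraMap A A') := hαloc
  have : IsLocalHom (algebraMap A C) := hβloc
  have hαint : α.IsIntegral :=
    Groth.Agent.Etrest.StrictLocInt.isIntegral_of_isStrictLoc hσ hσ' α hα (fun w hw α₀ hα₀ =>
      Groth.Agent.Etrest.StrictLocInt.isIntegral_stalk_of_isIntegralHom (pullback.snd g σ) w hw α₀ hα₀)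
  have : Algebra.IsIntegral A A' := ⟨hαint⟩
  obtain ⟨e, he⟩ := Groth.Agent.Etrest.StrictLocTensor.exists_ringEquiv hX hσ hσ' hτ hτ' β' δ
    hα hβ hβ' hδ hδβ.symm
  have hsq : IsPullback (spm δ) (spm β') (spm β) (spm α) := isPullback_of_equiv β' δ e he
  intro Ω _ _ ω P p₁ r hP
  have hP2 : IsPullback (p₁ ≫ spm δ) r (spm β) (spm (ω.comp α)) := by
    rw [spm_comp]
    exact hP.paste_horiz hsq
  have h1 := (hi_of_res F _ _ _ _).1 (hf A C σ τ hσ hτ hcC β hβ Ω (ω.comp α) P (p₁ ≫ spm δ) r hP2)
  have h2 := HI.of_comp_left rfl (hi_spm δ _) h1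
  rw [HI.pull_pull hδ, ← HI.pull_pull rfl] at h2
  exact (hi_of_res _ _ _ _ _).2 h2

/-- Weakly étale base change. -/
theorem lAt_baseChange_weaklyEtale {X S S' X' : Scheme.{u}} {f : X ⟶ S} {g : S' ⟶ S} [WeaklyEtale g] {f' : X' ⟶ S'}
    {p : X' ⟶ X} (hX : IsPullback p f' f g) {F : EtCoh.Ab X} (x' : X') (hf : LAt f F (p x')) :
    LAt f' ((EtCoh.pull p).obj F) x' := by
  have : WeaklyEtale p := MorphismProperty.of_isPullback (P := @WeaklyEtale) hX.flip inferInstance
  have h1 := (lAt_comp_source p f F x').2 hf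
  rw [hX.w] at h1
  exact (lAt_comp_target g f' _ x').1 h1

end K557.LaInt
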