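import Groth.Agent.SGA4h.K557.RDerRes

/-!
# Connecting maps and the calculus of `K557.RDerRes`

* `exists_map`: a morphism `θ` from a short exact sequence `S` with an injective resolution `T : RDer.SESRes S` to a
  short complex `Y`, augmented to a short complex `L` of complexes of injectives, lifts to `T.cx ⟶ L`.
* `toInj_δ`: `toInj` and connecting maps; `homologyComparison_δ`: `homologyComparison` and connecting maps.
-/

set_option autoImplicit false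
set_option backward.isDefEq.respectTransparency false
universe v₁ v₂ v₃ v₄ u₁ u₂ u₃ u₄

open CategoryTheory CategoryTheory.Limits HomologicalComplex

noncomputable section

namespace K557.RDerDelta

open RDer K557.RDerRes

section Map

variable {A : Type u₁} [Category.{v₁} A] [Abelian A]
  {S Y : ShortComplex A} (θ : S ⟶ Y) (T : RDer.SESRes S) (L : ShortComplex (CochainComplex A ℕ))
  [hL₁ : ∀ n, Injective (L.X₁.X n)] [hL₂ : ∀ n, Injective (L.X₂.X n)]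
  (η₁ : (CochainComplex.single₀ A).obj Y.X₁ ⟶ L.X₁) (η₂ : (CochainComplex.single₀ A).obj Y.X₂ ⟶ L.X₂)
  (η₃ : (CochainComplex.single₀ A).obj Y.X₃ ⟶ L.X₃)
  (hf : η₁ ≫ L.f = (CochainComplex.single₀ A).map Y.f ≫ η₂)
  (hg : η₂ ≫ L.g = (CochainComplex.single₀ A).map Y.g ≫ η₃)

include hL₁ hL₂ hf hg in
/-- A morphism of short complexes lifts to a resolution of a short exact sequence. -/
theorem exists_map : ∃ α : T.cx ⟶ L,
    T.I₁.ι ≫ α.τ₁ = (CochainComplex.single₀ A).map θ.τ₁ ≫ η₁ ∧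
    T.I₂.ι ≫ α.τ₂ = (CochainComplex.single₀ A).map θ.τ₂ ≫ η₂ ∧
    T.I₃.ι ≫ α.τ₃ = (CochainComplex.single₀ A).map θ.τ₃ ≫ η₃ := by
  have key : ∀ {Z W : A} (φ : Z ⟶ W) (P : InjectiveResolution Z) (M : CochainComplex A ℕ)
      [∀ n, Injective (M.X n)] (η : (CochainComplex.single₀ A).obj W ⟶ M),
      ∃ f : P.cocomplex ⟶ M, P.ι ≫ f = (CochainComplex.single₀ A).map φ ≫ η := by
    intro Z W φ P M _ η
    refine ⟨descToInjectives φ P.cocomplex P.ι M η, HomologicalComplex.from_single_hom_ext ?_⟩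
    have := ι_descToInjectives_f_zero φ P.cocomplex P.ι M η
    rw [HomologicalComplex.comp_f, HomologicalComplex.comp_f, CochainComplex.single₀_map_f_zero]
    exact this
  obtain ⟨f₁, hf₁⟩ := key θ.τ₁ T.I₁ L.X₁ η₁
  obtain ⟨g₂, hg₂⟩ := key θ.τ₂ T.I₂ L.X₂ η₂
  let H : Homotopy (T.f ≫ g₂) (f₁ ≫ L.f) := homotopy T.I₁.ι _ _ (by
    have h1 : T.I₁.ι ≫ T.f ≫ g₂ = T.I₁.ι ≫ f₁ ≫ L.f := by
      rw [reassoc_of% T.ι_f, hg₂, reassoc_of% hf₁, hf, ← Functor.map_comp_assoc, ← Functor.map_comp_assoc,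
        θ.comm₁₂]
    exact HomologicalComplex.congr_hom h1 0)
  have hH : T.f ≫ g₂ = Homotopy.nullHomotopicMap H.hom + f₁ ≫ L.f := by
    ext i
    rw [H.comm i, HomologicalComplex.add_f_apply]
    rfl
  let h' : ∀ i j, T.I₂.cocomplex.X i ⟶ L.X₂.X j := fun i j =>
    (T.splitting i).r ≫ H.hom i j
  have hh' : ∀ i j, T.f.f i ≫ h' i j = H.hom i j := fun i j => by
    have h1 : T.f.f i ≫ (T.splitting i).r = 𝟙 _ := (T.splitting i).f_r
    change T.f.f i ≫ (T.splitting i).r ≫ H.hom i j = _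
    rw [reassoc_of% h1]
  have hcomp : T.f ≫ Homotopy.nullHomotopicMap h' = Homotopy.nullHomotopicMap H.hom := by
    rw [Homotopy.comp_nullHomotopicMap]
    congr 1
    funext i j
    exact hh' i j
  let f₂ : T.I₂.cocomplex ⟶ L.X₂ := g₂ - Homotopy.nullHomotopicMap h'
  have hff : T.f ≫ f₂ = f₁ ≫ L.f := by
    rw [Preadditive.comp_sub, hcomp]
    exact sub_eq_iff_eq_add'.mpr hH
  have hf₂ : T.I₂.ι ≫ f₂ = (CochainComplex.single₀ A).map θ.τ₂ ≫ η₂ := by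
    rw [Preadditive.comp_sub, hg₂, Homotopy.comp_nullHomotopicMap, K887.SESMap.nullHomotopicMap_single₀,
      sub_zero]
  have : Epi T.cx.g := T.shortExact.epi_g
  let f₃ : T.I₃.cocomplex ⟶ L.X₃ := T.shortExact.exact.desc (f₂ ≫ L.g) (by
    change T.f ≫ f₂ ≫ L.g = 0
    rw [reassoc_of% hff, L.zero, comp_zero])
  have hgg : T.g ≫ f₃ = f₂ ≫ L.g := T.shortExact.exact.g_desc _ _
  refine ⟨{ τ₁ := f₁, τ₂ := f₂, τ₃ := f₃, comm₁₂ := hff.symm, comm₂₃ := hgg.symm }, hf₁, hf₂, ?_⟩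
  have := K887.SESMap.epi_g T
  change T.I₃.ι ≫ f₃ = _
  rw [← cancel_epi ((CochainComplex.single₀ A).map S.g), ← reassoc_of% T.ι_g, hgg,
    reassoc_of% hf₂, hg, ← Functor.map_comp_assoc, ← Functor.map_comp_assoc, θ.comm₂₃]

omit [Abelian A] in
lemma f_zero_of [Abelian A] {X Z : A} {f : X ⟶ Z} {I : InjectiveResolution X} {M : CochainComplex A ℕ}
    {η : (CochainComplex.single₀ A).obj Z ⟶ M}
    {φ : I.cocomplex ⟶ M} (h : I.ι ≫ φ = (CochainComplex.single₀ A).map f ≫ η) :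
    I.ι.f 0 ≫ φ.f 0 = f ≫ η.f 0 := by
  have h1 := HomologicalComplex.congr_hom h 0
  simpa using h1

variable [HasInjectiveResolutions A] {B : Type u₂} [Category.{v₂} B] [Abelian B] (Ψ : A ⥤ B) [Ψ.Additive]
  [hL₃ : ∀ n, Injective (L.X₃.X n)]
  (hL : (L.map (Ψ.mapHomologicalComplex (ComplexShape.up ℕ))).ShortExact)

include hf hg in
/-- Connecting maps and `toInj`. -/
theorem toInj_δ (n₀ n₁ : ℕ) (h : n₀ + 1 = n₁) :
    T.delta Ψ n₀ n₁ h ≫ (Ψ.rightDerived n₁).map θ.τ₁ ≫ toInj Ψ η₁ n₁ =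
      (Ψ.rightDerived n₀).map θ.τ₃ ≫ toInj Ψ η₃ n₀ ≫ hL.δ n₀ n₁ h := by
  obtain ⟨α, h₁, -, h₃⟩ := exists_map θ T L η₁ η₂ η₃ hf hg
  rw [map_toInj Ψ θ.τ₁ η₁ T.I₁ α.τ₁ (f_zero_of h₁), map_toInj_assoc Ψ θ.τ₃ η₃ T.I₃ α.τ₃ (f_zero_of h₃)]
  have hδ := HomologicalComplex.HomologySequence.δ_naturality
    ((Ψ.mapHomologicalComplex (ComplexShape.up ℕ)).mapShortComplex.map α)
    (T.map_shortExact Ψ) hL n₀ n₁ h
  have h4 := RDer.SESRes.delta_comp_isoRightDerivedObj_hom_assoc T Ψ n₀ n₁ h (hmap Ψ α.τ₁ n₁)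
  refine h4.trans ?_
  rw [Category.assoc]
  exact congrArg (fun z => (T.I₃.isoRightDerivedObj Ψ n₀).hom ≫ z) hδ

end Map

section Cmp

variable {B : Type u₂} [Category.{v₂} B] [Abelian B] {C : Type u₃} [Category.{v₃} C] [Abelian C]

/-- The connecting map of a degreewise split short exact sequence of complexes. -/
theorem exists_δ {K : ShortComplex (CochainComplex B ℕ)} (hK : K.ShortExact)
    (i j : ℕ) (hij : i + 1 = j) (s : K.X₃.X i ⟶ K.X₂.X i) (hs : s ≫ K.g.f i = 𝟙 _)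
    (t : K.X₃.X j ⟶ K.X₂.X j) (r : K.X₂.X j ⟶ K.X₁.X j) (hr : r ≫ K.f.f j = 𝟙 _ - K.g.f j ≫ t) :
    ∃ z : K.X₃.cycles i ⟶ K.X₁.cycles j,
      z ≫ K.X₁.iCycles j = K.X₃.iCycles i ≫ s ≫ K.X₂.d i j ≫ r ∧
      K.X₃.homologyπ i ≫ hK.δ i j hij = z ≫ K.X₁.homologyπ j := by
  have hx₁ : (K.X₃.iCycles i ≫ s ≫ K.X₂.d i j ≫ r) ≫ K.f.f j =
      (K.X₃.iCycles i ≫ s) ≫ K.X₂.d i j := by
    simp only [Category.assoc]
    rw [hr, Preadditive.comp_sub, Category.comp_id, Preadditive.comp_sub, Preadditive.comp_sub]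
    have h1 : K.X₃.iCycles i ≫ s ≫ K.X₂.d i j ≫ K.g.f j ≫ t = 0 := by
      rw [← K.g.comm_assoc, reassoc_of% hs, iCycles_d_assoc, zero_comp]
    rw [h1, sub_zero]
  have h2 := hK.δ_eq i j hij (K.X₃.iCycles i) (K.X₃.iCycles_d i j) (K.X₃.iCycles i ≫ s)
    (by rw [Category.assoc, hs, Category.comp_id]) (K.X₃.iCycles i ≫ s ≫ K.X₂.d i j ≫ r) hx₁
    (j + 1) (by simp)
  have h0 : (K.X₃.iCycles i ≫ s ≫ K.X₂.d i j ≫ r) ≫ K.X₁.d j (j + 1) = 0 := by
    have := hK.mono_f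
    rw [← cancel_mono (K.f.f (j + 1)), Category.assoc, ← K.f.comm, ← Category.assoc, hx₁, Category.assoc,
      Category.assoc, d_comp_d, comp_zero, comp_zero, zero_comp]
  refine ⟨K.X₁.liftCycles (K.X₃.iCycles i ≫ s ≫ K.X₂.d i j ≫ r) (j + 1) (by simp) h0, ?_, ?_⟩
  · rw [liftCycles_i]
  · refine Eq.trans ?_ h2
    have h3 : K.X₃.liftCycles (K.X₃.iCycles i) j ((ComplexShape.up ℕ).next_eq' hij) (K.X₃.iCycles_d i j) = 𝟙 _ := by
      rw [← cancel_mono (K.X₃.iCycles i), liftCycles_i, Category.id_comp]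
    rw [h3, Category.id_comp]

variable (Ψ : B ⥤ C) [Ψ.Additive] [PreservesFiniteLimits Ψ]

/-- `homologyComparison` and connecting maps. -/
@[reassoc]
theorem homologyComparison_δ {K : ShortComplex (CochainComplex B ℕ)} (hK : K.ShortExact)
    (hK' : (K.map (Ψ.mapHomologicalComplex (ComplexShape.up ℕ))).ShortExact)
    (sp : ∀ n, (K.map (HomologicalComplex.eval B (ComplexShape.up ℕ) n)).Splitting)
    (i j : ℕ) (hij : i + 1 = j) :
    hK'.δ i j hij ≫ homologyComparison Ψ K.X₁ j = homologyComparison Ψ K.X₃ i ≫ Ψ.map (hK.δ i j hij) := by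
  let s : K.X₃.X i ⟶ K.X₂.X i := (sp i).s
  let t : K.X₃.X j ⟶ K.X₂.X j := (sp j).s
  let r : K.X₂.X j ⟶ K.X₁.X j := (sp j).r
  have hs : s ≫ K.g.f i = 𝟙 (K.X₃.X i) := (sp i).s_g
  have hr : r ≫ K.f.f j = 𝟙 (K.X₂.X j) - K.g.f j ≫ t := eq_sub_of_add_eq (sp j).id
  obtain ⟨z, hz, hz'⟩ := exists_δ hK i j hij s hs t r hr
  obtain ⟨y, hy, hy'⟩ := exists_δ hK' i j hij (Ψ.map s)
    ((Ψ.map_comp _ _).symm.trans ((congrArg Ψ.map hs).trans (Ψ.map_id _))) (Ψ.map t) (Ψ.map r) (by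
      refine (Ψ.map_comp _ _).symm.trans ((congrArg Ψ.map hr).trans ?_)
      rw [Ψ.map_sub, Ψ.map_id, Ψ.map_comp]
      rfl)
  have hyz : y ≫ cyclesComparison Ψ K.X₁ j = cyclesComparison Ψ K.X₃ i ≫ Ψ.map z := by
    rw [← cancel_mono (Ψ.map (K.X₁.iCycles j))]
    rw [Category.assoc, cyclesComparison_i, Category.assoc, ← Ψ.map_comp, hz, Ψ.map_comp, cyclesComparison_i_assoc]
    refine hy.trans ?_
    congr 1
    simp only [Functor.map_comp]
    rfl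
  have h1 := homologyπ_homologyComparison Ψ K.X₁ j
  have h3 := homologyπ_homologyComparison Ψ K.X₃ i
  have e : Epi (((Ψ.mapHomologicalComplex (ComplexShape.up ℕ)).obj K.X₃).homologyπ i) := inferInstance
  rw [← cancel_epi (((Ψ.mapHomologicalComplex (ComplexShape.up ℕ)).obj K.X₃).homologyπ i)]
  have h4 : ((Ψ.mapHomologicalComplex (ComplexShape.up ℕ)).obj K.X₃).homologyπ i ≫
      hK'.δ i j hij ≫ homologyComparison Ψ K.X₁ j = y ≫ cyclesComparison Ψ K.X₁ j ≫ Ψ.map (K.X₁.homologyπ j) := by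
    have h5 := congrArg (· ≫ homologyComparison Ψ K.X₁ j) hy'
    refine (Category.assoc _ _ _).symm.trans (h5.trans ((Category.assoc _ _ _).trans ?_))
    exact congrArg (y ≫ ·) h1
  refine h4.trans ?_
  rw [reassoc_of% hyz, reassoc_of% h3, ← Ψ.map_comp, ← Ψ.map_comp, hz']

end Cmp

end K557.RDerDelta
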