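import Groth.Agent.SGA4h.K557.HpBc
import Groth.Agent.Etbc.H190.UnitTools

/-!
# Base change maps over strictly local schemes

* `pfc_gsec`: `Γ(Spec A, -)` is exact for `A` strictly henselian local;
* `bijAt_bq_iff`: for `T`, `T'` strictly local, `ψ : T' ⟶ T` with bijective unit on global sections (e.g. `Spec` of a local
  homomorphism), `bq w q G` is bijective on global sections iff `hp m G q` is bijective;
* `bijAt_bq_specOf`: base change along a strict localization is bijective on global sections, in all degrees.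
-/

set_option autoImplicit false
universe u

open CategoryTheory CategoryTheory.Limits AlgebraicGeometry Opposite

noncomputable section

namespace K557.StrictBc

open K557.BcAbs K557.BcQ K557.HpBc K557.DeltaCalc Groth.Agent.Localalg.DeltaFun Groth.Agent.Sga4B
  Groth.Agent.EtpbcB.BCCalc Groth.Agent.EtpbcB.BCIso Groth.Agent.Etcore.HpullCalc
open scoped Groth.Agent.Sga4B.EtAbInst Groth.Agent.Etcore.EtInst

instance pfl_gsec (X : Scheme.{u}) : PreservesFiniteLimits (EtCore.gsec X) := inferInstance

instance add_gsec (X : Scheme.{u}) : (EtCore.gsec X).Additive := inferInstance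

theorem bijective_unitSec_iff' {X Y : Scheme.{u}} (f : X ⟶ Y) (G : EtCoh.Ab Y) :
    IsIso (unitSec f G) ↔ BijAt ((EtCoh.pullPushAdj f).unit.app G) (EtCoh.top Y) := by
  rw [ConcreteCategory.isIso_iff_bijective]
  exact bijective_unitSec_iff f G

/-- If the unit is bijective on global sections then `Γ(Y, -) ≅ Γ(X, f⁻¹ -)`. -/
theorem nonempty_gsecIso {X Y : Scheme.{u}} (f : X ⟶ Y) (h : UB f) :
    Nonempty (EtCore.gsec Y ≅ EtCoh.pull f ⋙ EtCore.gsec X) := by
  have : ∀ G, IsIso ((unitG f).app G) := fun G => (bijective_unitSec_iff' f G).2 (h G)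
  have : IsIso (unitG f) := NatIso.isIso_of_isIso_app _
  exact ⟨asIso (unitG f)⟩

section Strict

variable (A : Type u) [CommRing A] [HenselianLocalRing A] [IsSepClosed (IsLocalRing.ResidueField A)]

/-- Global sections over a strictly local scheme are exact. -/
theorem pfc_gsec : PreservesFiniteColimits (EtCore.gsec (Spec (CommRingCat.of A))) := by
  let p : Spec (CommRingCat.of (IsLocalRing.ResidueField A)) ⟶ Spec (CommRingCat.of A) :=
    Spec.map (CommRingCat.ofHom (IsLocalRing.residue A))
  have hp : p default = IsLocalRing.closedPoint A := by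
    have h0 : ∀ y : PrimeSpectrum (IsLocalRing.ResidueField A),
        PrimeSpectrum.comap (IsLocalRing.residue A) y = IsLocalRing.closedPoint A := by
      intro y
      apply PrimeSpectrum.ext
      have h3 : y.asIdeal = ⊥ := y.asIdeal.eq_bot_of_prime
      rw [PrimeSpectrum.comap_asIdeal, h3]
      exact IsLocalRing.ker_residue
    exact h0 (show PrimeSpectrum (IsLocalRing.ResidueField A) from
      (default : ↥(Spec (CommRingCat.of (IsLocalRing.ResidueField A)))))
  obtain ⟨e⟩ := nonempty_gsecIso p (Groth.Agent.EtpbcB.StrictLocStar.UB_closed p hp)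
  have h1 : PreservesFiniteColimits (EtCore.gsec (Spec (CommRingCat.of (IsLocalRing.ResidueField A)))) :=
    preservesFiniteColimits_of_natIso
      (Groth.Agent.EtpbcB.SepClosedPoint.gammaIsoStalk (IsLocalRing.ResidueField A)).symm
  have h2 : PreservesFiniteColimits (EtCoh.pull p ⋙ EtCore.gsec (Spec (CommRingCat.of (IsLocalRing.ResidueField A)))) :=
    comp_preservesFiniteColimits _ _
  exact preservesFiniteColimits_of_natIso e.symm

end Strict

section Square

variable {P T P' T' : Scheme.{u}} {p : P ⟶ T} {ψ : T' ⟶ T} {p' : P' ⟶ T'} {m : P' ⟶ P}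

theorem isIso_gsec_map_iff {F G : EtCoh.Ab T} (φ : F ⟶ G) :
    IsIso ((EtCore.gsec T).map φ) ↔ BijAt φ (EtCoh.top T) := (bijAt_iff_isIso φ (EtCoh.top T)).symm

theorem bijAt_toRightDerivedZero (F : EtCoh.Ab P) (U : T.Etale) :
    BijAt ((EtCoh.push p).toRightDerivedZero.app F) U := bijAt_of_isIso _ _

theorem bijAt_bq_zero_iff (w : m ≫ p = p' ≫ ψ) (G : EtCoh.Ab P) (U : T'.Etale) :
    BijAt (bq w 0 G) U ↔ BijAt (EtCoh.baseChange0 p ψ p' m w G) U := by
  have h1 := toRightDerivedZero_bq w G
  have i1 : IsIso ((EtCoh.pull ψ).map ((EtCoh.push p).toRightDerivedZero.app G)) := inferInstance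
  have h2 : BijAt ((EtCoh.pull ψ).map ((EtCoh.push p).toRightDerivedZero.app G)) U := bijAt_of_isIso _ _
  have h3 : BijAt ((EtCoh.push p').toRightDerivedZero.app ((EtCoh.pull m).obj G)) U := bijAt_of_isIso _ _
  constructor
  · intro h
    have h4 := bijAt_comp _ _ _ h2 h
    rw [h1] at h4
    exact Groth.Agent.Etbc.H190.UnitTools.bijAt_of_comp_right _ _ _ h3 h4
  · intro h
    refine bijAt_of_comp_left _ _ _ h2 ?_
    rw [h1]
    exact bijAt_comp _ _ _ h h3

variable [PreservesFiniteColimits (EtCore.gsec T)] [PreservesFiniteColimits (EtCore.gsec T')]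

open Groth.Agent.Etcore.EtInst

/-- If the unit is bijective on global sections of `R^q p_* G`, the base change map on global sections is the pullback
map on cohomology, up to isomorphisms. -/
theorem exists_square (w : m ≫ p = p' ≫ ψ) (q : ℕ) (G : EtCoh.Ab P)
    (hψ : BijAt ((EtCoh.pullPushAdj ψ).unit.app ((EtCoh.Rpush p q).obj G)) (EtCoh.top T)) :
    ∃ (a : AddCommGrpCat.of (HH P G q) ≅
        (EtCore.gsec T').obj ((EtCoh.pull ψ).obj ((EtCoh.Rpush p q).obj G)))
      (b : AddCommGrpCat.of (HH P' ((EtCoh.pull m).obj G) q) ≅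
        (EtCore.gsec T').obj ((EtCoh.Rpush p' q).obj ((EtCoh.pull m).obj G))),
      AddCommGrpCat.ofHom (hp m G q) ≫ b.hom = a.hom ≫ (EtCore.gsec T').map (bq w q G) := by
  have h1 : IsIso (unitSec ψ ((EtCoh.Rpush p q).obj G)) := (bijective_unitSec_iff' ψ _).2 hψ
  refine ⟨asIso (kap p q G) ≪≫ asIso (unitSec ψ ((EtCoh.Rpush p q).obj G)),
    asIso (kap p' q ((EtCoh.pull m).obj G)), ?_⟩
  rw [asIso_hom, Iso.trans_hom, asIso_hom, asIso_hom, Category.assoc]
  exact hp_kap w q G

theorem bijAt_bq_iff (w : m ≫ p = p' ≫ ψ) (q : ℕ) (G : EtCoh.Ab P)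
    (hψ : BijAt ((EtCoh.pullPushAdj ψ).unit.app ((EtCoh.Rpush p q).obj G)) (EtCoh.top T)) :
    BijAt (bq w q G) (EtCoh.top T') ↔ Function.Bijective (hp m G q) := by
  obtain ⟨a, b, h⟩ := exists_square w q G hψ
  have h1 : Function.Bijective (hp m G q) ↔ IsIso (AddCommGrpCat.ofHom (hp m G q)) :=
    (ConcreteCategory.isIso_iff_bijective (AddCommGrpCat.ofHom (hp m G q))).symm
  rw [h1, ← isIso_gsec_map_iff, ← isIso_comp_left_iff a.hom, ← h, isIso_comp_right_iff]

end Square

section SpecOf

open Groth.Agent.EtpbcB.StrictLoc Groth.Agent.Etbc.H190.UnitTools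

variable {X Y : Scheme.{u}} (f : X ⟶ Y) [QuasiCompact f] [QuasiSeparated f] (y : Y) (R : Type u) [CommRing R]
  [IsLocalRing R] [Algebra (Y.presheaf.stalk y) R] [IsLocalHom (algebraMap (Y.presheaf.stalk y) R)]
  [Hensel.IsStrictHenselization (Y.presheaf.stalk y) R] [IsSepClosed (IsLocalRing.ResidueField R)]
  {P : Scheme.{u}} {a : P ⟶ X} {b : P ⟶ Spec (CommRingCat.of R)}

/-- The restriction of an injective sheaf to the preimage of a strict localization is acyclic. -/
theorem subsingleton_H_pull (h : IsPullback a b f (Hens2.specOf Y y R)) (J : EtCoh.Ab X) [Injective J] {n : ℕ}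
    (hn : 0 < n) : Subsingleton (EtCoh.H P ((EtCoh.pull a).obj J) n) := by
  obtain ⟨e, he, he'⟩ := Groth.Agent.S0620.exists_iso Y y R
  have h' : IsPullback a (b ≫ e) f (toBase (Hens2.geomPt Y y R)) :=
    IsPullback.of_iso h (Iso.refl _) (Iso.refl _) (asIso e) (Iso.refl _) (by simp) (by simp) (by simp)
      (by simp [he'])
  exact Groth.Agent.Etcore.StalkLimN.subsingleton_H_pull f _ h' J hn

attribute [local instance] comp_preservesFiniteLimits comp_preservesFiniteColimits
open Groth.Agent.Etcore.EtInst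

/-- **Base change along a strict localization** is bijective on global sections, in all degrees. -/
theorem bijAt_bq_specOf (h : IsPullback a b f (Hens2.specOf Y y R)) (q : ℕ) (F : EtCoh.Ab X) :
    BijAt (bq h.w q F) (EtCoh.top _) := by
  have hR : HenselianLocalRing R :=
    Hensel.IsStrictHenselization.henselian (R := Y.presheaf.stalk y) (S := R)
  have hE := pfc_gsec R
  let Φ := postW (bcHom (sqIso h.w) (EtCoh.pullPushAdj a) (EtCoh.pullPushAdj (Hens2.specOf Y y R)))
    (EtCore.gsec (Spec (CommRingCat.of R)))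
  have hs : (((chainD (EtCoh.push f)).postcomp (EtCoh.pull (Hens2.specOf Y y R))).postcomp
      (EtCore.gsec (Spec (CommRingCat.of R)))).Effaceable := fun J _ n =>
    (EtCore.gsec _).map_isZero ((EtCoh.pull _).map_isZero (chainD_eff (EtCoh.push f) J n))
  have ht : (((chainD (EtCoh.push b)).precomp (EtCoh.pull a)).postcomp
      (EtCore.gsec (Spec (CommRingCat.of R)))).Effaceable := fun J _ n => by
    have h1 := subsingleton_H_pull f y R h J (Nat.succ_pos n)
    have h2 : IsZero (AddCommGrpCat.of (HH P ((EtCoh.pull a).obj J) (n + 1))) :=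
      @AddCommGrpCat.isZero_of_subsingleton _ h1
    exact h2.of_iso (asIso (kap b (n + 1) ((EtCoh.pull a).obj J))).symm
  have h0 : IsIso (Φ.app 0) := by
    have : ∀ G, IsIso ((Φ.app 0).app G) := fun G =>
      (isIso_gsec_map_iff (bq h.w 0 G)).2 ((bijAt_bq_zero_iff h.w G _).2
        (baseChange0_specOf_bijAt_top f y R h G))
    exact NatIso.isIso_of_isIso_app _
  have h3 := DeltaHom.isIso hs ht Φ h0 q
  have h4 : IsIso ((Φ.app q).app F) := inferInstance
  exact (isIso_gsec_map_iff (bq h.w q F)).1 h4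

end SpecOf

end K557.StrictBc
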